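/-
A line-preserving permutation of projective space of dimension at least two is semilinear.
-/
import Cfsg.Agent.Lib.KnownSimple.PSLAut.Classification

set_option autoImplicit false

namespace CfsgLib.PSUAut

open Matrix CfsgLib.PSLAut
open scoped LinearAlgebra.Projectivization

variable {F : Type*} [Field F] [Fintype F] {n : ℕ}

local notation "Pn" => ℙ F (Fin n → F)

omit [Fintype F] in
lemma semiPt_submodule (g : GL (Fin n) F) (p : Pn) :
    (semiPt g (RingEquiv.refl F) p).submodule = p.submodule.map (g : Matrix (Fin n) (Fin n) F).mulVecLin := by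
  rw [semiPt, Projectivization.submodule_mk, p.submodule_eq, Submodule.map_span, Set.image_singleton]
  rfl

omit [Fintype F] in
lemma semiPt_le_sup (g : GL (Fin n) F) {a b c : Pn} (hc : c.submodule ≤ a.submodule ⊔ b.submodule) :
    (semiPt g (RingEquiv.refl F) c).submodule ≤
      (semiPt g (RingEquiv.refl F) a).submodule ⊔ (semiPt g (RingEquiv.refl F) b).submodule := by
  rw [semiPt_submodule, semiPt_submodule, semiPt_submodule, ← Submodule.map_sup]
  exact Submodule.map_mono hc

theorem exists_inducedBy_of_lines (hn : 3 ≤ n) {π : Pn ≃ Pn} (hπ : PreservesLines π) :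
    ∃ (g : GL (Fin n) F) (σ : F ≃+* F), InducedBy π g σ := by
  classical
  have he : ∀ i, (Pi.single i 1 : Fin n → F) ≠ 0 := fun i => by simp
  let c : Fin n → (Fin n → F) := fun i => (π (Projectivization.mk F (Pi.single i 1) (he i))).rep
  have hspan : ⊤ ≤ Submodule.span F (Set.range c) := by
    intro w _
    by_cases hw : w = 0
    · rw [hw]; exact zero_mem _
    obtain ⟨p, hp⟩ := π.surjective (Projectivization.mk F w hw)
    have h1 := hπ.mem_sup (fun i => Projectivization.mk F (Pi.single i 1) (he i)) Finset.univ p (by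
      rw [p.submodule_eq, Submodule.span_singleton_le_iff_mem, pi_eq_sum_univ' p.rep]
      refine Submodule.sum_mem _ fun i _ => Submodule.smul_mem _ _
        (Submodule.mem_iSup_of_mem i (Submodule.mem_iSup_of_mem (Finset.mem_univ i) ?_))
      rw [Projectivization.submodule_mk]
      exact Submodule.mem_span_singleton_self _)
    rw [hp, Projectivization.submodule_mk, Submodule.span_singleton_le_iff_mem] at h1
    refine (show _ ≤ Submodule.span F (Set.range c) from iSup₂_le fun i _ => ?_) h1
    rw [Projectivization.submodule_eq, Submodule.span_singleton_le_iff_mem]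
    exact Submodule.subset_span ⟨i, rfl⟩
  have hli : LinearIndependent F c := linearIndependent_of_top_le_span_of_card_eq_finrank hspan (by simp)
  obtain ⟨G, hG⟩ := Matrix.linearIndependent_cols_iff_isUnit.1
    (show LinearIndependent F (Matrix.of fun i j => c j i).col from hli)
  let π₁ : Pn ≃ Pn := π.trans
    { toFun := semiPt G⁻¹ (RingEquiv.refl F), invFun := semiPt G (RingEquiv.refl F)
      left_inv := fun x => semiPt_refl_inv G x
      right_inv := fun x => by rw [semiPt_semiPt, inv_mul_cancel, semiPt_one] }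
  have hπ₁e : ∀ i, π₁ (Projectivization.mk F (Pi.single i 1) (he i)) = Projectivization.mk F (Pi.single i 1) (he i) := by
    intro i
    show semiPt G⁻¹ (RingEquiv.refl F) (π _) = _
    rw [← Projectivization.mk_rep (π (Projectivization.mk F (Pi.single i 1) (he i))), semiPt_mk]
    congr 1
    show ((G⁻¹ : GL (Fin n) F) : Matrix (Fin n) (Fin n) F) *ᵥ (RingEquiv.refl F ∘ c i) = _
    have hG' : (G : Matrix (Fin n) (Fin n) F) *ᵥ Pi.single i 1 = c i := by
      funext k
      simp [hG, mulVec_single]
    rw [show (RingEquiv.refl F ∘ c i) = c i from rfl, ← hG', mulVec_mulVec, Units.inv_mul, one_mulVec]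
  have hπ₁ : PreservesLines π₁ := fun a b c hc => semiPt_le_sup G⁻¹ (hπ a b c hc)
  obtain ⟨z, hz⟩ : ∃ z : Fin n, z = ⟨0, by omega⟩ := ⟨_, rfl⟩
  have hne2 : ∀ i, i ≠ z → (Pi.single z 1 + Pi.single i 1 : Fin n → F) ≠ 0 :=
    fun i hi h => by simpa [Ne.symm hi] using congrFun h z
  have hscal : ∀ i, ∃ d : Fˣ, ∀ hi : i ≠ z, (π₁ (Projectivization.mk F _ (hne2 i hi))).submodule =
      Submodule.span F {(Pi.single z 1 + (d : F) • Pi.single i 1 : Fin n → F)} := by
    intro i
    by_cases hi : i = z
    · exact ⟨1, fun h => absurd hi h⟩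
    have h1 := hπ₁ (Projectivization.mk F _ (he z)) (Projectivization.mk F _ (he i))
      (Projectivization.mk F _ (hne2 i hi)) (by
        simp only [Projectivization.submodule_mk, Submodule.span_singleton_le_iff_mem]
        exact Submodule.add_mem_sup (Submodule.mem_span_singleton_self _) (Submodule.mem_span_singleton_self _))
    rw [hπ₁e, hπ₁e, Projectivization.submodule_mk, Projectivization.submodule_mk] at h1
    obtain ⟨_, ha, _, hb, hab⟩ := Submodule.mem_sup.1 (h1 (rep_mem _))
    obtain ⟨a, rfl⟩ := Submodule.mem_span_singleton.1 ha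
    obtain ⟨b, rfl⟩ := Submodule.mem_span_singleton.1 hb
    have hrep := (π₁ (Projectivization.mk F _ (hne2 i hi))).rep_nonzero
    have hnot : ∀ k (r : F), a • Pi.single z 1 + b • Pi.single i 1 = r • (Pi.single k 1 : Fin n → F) →
        k = z ∨ k = i → False := by
      intro k r hr hk
      rw [hab] at hr
      have hr0 : r ≠ 0 := fun h => hrep (by rw [hr, h, zero_smul])
      have : π₁ (Projectivization.mk F _ (hne2 i hi)) = π₁ (Projectivization.mk F _ (he k)) := by
        rw [hπ₁e, ← Projectivization.mk_rep (π₁ (Projectivization.mk F _ (hne2 i hi))), Projectivization.mk_eq_mk_iff']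
        exact ⟨r, hr.symm⟩
      obtain ⟨e, he'⟩ := (Projectivization.mk_eq_mk_iff' F _ _ _ _).1 (π₁.injective this)
      have q0 := congrFun he' z
      have q1 := congrFun he' i
      rcases hk with rfl | rfl
      · simp [hi, Ne.symm hi] at q0 q1
      · simp [hi, Ne.symm hi] at q0 q1
    have ha0 : a ≠ 0 := fun h => hnot i b (by rw [h, zero_smul, zero_add]) (Or.inr rfl)
    have hb0 : b ≠ 0 := fun h => hnot z a (by rw [h, zero_smul, add_zero]) (Or.inl rfl)
    refine ⟨Units.mk0 (b / a) (div_ne_zero hb0 ha0), fun _ => ?_⟩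
    rw [Projectivization.submodule_eq, ← hab]
    conv_rhs => rw [← Submodule.span_singleton_smul_eq (IsUnit.mk0 a ha0), smul_add, smul_smul, Units.val_mk0,
      mul_div_cancel₀ _ ha0]
  choose d hd using hscal
  let dv : Fin n → Fˣ := fun i => if i = z then 1 else d i
  let D : GL (Fin n) F := ⟨diagonal fun i => (dv i : F), diagonal fun i => ((dv i)⁻¹ : Fˣ), by simp, by simp⟩
  let π₂ : Pn ≃ Pn := π₁.trans
    { toFun := semiPt D⁻¹ (RingEquiv.refl F), invFun := semiPt D (RingEquiv.refl F)
      left_inv := fun x => semiPt_refl_inv D x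
      right_inv := fun x => by rw [semiPt_semiPt, inv_mul_cancel, semiPt_one] }
  have hπ₂ : PreservesLines π₂ := fun a b c hc => semiPt_le_sup D⁻¹ (hπ₁ a b c hc)
  have hDe : ∀ i, ((D⁻¹ : GL (Fin n) F) : Matrix (Fin n) (Fin n) F) *ᵥ Pi.single i 1 =
      ((dv i)⁻¹ : Fˣ).1 • (Pi.single i 1 : Fin n → F) := fun i => by
    show (diagonal fun j => (((dv j)⁻¹ : Fˣ) : F)) *ᵥ Pi.single i 1 = _
    funext k
    rcases eq_or_ne k i with rfl | hk <;> simp [mulVec_diagonal, *]
  have h0 : ∀ i (hi : (Pi.single i 1 : Fin n → F) ≠ 0),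
      (π₂ (Projectivization.mk F (Pi.single i 1) hi)).submodule = Submodule.span F {(Pi.single i 1 : Fin n → F)} := by
    intro i hi
    show (semiPt D⁻¹ (RingEquiv.refl F) (π₁ _)).submodule = _
    rw [hπ₁e, semiPt_mk, Projectivization.submodule_mk, RingEquiv.coe_refl, Function.id_comp, hDe,
      Submodule.span_singleton_smul_eq (Units.isUnit _)]
  have h1' : ∀ i, i ≠ z → ∀ (hi : (Pi.single z 1 + Pi.single i 1 : Fin n → F) ≠ 0),
      (π₂ (Projectivization.mk F _ hi)).submodule = Submodule.span F {(Pi.single z 1 + Pi.single i 1 : Fin n → F)} := by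
    intro i hiz hi
    show (semiPt D⁻¹ (RingEquiv.refl F) (π₁ _)).submodule = _
    have h2 := hd i hiz
    have hne3 : (Pi.single z 1 + (d i : F) • Pi.single i 1 : Fin n → F) ≠ 0 := fun h => by
      simpa [Ne.symm hiz] using congrFun h z
    rw [show π₁ (Projectivization.mk F _ hi) = Projectivization.mk F _ hne3 from
      Projectivization.submodule_injective (h2.trans (Projectivization.submodule_mk _ _).symm), semiPt_mk,
      Projectivization.submodule_mk, RingEquiv.coe_refl, Function.id_comp, mulVec_add, mulVec_smul, hDe, hDe]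
    simp [dv, hiz, smul_smul]
  obtain ⟨σ, hσ⟩ : ∃ σ : F ≃+* F, InducedBy π₂ 1 σ := by
    obtain ⟨m, rfl⟩ : ∃ m, n = m + 3 := ⟨n - 3, by omega⟩
    subst hz
    exact exists_inducedBy_one hπ₂ h0 h1'
  refine ⟨G * D, σ, ?_⟩
  have e : (π : Pn → Pn) = semiPt (G * D) σ := by
    funext x
    have hx : π₂ x = semiPt 1 σ x := congrFun hσ.eq_semiPt x
    have hx' : semiPt D⁻¹ (RingEquiv.refl F) (semiPt G⁻¹ (RingEquiv.refl F) (π x)) = semiPt 1 σ x := hx
    rw [← semiPt_semiPt, ← mul_one D, ← semiPt_semiPt, ← hx', semiPt_refl_inv, semiPt_refl_inv]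
  rw [e]
  exact inducedBy_semiPt _ _

end CfsgLib.PSUAut
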