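/-
Vectors for the standard Hermitian form: orthogonals, test vectors, and the line criteria of the polar space.
-/
import Cfsg.Agent.Lib.KnownSimple.Unitary.Classify
import Cfsg.Agent.Lib.Classical.HermLines
import Cfsg.Agent.Lib.Transvec.HermForm

set_option autoImplicit false

namespace CfsgLib.PSUAut

open Matrix CfsgLib.Transvec CfsgLib.Transvec.Unitary
open CfsgLib.UnitarySpec (sigma_sigma sigma_ne)

variable {F : Type*} [Field F] {n q : ℕ}

local notation "Vn" => Fin n → F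
local notation "h" => Cfsg.hermForm n F q

/-- An isotropic non-zero vector. -/
def Isot (q : ℕ) (v : Fin n → F) : Prop := v ≠ 0 ∧ Cfsg.hermForm n F q v v = 0

variable [Fintype F] (hF : Fintype.card F = q ^ 2) {σ : F ≃+* F} (hσ : ∀ a, σ a = a ^ q)

include hF hσ

lemma hU : Cfsg.Geo.IsUnitaryForm σ (Cfsg.hermForm n F q) :=
  isUnitaryForm_hermForm hσ (sigma_sigma hF hσ) (sigma_ne hF hσ)

lemma hconj (u v : Vn) : h v u = σ (h u v) := (hU hF hσ).herm v u

lemma hadd_left (u v w : Vn) : h (u + v) w = h u w + h v w := (hU hF hσ).add_left u v w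
lemma hsmul_left (a : F) (u w : Vn) : h (a • u) w = a * h u w := (hU hF hσ).smul_left a u w
lemma hadd_right (w u v : Vn) : h w (u + v) = h w u + h w v := add_right' (hU hF hσ) w u v
lemma hsmul_right (a : F) (w u : Vn) : h w (a • u) = σ a * h w u := smul_right' (hU hF hσ) a w u
lemma hsub_left (u v w : Vn) : h (u - v) w = h u w - h v w := sub_left' (hU hF hσ) u v w
lemma hsub_right (w u v : Vn) : h w (u - v) = h w u - h w v := sub_right' (hU hF hσ) w u v
lemma hzero_left (w : Vn) : h 0 w = 0 := zero_left' (hU hF hσ) w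
lemma hzero_right (w : Vn) : h w 0 = 0 := zero_right' (hU hF hσ) w
lemma hcomm (u v : Vn) : h u v = 0 ↔ h v u = 0 := eq_zero_comm (hU hF hσ)
lemma hself (v : Vn) : σ (h v v) = h v v := self_fixed (hU hF hσ) v

lemma eq_zero_of_perp {u : Vn} (hu : ∀ y, h y u = 0) : u = 0 := by
  funext i
  have := hu (Pi.single i 1)
  rwa [hermForm_single hσ, map_eq_zero_iff _ σ.injective] at this

lemma exists_partner {u : Vn} (hu : u ≠ 0) : ∃ y, h y u = 1 := by
  obtain ⟨y, hy⟩ : ∃ y, h y u ≠ 0 := by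
    by_contra hc
    push Not at hc
    exact hu (eq_zero_of_perp hF hσ hc)
  exact ⟨(h y u)⁻¹ • y, by rw [hsmul_left hF hσ, inv_mul_cancel₀ hy]⟩

/-- The linear functional `y ↦ h y u`. -/
noncomputable def lin (u : Vn) : Vn →ₗ[F] F where
  toFun y := h y u
  map_add' x y := hadd_left hF hσ x y u
  map_smul' a y := hsmul_left hF hσ a y u

lemma lin_apply (u y : Vn) : lin hF hσ u y = h y u := rfl

lemma mem_span_pair_of_perp {p r z : Vn} (hz : ∀ y, h y p = 0 → h y r = 0 → h y z = 0) :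
    z ∈ Submodule.span F {p, r} := by
  have h1 : lin hF hσ z ∈ Submodule.span F (Set.range ![lin hF hσ p, lin hF hσ r]) := by
    refine mem_span_of_iInf_ker_le_ker fun y hy => ?_
    simp only [Submodule.mem_iInf, LinearMap.mem_ker] at hy ⊢
    exact hz y (hy 0) (hy 1)
  rw [Matrix.range_cons, Matrix.range_cons, Matrix.range_empty, Set.union_empty, Set.singleton_union,
    Submodule.mem_span_pair] at h1
  obtain ⟨a, b, hab⟩ := h1
  refine Submodule.mem_span_pair.2 ⟨σ a, σ b, ?_⟩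
  rw [← sub_eq_zero]
  refine eq_zero_of_perp hF hσ fun y => ?_
  have := LinearMap.congr_fun hab y
  simp only [LinearMap.add_apply, LinearMap.smul_apply, lin_apply, smul_eq_mul] at this
  rw [hsub_right hF hσ, hadd_right hF hσ, hsmul_right hF hσ, hsmul_right hF hσ, sigma_sigma hF hσ,
    sigma_sigma hF hσ, this, sub_self]

lemma mem_span_single_of_perp {p z : Vn} (hz : ∀ y, h y p = 0 → h y z = 0) : z ∈ Submodule.span F {p} := by
  have := mem_span_pair_of_perp hF hσ (p := p) (r := p) fun y h1 _ => hz y h1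
  rwa [Set.pair_eq_singleton] at this

lemma exists_perp {k : ℕ} (v : Fin k → Vn) (hk : k < n) : ∃ e : Vn, e ≠ 0 ∧ ∀ i, h e (v i) = 0 := by
  obtain ⟨e, he, he0⟩ := Submodule.exists_mem_ne_zero_of_ne_bot
    (LinearMap.ker_ne_bot_of_finrank_lt (f := LinearMap.pi fun i => lin hF hσ (v i)) (by simpa using hk))
  exact ⟨e, he0, fun i => congrFun (LinearMap.mem_ker.1 he) i⟩

/-- An isotropic vector with given non-zero product, by moving along an isotropic vector. -/
lemma exists_iso_shift {y z : Vn} (hz : h z z = 0) (hy : h y z = 1) :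
    ∃ a : F, h (y + a • z) (y + a • z) = 0 ∧ h (y + a • z) z = 1 ∧ y + a • z ≠ 0 := by
  obtain ⟨a, ha⟩ := exists_trace_eq (sigma_ne hF hσ) (sigma_sigma hF hσ) (b := -(h y y))
    (by rw [map_neg, hself hF hσ])
  have hzy : h z y = 1 := by rw [hconj hF hσ y z, hy, map_one]
  have h1 : h (y + a • z) z = 1 := by rw [hadd_left hF hσ, hsmul_left hF hσ, hy, hz, mul_zero, add_zero]
  refine ⟨a, ?_, h1, fun h0 => ?_⟩
  · rw [hadd_left hF hσ, hadd_right hF hσ, hadd_right hF hσ, hsmul_left hF hσ, hsmul_left hF hσ,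
      hsmul_right hF hσ, hsmul_right hF hσ, hy, hzy, hz]
    linear_combination ha
  · rw [h0, hzero_left hF hσ] at h1
    exact zero_ne_one h1

/-- The general source of isotropic test vectors in a non-degenerate subspace of dimension at least two. -/
lemma exists_iso_test_in (W : Submodule F Vn)
    (hW : ∀ u ∈ W, u ≠ 0 → ∃ y ∈ W, h y u ≠ 0)
    (hdim : ∀ m ∈ W, ∃ e ∈ W, e ≠ 0 ∧ h e m = 0) {m : Vn} (hm : m ∈ W) (hm0 : m ≠ 0) :
    ∃ y ∈ W, Isot q y ∧ h y m ≠ 0 := by
  by_cases hmm : h m m = 0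
  · obtain ⟨y, hy, hym⟩ := hW m hm hm0
    obtain ⟨a, ha, ha1, hane⟩ := exists_iso_shift hF hσ hmm (y := (h y m)⁻¹ • y)
      (by rw [hsmul_left hF hσ, inv_mul_cancel₀ hym])
    exact ⟨_, W.add_mem (W.smul_mem _ hy) (W.smul_mem _ hm), ⟨hane, ha⟩, by rw [ha1]; exact one_ne_zero⟩
  obtain ⟨e₁, he₁, he₁0, he₁m⟩ := hdim m hm
  obtain ⟨e, he, hem, hee⟩ : ∃ e ∈ W, h e m = 0 ∧ h e e ≠ 0 := by
    by_cases hee : h e₁ e₁ = 0
    swap
    · exact ⟨e₁, he₁, he₁m, hee⟩
    obtain ⟨y, hy, hye⟩ := hW e₁ he₁ he₁0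
    obtain ⟨y', hy', hy'm, hy'e⟩ : ∃ y' ∈ W, h y' m = 0 ∧ h y' e₁ = 1 := by
      refine ⟨(h y e₁)⁻¹ • (y - (h y m / h m m) • m), W.smul_mem _ (W.sub_mem hy (W.smul_mem _ hm)), ?_, ?_⟩
      · rw [hsmul_left hF hσ, hsub_left hF hσ, hsmul_left hF hσ, div_mul_cancel₀ _ hmm, sub_self, mul_zero]
      · rw [hsmul_left hF hσ, hsub_left hF hσ, hsmul_left hF hσ, (hcomm hF hσ e₁ m).1 he₁m, mul_zero,
          sub_zero, inv_mul_cancel₀ hye]
    by_cases hy'y : h y' y' = 0
    swap
    · exact ⟨y', hy', hy'm, hy'y⟩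
    obtain ⟨a, ha⟩ := exists_trace_ne_zero (sigma_ne hF hσ)
    refine ⟨y' + a • e₁, W.add_mem hy' (W.smul_mem _ he₁), ?_, ?_⟩
    · rw [hadd_left hF hσ, hsmul_left hF hσ, hy'm, he₁m, mul_zero, add_zero]
    · rw [hadd_left hF hσ, hadd_right hF hσ, hadd_right hF hσ, hsmul_left hF hσ, hsmul_left hF hσ,
        hsmul_right hF hσ, hsmul_right hF hσ, hee, hy'y, hy'e, hconj hF hσ y' e₁, hy'e, map_one]
      intro h0
      exact ha (by linear_combination h0)
  obtain ⟨c, hc⟩ := exists_norm_eq (sigma_ne hF hσ) (sigma_sigma hF hσ) (b := -(h m m / h e e))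
    (by rw [map_neg, map_div₀, hself hF hσ, hself hF hσ])
  have hme : h m e = 0 := (hcomm hF hσ e m).1 hem
  have h1 : h (m + c • e) m = h m m := by rw [hadd_left hF hσ, hsmul_left hF hσ, hem, mul_zero, add_zero]
  refine ⟨m + c • e, W.add_mem hm (W.smul_mem _ he), ⟨fun h0 => hmm ?_, ?_⟩, by rw [h1]; exact hmm⟩
  · rw [← h1, h0, hzero_left hF hσ]
  · rw [hadd_left hF hσ, hadd_right hF hσ, hadd_right hF hσ, hsmul_left hF hσ, hsmul_left hF hσ,
      hsmul_right hF hσ, hsmul_right hF hσ, hem, hme, mul_zero, mul_zero, add_zero, zero_add, ← mul_assoc, hc,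
      neg_mul, div_mul_cancel₀ _ hee, add_neg_cancel]

/-- The isotropic vectors orthogonal to an anisotropic one span its orthogonal. -/
lemma mem_span_of_iso_test (hn : 3 ≤ n) {w : Vn} (hw : h w w ≠ 0) {z : Vn}
    (hz : ∀ y, Isot q y → h y w = 0 → h y z = 0) : z ∈ Submodule.span F {w} := by
  set m := z - (h z w / h w w) • w with hm
  by_contra hc
  have hm0 : m ≠ 0 := fun h0 => hc (by
    rw [sub_eq_zero.1 h0]; exact Submodule.smul_mem _ _ (Submodule.mem_span_singleton_self w))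
  have hmw : h m w = 0 := by rw [hm, hsub_left hF hσ, hsmul_left hF hσ, div_mul_cancel₀ _ hw, sub_self]
  obtain ⟨y, hy, hyi, hym⟩ := exists_iso_test_in hF hσ (LinearMap.ker (lin hF hσ w))
    (fun u hu hu0 => by
      obtain ⟨y, hy⟩ := exists_partner hF hσ hu0
      refine ⟨y - (h y w / h w w) • w, ?_, ?_⟩
      · rw [LinearMap.mem_ker, lin_apply, hsub_left hF hσ, hsmul_left hF hσ, div_mul_cancel₀ _ hw, sub_self]
      · rw [hsub_left hF hσ, hsmul_left hF hσ, hy, (hcomm hF hσ u w).1 hu, mul_zero, sub_zero]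
        exact one_ne_zero)
    (fun m _ => by
      obtain ⟨e, he0, he⟩ := exists_perp hF hσ ![w, m] (by omega)
      exact ⟨e, he 0, he0, he 1⟩)
    hmw hm0
  have hyw : h y w = 0 := hy
  refine hym ?_
  rw [hm, hsub_right hF hσ, hsmul_right hF hσ, hz y hyi hyw, hyw, mul_zero, sub_zero]

/-- Points of a hyperbolic line are detected by the isotropic vectors orthogonal to it. -/
lemma chord_criterion (hn : 4 ≤ n) {u v : Vn} (hu : h u u = 0) (hv : h v v = 0) (huv : h u v ≠ 0) {z : Vn}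
    (hz : ∀ y, Isot q y → h y u = 0 → h y v = 0 → h y z = 0) : z ∈ Submodule.span F {u, v} := by
  have hvu : h v u ≠ 0 := fun h0 => huv ((hcomm hF hσ v u).1 h0)
  let pr : Vn → Vn := fun y => y - (h y v / h u v) • u - (h y u / h v u) • v
  have hpr : ∀ y, h (pr y) u = 0 ∧ h (pr y) v = 0 := fun y => by
    constructor <;>
      simp only [pr, hsub_left hF hσ, hsmul_left hF hσ, hu, hv, mul_zero, sub_zero, div_mul_cancel₀ _ hvu,
        div_mul_cancel₀ _ huv, sub_self]
  have hpr' : ∀ y x, h x u = 0 → h x v = 0 → h (pr y) x = h y x := fun y x hx1 hx2 => by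
    simp only [pr, hsub_left hF hσ, hsmul_left hF hσ, (hcomm hF hσ x u).1 hx1, (hcomm hF hσ x v).1 hx2,
      mul_zero, sub_zero]
  by_contra hc
  have hm0 : pr z ≠ 0 := fun h0 => hc (by
    simp only [pr, sub_sub, sub_eq_zero] at h0
    rw [h0]
    exact Submodule.add_mem _ (Submodule.smul_mem _ _ (Submodule.subset_span (by simp)))
      (Submodule.smul_mem _ _ (Submodule.subset_span (by simp))))
  obtain ⟨y, hy, hyi, hym⟩ := exists_iso_test_in hF hσ (LinearMap.ker (lin hF hσ u) ⊓ LinearMap.ker (lin hF hσ v))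
    (fun x hx hx0 => by
      obtain ⟨y, hy⟩ := exists_partner hF hσ hx0
      refine ⟨pr y, ⟨(hpr y).1, (hpr y).2⟩, ?_⟩
      rw [hpr' y x hx.1 hx.2, hy]
      exact one_ne_zero)
    (fun m _ => by
      obtain ⟨e, he0, he⟩ := exists_perp hF hσ ![u, v, m] (by omega)
      exact ⟨e, ⟨he 0, he 1⟩, he0, he 2⟩)
    (m := pr z) ⟨(hpr z).1, (hpr z).2⟩ hm0
  refine hym ?_
  rw [hconj hF hσ (pr z) y, hpr' z y hy.1 hy.2, ← hconj hF hσ z y]
  exact hz y hyi hy.1 hy.2

/-- Collinearity of isotropic points in terms of orthogonality. -/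
lemma line_criterion (hn : 4 ≤ n) {u v z : Vn} (hu : Isot q u) (hv : Isot q v) (hz : Isot q z) :
    z ∈ Submodule.span F {u, v} ↔ ∀ y, Isot q y → h y u = 0 → h y v = 0 → h y z = 0 := by
  constructor
  · intro hm y _ h1 h2
    obtain ⟨a, b, rfl⟩ := Submodule.mem_span_pair.1 hm
    rw [hadd_right hF hσ, hsmul_right hF hσ, hsmul_right hF hσ, h1, h2, mul_zero, mul_zero, add_zero]
  intro hall
  by_cases huv : h u v = 0
  swap
  · exact chord_criterion hF hσ hn hu.2 hv.2 huv hall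
  have hzu : h z u = 0 := (hcomm hF hσ u z).1 (hall u hu hu.2 huv)
  have hzv : h z v = 0 := (hcomm hF hσ v z).1 (hall v hv ((hcomm hF hσ u v).1 huv) hv.2)
  refine mem_span_pair_of_perp hF hσ fun y h1 h2 => ?_
  by_contra hyz
  obtain ⟨a, ha, ha1, hane⟩ := exists_iso_shift hF hσ hz.2 (y := (h y z)⁻¹ • y)
    (by rw [hsmul_left hF hσ, inv_mul_cancel₀ hyz])
  have := hall _ ⟨hane, ha⟩ (by rw [hadd_left hF hσ, hsmul_left hF hσ, hsmul_left hF hσ, h1, hzu, mul_zero, mul_zero, add_zero])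
    (by rw [hadd_left hF hσ, hsmul_left hF hσ, hsmul_left hF hσ, h2, hzv, mul_zero, mul_zero, add_zero])
  rw [ha1] at this
  exact one_ne_zero this

/-- An orthogonal pair of anisotropic points is witnessed by a hyperbolic line. -/
lemma exists_chord_through (hn : 3 ≤ n) {w z : Vn} (hw : h w w ≠ 0) (hz : h z z ≠ 0) (hzw : h z w = 0) :
    ∃ a b : Vn, Isot q a ∧ Isot q b ∧ h a w = 0 ∧ h b w = 0 ∧ h a b ≠ 0 ∧ z ∈ Submodule.span F {a, b} := by
  have hwz : h w z = 0 := (hcomm hF hσ z w).1 hzw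
  obtain ⟨e, he, hee⟩ : ∃ e, (h e w = 0 ∧ h e z = 0) ∧ h e e ≠ 0 := by
    obtain ⟨e₀, he₀, he⟩ := exists_perp hF hσ ![w, z] (by omega)
    by_cases hee : h e₀ e₀ = 0
    swap
    · exact ⟨e₀, ⟨he 0, he 1⟩, hee⟩
    obtain ⟨y₀, hy₀⟩ := exists_partner hF hσ he₀
    set y := y₀ - (h y₀ w / h w w) • w - (h y₀ z / h z z) • z with hy
    have hew : h w e₀ = 0 := (hcomm hF hσ e₀ w).1 (he 0)
    have hez : h z e₀ = 0 := (hcomm hF hσ e₀ z).1 (he 1)
    have hye : h y e₀ = 1 := by
      rw [hy, hsub_left hF hσ, hsub_left hF hσ, hsmul_left hF hσ, hsmul_left hF hσ, hew, hez, mul_zero, mul_zero,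
        sub_zero, sub_zero, hy₀]
    have hyw : h y w = 0 := by
      rw [hy, hsub_left hF hσ, hsub_left hF hσ, hsmul_left hF hσ, hsmul_left hF hσ, hzw, mul_zero, sub_zero,
        div_mul_cancel₀ _ hw, sub_self]
    have hyz : h y z = 0 := by
      rw [hy, hsub_left hF hσ, hsub_left hF hσ, hsmul_left hF hσ, hsmul_left hF hσ, hwz, mul_zero, sub_zero,
        div_mul_cancel₀ _ hz, sub_self]
    by_cases hyy : h y y = 0
    swap
    · exact ⟨y, ⟨hyw, hyz⟩, hyy⟩
    obtain ⟨a, ha⟩ := exists_trace_ne_zero (sigma_ne hF hσ)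
    have hew' : h e₀ w = 0 := he 0
    have hez' : h e₀ z = 0 := he 1
    refine ⟨y + a • e₀, ⟨?_, ?_⟩, ?_⟩
    · rw [hadd_left hF hσ, hsmul_left hF hσ, hyw, hew', mul_zero, add_zero]
    · rw [hadd_left hF hσ, hsmul_left hF hσ, hyz, hez', mul_zero, add_zero]
    · rw [hadd_left hF hσ, hadd_right hF hσ, hadd_right hF hσ, hsmul_left hF hσ, hsmul_left hF hσ,
        hsmul_right hF hσ, hsmul_right hF hσ, hee, hyy, hye, hconj hF hσ y e₀, hye, map_one]
      intro h0
      exact ha (by linear_combination h0)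
  have hez2 : h z e = 0 := (hcomm hF hσ e z).1 he.2
  obtain ⟨c, hc⟩ := exists_norm_eq (sigma_ne hF hσ) (sigma_sigma hF hσ) (b := -(h z z / h e e))
    (by rw [map_neg, map_div₀, hself hF hσ, hself hF hσ])
  have hq := CfsgLib.Classical.two_le_q hF
  obtain ⟨l, hl, hl1⟩ : ∃ l : F, l * σ l = 1 ∧ l ≠ 1 := by
    haveI : Finite {x : F // x ^ (q + 1) = 1} := inferInstance
    obtain ⟨⟨l, hl⟩, hne⟩ : ∃ x : {x : F // x ^ (q + 1) = 1}, x ≠ ⟨1, one_pow _⟩ := by
      haveI : Nontrivial {x : F // x ^ (q + 1) = 1} :=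
        Finite.one_lt_card_iff_nontrivial.1 (by rw [CfsgLib.Classical.card_norm_one hF]; omega)
      exact exists_ne _
    exact ⟨l, by rw [hσ, ← pow_succ', hl], fun e => hne (Subtype.ext e)⟩
  have hnorm : ∀ d : F, d * σ d = -(h z z / h e e) → Isot q (z + d • e) ∧ h (z + d • e) w = 0 := by
    intro d hd
    refine ⟨⟨fun h0 => hz ?_, ?_⟩, ?_⟩
    · have : h (z + d • e) z = h z z := by rw [hadd_left hF hσ, hsmul_left hF hσ, he.2, mul_zero, add_zero]
      rw [← this, h0, hzero_left hF hσ]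
    · rw [hadd_left hF hσ, hadd_right hF hσ, hadd_right hF hσ, hsmul_left hF hσ, hsmul_left hF hσ,
        hsmul_right hF hσ, hsmul_right hF hσ, he.2, hez2, mul_zero, mul_zero, add_zero, zero_add, ← mul_assoc, hd,
        neg_mul, div_mul_cancel₀ _ hee, add_neg_cancel]
    · rw [hadd_left hF hσ, hsmul_left hF hσ, hzw, he.1, mul_zero, add_zero]
  have hc0 : c ≠ 0 := by
    rintro rfl
    rw [zero_mul] at hc
    exact (div_ne_zero hz hee) (neg_eq_zero.1 hc.symm)
  have hcl : c * l * σ (c * l) = -(h z z / h e e) := by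
    rw [map_mul, ← hc]; linear_combination (c * σ c) * hl
  have hneq : c * l - c ≠ 0 := by
    rw [sub_ne_zero]; exact fun e1 => hl1 (mul_left_cancel₀ hc0 (e1.trans (mul_one c).symm))
  refine ⟨_, _, (hnorm c hc).1, (hnorm (c * l) hcl).1, (hnorm c hc).2, (hnorm (c * l) hcl).2, ?_, ?_⟩
  · rw [hadd_left hF hσ, hadd_right hF hσ, hadd_right hF hσ, hsmul_left hF hσ, hsmul_left hF hσ,
      hsmul_right hF hσ, hsmul_right hF hσ, he.2, hez2, mul_zero, mul_zero, add_zero, zero_add]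
    intro h0
    have h1 : c * σ c * h e e = -h z z := by rw [hc, neg_mul, div_mul_cancel₀ _ hee]
    have h2 : (σ l - 1) * h z z = 0 := by
      rw [map_mul] at h0; linear_combination σ l * h1 - h0
    refine hl1 (σ.injective ?_)
    rw [map_one]
    exact sub_eq_zero.1 ((mul_eq_zero.1 h2).resolve_right hz)
  · refine Submodule.mem_span_pair.2 ⟨c * l / (c * l - c), -c / (c * l - c), ?_⟩
    rw [smul_add, smul_add, smul_smul, smul_smul]
    calc (c * l / (c * l - c)) • z + (c * l / (c * l - c) * c) • e +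
          ((-c / (c * l - c)) • z + (-c / (c * l - c) * (c * l)) • e)
        = (c * l / (c * l - c) + -c / (c * l - c)) • z +
          (c * l / (c * l - c) * c + -c / (c * l - c) * (c * l)) • e := by module
      _ = z := by
        rw [show c * l / (c * l - c) + -c / (c * l - c) = 1 by rw [← add_div, ← sub_eq_add_neg, div_self hneq],
          show c * l / (c * l - c) * c + -c / (c * l - c) * (c * l) = 0 by ring, one_smul, zero_smul, add_zero]

end CfsgLib.PSUAut
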