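/-
The unital and its higher analogues are generated, as linear spaces, by as many points as the dimension.
-/
import Cfsg.Agent.Lib.KnownSimple.PSUAut.Vec

set_option autoImplicit false

namespace CfsgLib.PSUAut

open Matrix CfsgLib.Transvec CfsgLib.Transvec.Unitary
open CfsgLib.UnitarySpec (sigma_sigma sigma_ne)

variable {F : Type*} [Field F] {n q : ℕ}

/-- A set of vectors closed under isotropic vectors on the line of two isotropic members. -/
def Closed (q : ℕ) (C : (Fin n → F) → Prop) : Prop :=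
  ∀ u v z, Isot q u → Isot q v → C u → C v → Isot q z → z ∈ Submodule.span F {u, v} → C z

/-- `k` isotropic vectors generating all of them in dimension `k`. -/
def Gen (F : Type*) [Field F] (q k : ℕ) : Prop :=
  ∃ G : Fin k → (Fin k → F), (∀ i, Isot q (G i)) ∧
    ∀ C : (Fin k → F) → Prop, Closed q C → (∀ i, C (G i)) → ∀ z, Isot q z → C z

variable [Fintype F] (hF : Fintype.card F = q ^ 2) {σ : F ≃+* F} (hσ : ∀ a, σ a = a ^ q)

include hF hσ

lemma card_trace_zero : Nat.card {x : F // x + σ x = 0} = q := by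
  classical
  have hq := CfsgLib.Classical.two_le_q hF
  let φ : F →+ F := AddMonoidHom.id F + σ.toAddEquiv.toAddMonoidHom
  have hφ : ∀ x, φ x = x + σ x := fun x => rfl
  have hk : Nat.card φ.ker ≤ q := by
    refine le_trans (Nat.card_le_card_of_injective (β := ↥((Polynomial.X ^ q + Polynomial.X : Polynomial F).roots.toFinset))
      (fun x => ⟨x.1, ?_⟩) fun x y e => Subtype.ext (congrArg Subtype.val e :)) ?_
    · have hx : x.1 + σ x.1 = 0 := x.2
      rw [hσ, add_comm] at hx
      rw [Multiset.mem_toFinset, Polynomial.mem_roots]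
      · simpa using hx
      · intro e
        have := congrArg Polynomial.natDegree e
        rw [Polynomial.natDegree_add_eq_left_of_natDegree_lt (by simp; omega)] at this
        simp at this
        omega
    · rw [Nat.card_eq_fintype_card, Fintype.card_coe]
      refine (Multiset.toFinset_card_le _).trans ((Polynomial.card_roots' _).trans ?_)
      rw [Polynomial.natDegree_add_eq_left_of_natDegree_lt (by simp; omega)]
      simp
  have hr : Nat.card φ.range ≤ q := by
    refine le_trans (Nat.card_le_card_of_injective (β := ↥((Polynomial.X ^ q - Polynomial.X : Polynomial F).roots.toFinset))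
      (fun x => ⟨x.1, ?_⟩) fun x y e => Subtype.ext (congrArg Subtype.val e :)) ?_
    · obtain ⟨y, hy⟩ := x.2
      have hx : σ x.1 = x.1 := by rw [← hy, hφ, map_add, sigma_sigma hF hσ, add_comm]
      rw [hσ] at hx
      rw [Multiset.mem_toFinset, Polynomial.mem_roots (FiniteField.X_pow_card_sub_X_ne_zero F (by omega))]
      simp [hx]
    · rw [Nat.card_eq_fintype_card, Fintype.card_coe]
      refine (Multiset.toFinset_card_le _).trans ((Polynomial.card_roots' _).trans ?_)
      rw [FiniteField.X_pow_card_sub_X_natDegree_eq F (by omega)]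
  have h1 : Nat.card φ.range * Nat.card φ.ker = q ^ 2 := by
    rw [← hF, ← Nat.card_eq_fintype_card, ← Nat.card_congr (QuotientAddGroup.quotientKerEquivRange φ).toEquiv,
      ← AddSubgroup.card_eq_card_quotient_mul_card_addSubgroup]
  have h2 : Nat.card φ.ker = q := by
    refine le_antisymm hk ?_
    by_contra hlt
    push Not at hlt
    nlinarith
  exact h2

lemma gen_two : Gen F q 2 := by
  classical
  have hq := CfsgLib.Classical.two_le_q hF
  obtain ⟨c, hc⟩ := exists_norm_eq (sigma_ne hF hσ) (sigma_sigma hF hσ) (b := (-1 : F)) (by simp)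
  obtain ⟨⟨l, hl⟩, hne⟩ : ∃ x : {x : F // x ^ (q + 1) = 1}, x ≠ ⟨1, one_pow _⟩ := by
    haveI : Nontrivial {x : F // x ^ (q + 1) = 1} :=
      Finite.one_lt_card_iff_nontrivial.1 (by rw [CfsgLib.Classical.card_norm_one hF]; omega)
    exact exists_ne _
  have hl' : l * σ l = 1 := by rw [hσ, ← pow_succ', hl]
  have hl1 : l ≠ 1 := fun e => hne (Subtype.ext e)
  have hc0 : c ≠ 0 := by rintro rfl; simp at hc
  have hiso : ∀ d : F, d * σ d = -1 → Isot q (![d, 1] : Fin 2 → F) := by
    intro d hd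
    refine ⟨fun e => one_ne_zero (congrFun e 1), ?_⟩
    rw [hermForm_eq hσ, Fin.sum_univ_two]
    simp [hd]
  have hcl : c * l * σ (c * l) = -1 := by rw [map_mul]; linear_combination (c * σ c) * hl' + hc
  refine ⟨![![c, 1], ![c * l, 1]], fun i => ?_, fun C hC hG z hz => ?_⟩
  · fin_cases i
    · exact hiso c hc
    · exact hiso _ hcl
  have hneq : c * l - c ≠ 0 := by
    rw [sub_ne_zero]; exact fun e1 => hl1 (mul_left_cancel₀ hc0 (e1.trans (mul_one c).symm))
  refine hC _ _ z (hiso c hc) (hiso _ hcl) (hG 0) (hG 1) hz (Submodule.mem_span_pair.2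
    ⟨(c * l * z 1 - z 0) / (c * l - c), (z 0 - c * z 1) / (c * l - c), ?_⟩)
  funext i
  fin_cases i
  · simp only [Fin.zero_eta, Pi.add_apply, Pi.smul_apply, smul_eq_mul, Matrix.cons_val_zero]
    field_simp
    ring
  · simp only [Fin.mk_one, Pi.add_apply, Pi.smul_apply, smul_eq_mul, Matrix.cons_val_one, Matrix.cons_val_fin_one, mul_one]
    field_simp
    ring

set_option maxHeartbeats 1000000 in
lemma gen_succ {m : ℕ} (hm : 1 ≤ m) (hG : Gen F q (m + 1)) : Gen F q (m + 2) := by
  classical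
  obtain ⟨G, hGiso, hGgen⟩ := hG
  have hq := CfsgLib.Classical.two_le_q hF
  obtain ⟨c, hc⟩ := exists_norm_eq (sigma_ne hF hσ) (sigma_sigma hF hσ) (b := (-1 : F)) (by simp)
  have hc0 : c ≠ 0 := by rintro rfl; simp at hc
  let emb : (Fin (m + 1) → F) → (Fin (m + 2) → F) := fun u => Fin.snoc u 0
  have hemb : ∀ u v, Cfsg.hermForm (m + 2) F q (emb u) (emb v) = Cfsg.hermForm (m + 1) F q u v := by
    intro u v
    rw [hermForm_eq hσ, hermForm_eq hσ, Fin.sum_univ_castSucc]
    simp [emb]
  have hemb0 : ∀ u, emb u = 0 → u = 0 := fun u e => funext fun i => by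
    have := congrFun e i.castSucc
    simpa [emb] using this
  have hembI : ∀ u, Isot q u → Isot q (emb u) := fun u hu => ⟨fun e => hu.1 (hemb0 u e), (hemb u u).trans hu.2⟩
  let a : Fin (m + 2) → F := Fin.snoc (Pi.single 0 c) 1
  have ha_last : a (Fin.last _) = 1 := by simp [a]
  have haI : Isot q a := by
    refine ⟨fun e => one_ne_zero (ha_last.symm.trans (congrFun e _)), ?_⟩
    rw [hermForm_eq hσ, Fin.sum_univ_castSucc]
    simp only [a, Fin.snoc_castSucc, Fin.snoc_last, map_one, mul_one]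
    rw [Finset.sum_eq_single 0 (fun k _ hk => by simp [hk]) (by simp)]
    simp [hc]
  have hau : ∀ u, Cfsg.hermForm (m + 2) F q a (emb u) = c * σ (u 0) := by
    intro u
    rw [hermForm_eq hσ, Fin.sum_univ_castSucc]
    simp only [a, emb, Fin.snoc_castSucc, Fin.snoc_last, map_zero, mul_zero, add_zero]
    rw [Finset.sum_eq_single 0 (fun k _ hk => by simp [hk]) (by simp)]
    simp
  refine ⟨Fin.snoc (fun i => emb (G i)) a, fun i => ?_, fun C hC hCG => ?_⟩
  · induction i using Fin.lastCases with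
    | last => simpa using haI
    | cast i => simpa using hembI _ (hGiso i)
  have hCa : C a := by simpa using hCG (Fin.last _)
  have hCemb : ∀ u, Isot q u → C (emb u) := by
    refine hGgen (fun u => C (emb u)) ?_ fun i => by simpa using hCG i.castSucc
    intro u v z hu hv hCu hCv hz hm'
    obtain ⟨x, y, rfl⟩ := Submodule.mem_span_pair.1 hm'
    refine hC _ _ _ (hembI u hu) (hembI v hv) hCu hCv (hembI _ hz) (Submodule.mem_span_pair.2 ⟨x, y, ?_⟩)
    funext i
    induction i using Fin.lastCases with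
    | last => simp [emb]
    | cast i => simp [emb]
  intro p hp
  by_contra hCp
  let A := {u : Fin (m + 1) → F // Isot q u}
  let S := {t : F // t ≠ 0} ⊕ Σ u : A, {t : F // t * (c * σ (u.1 0)) + σ (t * (c * σ (u.1 0))) = 0}
  let zmap : S → (Fin (m + 2) → F) := Sum.elim (fun t => t.1 • a) (fun x => x.2.1 • a + emb x.1.1)
  have hzlast : ∀ (t : F) (u : Fin (m + 1) → F), (t • a + emb u) (Fin.last _) = t := by
    intro t u; simp [emb, ha_last]
  have hz : ∀ s, Isot q (zmap s) ∧ C (zmap s) := by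
    rintro (⟨t, ht⟩ | ⟨⟨u, hu⟩, t, ht⟩)
    · have hi : Isot q (t • a) := ⟨smul_ne_zero ht haI.1, by
        rw [hsmul_left hF hσ, hsmul_right hF hσ, haI.2, mul_zero, mul_zero]⟩
      exact ⟨hi, hC a a _ haI haI hCa hCa hi (Submodule.smul_mem _ _ (Submodule.subset_span (by simp)))⟩
    · have hi : Isot q (t • a + emb u) := by
        refine ⟨fun e => ?_, ?_⟩
        · have h1 : t = 0 := by rw [← hzlast t u, e]; rfl
          rw [h1, zero_smul, zero_add] at e
          exact hu.1 (hemb0 u e)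
        · rw [hadd_left hF hσ, hadd_right hF hσ, hadd_right hF hσ, hsmul_left hF hσ, hsmul_left hF hσ,
            hsmul_right hF hσ, hsmul_right hF hσ, haI.2, (hembI u hu).2, hconj hF hσ a (emb u), hau]
          rw [map_mul] at ht
          linear_combination ht
      exact ⟨hi, hC a _ _ haI (hembI u hu) hCa (hCemb u hu) hi
        (Submodule.mem_span_pair.2 ⟨t, 1, by simp [zmap]⟩)⟩
  have hzinj : Function.Injective zmap := by
    rintro (⟨t, ht⟩ | ⟨⟨u, hu⟩, t, ht⟩) (⟨t', ht'⟩ | ⟨⟨u', hu'⟩, t', ht'⟩) e <;> simp only [zmap, Sum.elim_inl, Sum.elim_inr] at e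
    · exact congrArg Sum.inl (Subtype.ext (smul_left_injective F haI.1 e))
    · exfalso
      have h1 : t = t' := by
        have := congrFun e (Fin.last _)
        rw [hzlast] at this
        simpa [ha_last] using this
      subst h1
      exact hu'.1 (hemb0 u' (by rwa [left_eq_add] at e))
    · exfalso
      have h1 : t = t' := by
        have := congrFun e (Fin.last _)
        rw [hzlast] at this
        simpa [ha_last] using this
      subst h1
      exact hu.1 (hemb0 u (by rwa [add_eq_left] at e))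
    · have h1 : t = t' := by rw [← hzlast t u, e, hzlast]
      subst h1
      rw [add_right_inj] at e
      have h2 : u = u' := funext fun i => by
        have := congrFun e i.castSucc
        simpa [emb] using this
      subst h2
      rfl
  let T := {y : Fin (m + 2) → F // Cfsg.hermForm (m + 2) F q y p ≠ 0} ⊕
    {w : Fin (m + 2) → F // w ∉ Submodule.span F {p} ∧
      Cfsg.hermForm (m + 2) F q w p = 0 ∧ Cfsg.hermForm (m + 2) F q w w = 0}
  have hnp : ∀ (s : S) (r : F), zmap s + r • p ∉ Submodule.span F {p} := by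
    intro s r hmem
    obtain ⟨d, hd⟩ := Submodule.mem_span_singleton.1 hmem
    have h1 : zmap s = (d - r) • p := by rw [sub_smul, hd, add_sub_cancel_right]
    have hne : d - r ≠ 0 := fun e => (hz s).1.1 (by rw [h1, e, zero_smul])
    exact hCp (hC _ _ p (hz s).1 (hz s).1 (hz s).2 (hz s).2 hp (by
      rw [Set.pair_eq_singleton, h1, Submodule.span_singleton_smul_eq (IsUnit.mk0 _ hne)]
      exact Submodule.mem_span_singleton_self p))
  let Φ : S × F → T := fun x =>
    if e : Cfsg.hermForm (m + 2) F q (zmap x.1 + x.2 • p) p ≠ 0 then Sum.inl ⟨_, e⟩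
    else Sum.inr ⟨zmap x.1 + x.2 • p, hnp x.1 x.2, not_not.1 e, by
      have e' : Cfsg.hermForm (m + 2) F q (zmap x.1) p = 0 := by
        have := not_not.1 e
        rwa [hadd_left hF hσ, hsmul_left hF hσ, hp.2, mul_zero, add_zero] at this
      rw [hadd_left hF hσ, hadd_right hF hσ, hadd_right hF hσ, hsmul_left hF hσ, hsmul_left hF hσ,
        hsmul_right hF hσ, hsmul_right hF hσ, hp.2, (hz x.1).1.2, e', (hcomm hF hσ _ _).1 e']
      ring⟩
  have hΦ : Function.Injective Φ := by
    rintro ⟨s, r⟩ ⟨s', r'⟩ e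
    have h1 : zmap s + r • p = zmap s' + r' • p := by
      have hval : ∀ x, Sum.elim (fun y => y.1) (fun y => y.1) (Φ x) = zmap x.1 + x.2 • p := by
        intro x
        simp only [Φ]
        split_ifs <;> rfl
      rw [← hval ⟨s, r⟩, ← hval ⟨s', r'⟩, e]
    by_cases hr : r = r'
    · subst hr
      rw [hzinj (add_right_cancel h1)]
    exfalso
    refine hCp (hC _ _ p (hz s).1 (hz s').1 (hz s).2 (hz s').2 hp
      (Submodule.mem_span_pair.2 ⟨(r' - r)⁻¹, -(r' - r)⁻¹, ?_⟩))
    rw [neg_smul, ← sub_eq_add_neg, ← smul_sub, show zmap s - zmap s' = (r' - r) • p by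
      linear_combination (norm := module) h1, smul_smul, inv_mul_cancel₀ (sub_ne_zero.2 (Ne.symm hr)), one_smul]
  have hle := Nat.card_le_card_of_injective Φ hΦ
  -- the counts
  have hcA : Nat.card A + 1 = CfsgLib.Classical.hermCount (m + 1) F q 0 := by
    show Nat.card {u : Fin (m + 1) → F // Isot q u} + 1 = _
    rw [CfsgLib.Classical.hermCount]
    have h0 : {u : Fin (m + 1) → F | Isot q u} =
        {u : Fin (m + 1) → F | Cfsg.hermForm (m + 1) F q u u = 0} \ {0} := by
      ext u; simp [Isot, and_comm]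
    rw [show Nat.card {u : Fin (m + 1) → F // Isot q u} = _ from congrArg (fun s : Set _ => Nat.card s) h0,
      Nat.card_coe_set_eq, Set.ncard_sdiff_singleton_add_one (show (0 : Fin (m + 1) → F) ∈ {u : Fin (m + 1) → F | Cfsg.hermForm (m + 1) F q u u = 0} from hzero_left hF hσ 0)]
    rfl
  have hcA0 : Nat.card {u : A // u.1 0 = 0} + 1 = CfsgLib.Classical.hermCount m F q 0 := by
    have e1 : Nat.card {u : A // u.1 0 = 0} = Nat.card {v : Fin m → F // Isot q v} := by
      refine Nat.card_congr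
        { toFun := fun u => ⟨Fin.tail u.1.1, ?_⟩
          invFun := fun v => ⟨⟨Fin.cons 0 v.1, ?_⟩, rfl⟩
          left_inv := fun u => Subtype.ext (Subtype.ext ?_)
          right_inv := fun v => Subtype.ext ?_ }
      · refine ⟨fun e => u.1.2.1 ?_, ?_⟩
        · rw [← Fin.cons_self_tail u.1.1, e, u.2]; funext i; cases i using Fin.cases <;> simp
        · have := u.1.2.2
          rw [hermForm_eq hσ, Fin.sum_univ_succ, u.2, zero_mul, zero_add] at this
          rw [hermForm_eq hσ]; exact this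
      · refine ⟨fun e => v.2.1 (funext fun i => congrFun e i.succ), ?_⟩
        rw [hermForm_eq hσ, Fin.sum_univ_succ]
        simp only [Fin.cons_zero, zero_mul, zero_add, Fin.cons_succ]
        rw [← hermForm_eq hσ]; exact v.2.2
      · show Fin.cons 0 (Fin.tail u.1.1) = u.1.1
        conv_rhs => rw [← Fin.cons_self_tail u.1.1]
        congr 1
        exact u.2.symm
      · simp
    rw [e1, CfsgLib.Classical.hermCount]
    have h0 : {u : Fin m → F | Isot q u} = {u : Fin m → F | Cfsg.hermForm m F q u u = 0} \ {0} := by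
      ext u; simp [Isot, and_comm]
    rw [show Nat.card {u : Fin m → F // Isot q u} = _ from congrArg (fun s : Set _ => Nat.card s) h0,
      Nat.card_coe_set_eq, Set.ncard_sdiff_singleton_add_one (show (0 : Fin m → F) ∈ {u : Fin m → F | Cfsg.hermForm m F q u u = 0} from hzero_left hF hσ 0)]
    rfl
  have hfib : ∀ u : A, Nat.card {t : F // t * (c * σ (u.1 0)) + σ (t * (c * σ (u.1 0))) = 0} =
      if u.1 0 = 0 then q ^ 2 else q := by
    intro u
    split_ifs with hu0
    · rw [← hF, ← Nat.card_eq_fintype_card]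
      exact Nat.card_congr (Equiv.subtypeUnivEquiv fun t => by rw [hu0]; simp)
    · refine Eq.trans ?_ (card_trace_zero hF hσ)
      have hne : c * σ (u.1 0) ≠ 0 := mul_ne_zero hc0 (by simpa using hu0)
      exact Nat.card_congr (Equiv.subtypeEquiv (Equiv.mulRight₀ _ hne) fun t => Iff.rfl)
  have hcS : Nat.card S + q * Nat.card {u : A // u.1 0 = 0} + 1 =
      q ^ 2 + q ^ 2 * Nat.card {u : A // u.1 0 = 0} + q * Nat.card A := by
    rw [Nat.card_sum, Nat.card_sigma, Finset.sum_congr rfl fun u _ => hfib u, Finset.sum_ite, Finset.sum_const,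
      Finset.sum_const, smul_eq_mul, smul_eq_mul, ← Fintype.card_subtype, ← Fintype.card_subtype,
      Nat.card_eq_fintype_card (α := {t : F // t ≠ 0}), Fintype.card_subtype_compl, Fintype.card_subtype_eq, hF,
      ← Nat.card_eq_fintype_card, ← Nat.card_eq_fintype_card]
    have h1 : Nat.card {u : A // u.1 0 = 0} + Nat.card {u : A // ¬ u.1 0 = 0} = Nat.card A := by
      rw [← Nat.card_sum]; exact Nat.card_congr (Equiv.sumCompl _)
    rw [← h1]
    have : 1 ≤ q ^ 2 := Nat.one_le_pow _ _ (by omega)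
    zify [this]
    ring
  have hcT : Nat.card T + (q ^ 2) ^ (m + 1) + q ^ 2 = (q ^ 2) ^ (m + 2) + q ^ 2 * CfsgLib.Classical.hermCount m F q 0 := by
    rw [Nat.card_sum, ← CfsgLib.Classical.card_iso_perp hF m hp.1 hp.2]
    have hk : Nat.card {y : Fin (m + 2) → F // Cfsg.hermForm (m + 2) F q y p = 0} = (q ^ 2) ^ (m + 1) := by
      have hr : Module.finrank F (LinearMap.range (lin hF hσ p)) = 1 := by
        rw [LinearMap.range_eq_top.2 fun x => ?_, finrank_top, Module.finrank_self]
        obtain ⟨y, hy⟩ := exists_partner hF hσ hp.1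
        exact ⟨x • y, by rw [map_smul, lin_apply, hy, smul_eq_mul, mul_one]⟩
      have h2 := (lin hF hσ p).finrank_range_add_finrank_ker
      rw [hr, Module.finrank_fin_fun] at h2
      refine (Nat.card_congr (Equiv.subtypeEquivRight fun y => ?_)).trans
        ((Module.natCard_eq_pow_finrank (K := F) (V := LinearMap.ker (lin hF hσ p))).trans ?_)
      · rw [LinearMap.mem_ker, lin_apply]
      · rw [show Module.finrank F (LinearMap.ker (lin hF hσ p)) = m + 1 by omega, Nat.card_eq_fintype_card, hF]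
    have htot : Nat.card {y : Fin (m + 2) → F // Cfsg.hermForm (m + 2) F q y p = 0} +
        Nat.card {y : Fin (m + 2) → F // Cfsg.hermForm (m + 2) F q y p ≠ 0} = (q ^ 2) ^ (m + 2) := by
      rw [← Nat.card_sum, Nat.card_congr (Equiv.sumCompl _), Nat.card_fun, Nat.card_eq_fintype_card (α := F), hF,
        Nat.card_fin]
    rw [← htot, hk]
    ring
  rw [Nat.card_prod, Nat.card_eq_fintype_card (α := F), hF] at hle
  obtain ⟨m', rfl⟩ : ∃ m', m = m' + 1 := ⟨m - 1, by omega⟩
  have hfA := (CfsgLib.Classical.hermCount_formula hF (m' + 1)).2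
  have hg0 : 1 ≤ CfsgLib.Classical.hermCount (m' + 1) F q 0 := by omega
  set f : ℤ := (CfsgLib.Classical.hermCount (m' + 1 + 1) F q 0 : ℤ) with hf
  set g : ℤ := (CfsgLib.Classical.hermCount (m' + 1) F q 0 : ℤ) with hg
  have hA : (Nat.card A : ℤ) = f - 1 := by rw [hf, ← hcA]; push_cast; ring
  have hA0 : (Nat.card {u : A // u.1 0 = 0} : ℤ) = g - 1 := by rw [hg, ← hcA0]; push_cast; ring
  have hS : (Nat.card S : ℤ) = (q : ℤ) * (f - g) + (q : ℤ) ^ 2 * g - 1 := by
    have : ((Nat.card S + q * Nat.card {u : A // u.1 0 = 0} + 1 : ℕ) : ℤ) = _ := congrArg Nat.cast hcS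
    push_cast at this
    rw [hA, hA0] at this
    linear_combination this
  have hT : (Nat.card T : ℤ) = ((q : ℤ) ^ 2) ^ (m' + 1 + 2) - ((q : ℤ) ^ 2) ^ (m' + 1 + 1) + (q : ℤ) ^ 2 * g - (q : ℤ) ^ 2 := by
    have : ((Nat.card T + (q ^ 2) ^ (m' + 1 + 1) + q ^ 2 : ℕ) : ℤ) = _ := congrArg Nat.cast hcT
    push_cast at this
    linear_combination this
  have hineq : (Nat.card S : ℤ) * (q : ℤ) ^ 2 ≤ Nat.card T := by exact_mod_cast hle
  rw [hS, hT] at hineq
  have hQ : (2 : ℤ) ≤ q := by exact_mod_cast hq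
  have key : ((q : ℤ) * (f - g) + (q : ℤ) ^ 2 * g - 1) - (((q : ℤ) ^ 2) ^ (m' + 1 + 1) - ((q : ℤ) ^ 2) ^ (m' + 1) + g - 1) ≤ 0 := by
    have h1 : (q : ℤ) ^ 2 * (((q : ℤ) * (f - g) + (q : ℤ) ^ 2 * g - 1) -
        (((q : ℤ) ^ 2) ^ (m' + 1 + 1) - ((q : ℤ) ^ 2) ^ (m' + 1) + g - 1)) ≤ 0 := by
      ring_nf at hineq ⊢; linarith
    nlinarith
  have hfv : (q : ℤ) * f = ((q : ℤ) ^ 2) ^ (m' + 1 + 1) +
      (-1) ^ m' * ((q : ℤ) ^ (m' + 3) - (q : ℤ) ^ (m' + 2)) := by
    rw [hfA]
    have h2 : (-1 : ℤ) ^ (m' * 2) = 1 := by rw [pow_mul', neg_one_sq, one_pow]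
    ring_nf
    rw [h2]
    ring
  have hgpos : (1 : ℤ) ≤ g := by rw [hg]; exact_mod_cast hg0
  have h3 : (0 : ℤ) ≤ ((q : ℤ) ^ 2 - q - 1) * g := mul_nonneg (by nlinarith) (by linarith)
  have h4 : (0 : ℤ) < ((q : ℤ) ^ 2) ^ (m' + 1) + (-1) ^ m' * ((q : ℤ) ^ (m' + 3) - (q : ℤ) ^ (m' + 2)) := by
    rcases Nat.eq_zero_or_pos m' with rfl | hm'
    · norm_num
      nlinarith
    · have h5 : (q : ℤ) ^ (m' + 3) ≤ ((q : ℤ) ^ 2) ^ (m' + 1) := by
        rw [← pow_mul]; exact pow_le_pow_right₀ (by linarith) (by omega)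
      have h6 : (0 : ℤ) < (q : ℤ) ^ (m' + 2) := by positivity
      have h7 : (q : ℤ) ^ (m' + 2) ≤ (q : ℤ) ^ (m' + 3) := pow_le_pow_right₀ (by linarith) (by omega)
      rcases neg_one_pow_eq_or ℤ m' with hs | hs <;> rw [hs] <;> nlinarith
  nlinarith

lemma gen_all : ∀ k, 2 ≤ k → Gen F q k
  | 2, _ => gen_two hF hσ
  | m + 3, _ => gen_succ hF hσ (m := m + 1) (by omega) (gen_all (m + 2) (by omega))

/-- The isotropic vectors orthogonal to an anisotropic vector are generated by `n - 1` of them. -/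
lemma gen_perp (hn : 3 ≤ n) {w : Fin n → F} (hw : Cfsg.hermForm n F q w w ≠ 0) :
    ∃ G : Fin (n - 1) → (Fin n → F), (∀ i, Isot q (G i) ∧ Cfsg.hermForm n F q (G i) w = 0) ∧
      ∀ C : (Fin n → F) → Prop, Closed q C → (∀ i, C (G i)) →
        ∀ z, Isot q z → Cfsg.hermForm n F q z w = 0 → C z := by
  obtain ⟨b, hb, hbW⟩ := CfsgLib.Classical.exists_orthonormal_span hF (LinearMap.ker (lin hF hσ w))
    fun u hu hu0 => eq_zero_of_perp hF hσ fun y => by
      have h1 := hu0 (y - (Cfsg.hermForm n F q y w / Cfsg.hermForm n F q w w) • w) (by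
        rw [LinearMap.mem_ker, lin_apply, hsub_left hF hσ, hsmul_left hF hσ, div_mul_cancel₀ _ hw, sub_self])
      have hu' : Cfsg.hermForm n F q u w = 0 := hu
      rw [hsub_right hF hσ, hsmul_right hF hσ, hu', mul_zero, sub_zero] at h1
      exact (hcomm hF hσ u y).1 h1
  have hdim : Module.finrank F (LinearMap.ker (lin hF hσ w)) = n - 1 := by
    have hr : Module.finrank F (LinearMap.range (lin hF hσ w)) = 1 := by
      rw [LinearMap.range_eq_top.2 fun x => ⟨(x / Cfsg.hermForm n F q w w) • w, by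
        rw [map_smul, lin_apply, smul_eq_mul, div_mul_cancel₀ _ hw]⟩, finrank_top, Module.finrank_self]
    have h2 := (lin hF hσ w).finrank_range_add_finrank_ker
    rw [hr, Module.finrank_fin_fun] at h2
    omega
  suffices H : ∃ G : Fin (Module.finrank F (LinearMap.ker (lin hF hσ w))) → (Fin n → F),
      (∀ i, Isot q (G i) ∧ Cfsg.hermForm n F q (G i) w = 0) ∧
        ∀ C : (Fin n → F) → Prop, Closed q C → (∀ i, C (G i)) →
          ∀ z, Isot q z → Cfsg.hermForm n F q z w = 0 → C z by
    obtain ⟨G, h1, h2⟩ := H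
    exact ⟨fun i => G (Fin.cast hdim.symm i), fun i => h1 _, fun C hC hCG => h2 C hC fun i => by
      simpa using hCG (Fin.cast hdim i)⟩
  let φ : (Fin (Module.finrank F (LinearMap.ker (lin hF hσ w))) → F) →ₗ[F] (Fin n → F) := Fintype.linearCombination F b
  have hφ : ∀ a, φ a = ∑ i, a i • b i := fun a => Fintype.linearCombination_apply F b a
  have hφh : ∀ a a', Cfsg.hermForm n F q (φ a) (φ a') = Cfsg.hermForm (Module.finrank F (LinearMap.ker (lin hF hσ w))) F q a a' := by
    intro a a'
    rw [hφ, CfsgLib.Classical.hermForm_sum_left, hermForm_eq hσ (n := Module.finrank F (LinearMap.ker (lin hF hσ w)))]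
    refine Finset.sum_congr rfl fun i _ => ?_
    congr 1
    rw [hconj hF hσ (φ a') (b i), hφ, CfsgLib.Classical.hermForm_sum_left]
    simp [hb, map_sum, apply_ite σ]
  have hφ0 : ∀ a, φ a = 0 → a = 0 := fun a e =>
    eq_zero_of_perp hF hσ fun y => by rw [← hφh, e, hzero_right hF hσ]
  have hmem : ∀ a, Cfsg.hermForm n F q (φ a) w = 0 := fun a => by
    have : φ a ∈ LinearMap.ker (lin hF hσ w) := hbW.le <| by
      rw [hφ]
      exact Submodule.sum_mem _ fun i _ => Submodule.smul_mem _ _ (Submodule.subset_span ⟨i, rfl⟩)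
    exact this
  obtain ⟨G, hG, hgen⟩ := gen_all hF hσ (Module.finrank F (LinearMap.ker (lin hF hσ w))) (by omega)
  have hφI : ∀ a, Isot q a → Isot q (φ a) := fun a ha => ⟨fun e => ha.1 (hφ0 a e), (hφh a a).trans ha.2⟩
  refine ⟨fun i => φ (G i), fun i => ⟨hφI _ (hG i), hmem _⟩, fun C hC hCG z hz hzw => ?_⟩
  obtain ⟨a, rfl⟩ : ∃ a, φ a = z := by
    have : z ∈ Submodule.span F (Set.range b) := by rw [hbW]; exact hzw
    obtain ⟨a, ha⟩ := (Submodule.mem_span_range_iff_exists_fun F).1 this
    exact ⟨a, (hφ a).trans ha⟩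
  refine hgen (fun a => C (φ a)) ?_ hCG a ⟨fun e => hz.1 (by rw [e, map_zero]), (hφh a a).symm.trans hz.2⟩
  intro u v x hu hv hCu hCv hx hm
  refine hC _ _ _ (hφI u hu) (hφI v hv) hCu hCv (hφI x hx) ?_
  obtain ⟨s, t, rfl⟩ := Submodule.mem_span_pair.1 hm
  exact Submodule.mem_span_pair.2 ⟨s, t, by simp⟩

end CfsgLib.PSUAut
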