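/-
Transvection groups, unipotent radicals, and centres of Sylow subgroups in SU and PSU.
-/
import Cfsg.Agent.Lib.KnownSimple.PSUAut.Vec

set_option autoImplicit false

namespace CfsgLib.PSUAut

open Matrix CfsgLib.Transvec CfsgLib.Transvec.Unitary
open CfsgLib.UnitarySpec (sigma_sigma sigma_ne psuMk)

variable {F : Type*} [Field F] {n q : ℕ}

local notation "Vn" => Fin n → F
local notation "h" => Cfsg.hermForm n F q
local notation "SUn" => (Cfsg.SU n F q)

/-- The action on vectors. -/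
def act (g : SUn) (y : Vn) : Vn := (g.1 : Matrix (Fin n) (Fin n) F) *ᵥ y

lemma act_mul (g g' : SUn) (y : Vn) : act (g * g') y = act g (act g' y) := by
  simp [act, mulVec_mulVec]

lemma act_one (y : Vn) : act (1 : SUn) y = y := by simp [act]
lemma act_add (g : SUn) (y z : Vn) : act g (y + z) = act g y + act g z := mulVec_add _ _ _
lemma act_sub (g : SUn) (y z : Vn) : act g (y - z) = act g y - act g z := mulVec_sub _ _ _
lemma act_smul (g : SUn) (a : F) (y : Vn) : act g (a • y) = a • act g y := mulVec_smul _ _ _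
lemma act_inv_apply (g : SUn) (y : Vn) : act g⁻¹ (act g y) = y := by rw [← act_mul, inv_mul_cancel, act_one]
lemma act_apply_inv (g : SUn) (y : Vn) : act g (act g⁻¹ y) = y := by rw [← act_mul, mul_inv_cancel, act_one]

lemma act_form (g : SUn) (u v : Vn) : h (act g u) (act g v) = h u v := g.2 u v

lemma act_ext {g g' : SUn} (e : ∀ y, act g y = act g' y) : g = g' :=
  Subtype.ext (Subtype.ext (Matrix.ext_of_mulVec_single fun _ => e _))

lemma act_zero (g : SUn) : act g (0 : Vn) = 0 := mulVec_zero _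

lemma act_ne_zero (g : SUn) {y : Vn} (hy : y ≠ 0) : act g y ≠ 0 := fun e => hy (by
  rw [← act_inv_apply g y, e, act_zero])

lemma Isot.act {v : Vn} (g : SUn) (hv : Isot q v) : Isot q (act g v) :=
  ⟨act_ne_zero g hv.1, (act_form g v v).trans hv.2⟩

/-- The transvections with centre `v`. -/
def tSU (v : Vn) : Subgroup SUn where
  carrier := {g | ∀ y, act g y - y ∈ Submodule.span F {v} ∧ (h y v = 0 → act g y = y)}
  one_mem' y := ⟨by rw [act_one, sub_self]; exact zero_mem _, fun _ => act_one y⟩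
  mul_mem' {a b} ha hb y := by
    refine ⟨?_, fun hy => by rw [act_mul, (hb y).2 hy, (ha y).2 hy]⟩
    rw [act_mul, show act a (act b y) - y = (act a (act b y) - act b y) + (act b y - y) by abel]
    exact add_mem (ha _).1 (hb _).1
  inv_mem' {a} ha y := by
    refine ⟨?_, fun hy => by conv_lhs => rw [← (ha y).2 hy, act_inv_apply]⟩
    have hs : ∀ z ∈ Submodule.span F {v}, act a⁻¹ z ∈ Submodule.span F {v} := by
      intro z hz
      obtain ⟨c, rfl⟩ := Submodule.mem_span_singleton.1 hz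
      rw [act_smul]
      refine Submodule.smul_mem _ _ ?_
      obtain ⟨d, hd⟩ := Submodule.mem_span_singleton.1 (ha v).1
      have h1 : act a v = (d + 1) • v := by rw [add_smul, one_smul, hd, sub_add_cancel]
      by_cases h0 : d + 1 = 0
      · rw [h0, zero_smul] at h1
        by_cases hv : v = 0
        · rw [hv, act_zero]; exact zero_mem _
        · exact absurd h1 (act_ne_zero a hv)
      · have h2 := congrArg (act a⁻¹) h1
        rw [act_inv_apply, act_smul] at h2
        rw [show act a⁻¹ v = (d + 1)⁻¹ • v by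
          conv_rhs => rw [h2, smul_smul, inv_mul_cancel₀ h0, one_smul]]
        exact Submodule.smul_mem _ _ (Submodule.mem_span_singleton_self v)
    have h3 := hs _ (ha (act a⁻¹ y)).1
    rw [act_sub, act_apply_inv] at h3
    have h4 : act a⁻¹ y - y ∈ Submodule.span F {v} := by
      have := (ha (act a⁻¹ y)).1
      rw [act_apply_inv] at this
      simpa using neg_mem this
    exact h4

/-- Transvection groups in `PSU`. -/
def tP (v : Vn) : Subgroup (Cfsg.PSU n F q) := (tSU v).map psuMk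

lemma tSU_smul {a : F} (ha : a ≠ 0) (v : Vn) (hq : ∀ y, h y (a • v) = 0 ↔ h y v = 0) :
    (tSU (a • v) : Subgroup SUn) = tSU v := by
  ext g
  show (∀ y, _ ∧ _) ↔ ∀ y, _ ∧ _
  rw [Submodule.span_singleton_smul_eq (IsUnit.mk0 a ha)]
  simp only [hq]

lemma tSU_conj (g : SUn) {t : SUn} {v : Vn} (ht : t ∈ tSU v) : g * t * g⁻¹ ∈ tSU (act g v) := by
  intro y
  obtain ⟨h1, h2⟩ := ht (act g⁻¹ y)
  refine ⟨?_, fun hy => ?_⟩
  · obtain ⟨d, hd⟩ := Submodule.mem_span_singleton.1 h1
    rw [act_mul, act_mul]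
    refine Submodule.mem_span_singleton.2 ⟨d, ?_⟩
    rw [← act_smul, hd, act_sub, act_apply_inv]
  · rw [act_mul, act_mul, h2 ?_, act_apply_inv]
    rw [← act_form g, act_apply_inv]
    exact hy

variable [Fintype F] (hF : Fintype.card F = q ^ 2) {σ : F ≃+* F} (hσ : ∀ a, σ a = a ^ q)

include hF hσ

lemma tP_smul {a : F} (ha : a ≠ 0) (v : Vn) : (tP (a • v) : Subgroup (Cfsg.PSU n F q)) = tP v := by
  rw [tP, tP, tSU_smul ha v fun y => by rw [hsmul_right hF hσ, mul_eq_zero_iff_left (by simpa using ha)]]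

lemma tP_conj (g : SUn) (v : Vn) :
    (tP v).map (MulAut.conj (psuMk g)).toMonoidHom = (tP (act g v) : Subgroup (Cfsg.PSU n F q)) := by
  have _ := hF; have _ := hσ
  ext x
  constructor
  · rintro ⟨_, ⟨t, ht, rfl⟩, rfl⟩
    exact ⟨g * t * g⁻¹, tSU_conj g ht, by simp⟩
  · rintro ⟨t, ht, rfl⟩
    refine ⟨psuMk (g⁻¹ * t * g⁻¹⁻¹), ⟨_, ?_, rfl⟩, ?_⟩
    · have := tSU_conj g⁻¹ ht
      rwa [act_inv_apply] at this
    · simp [mul_assoc]

lemma mem_tSU_iff {v : Vn} (hv : Isot q v) (g : SUn) :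
    g ∈ tSU v ↔ ∃ c : F, c + σ c = 0 ∧ ∀ y, act g y = y + (c * h y v) • v := by
  constructor
  · intro hg
    obtain ⟨y₀, hy₀⟩ := exists_partner hF hσ hv.1
    obtain ⟨c, hc⟩ := Submodule.mem_span_singleton.1 (hg y₀).1
    have hform : ∀ y, act g y = y + (c * h y v) • v := by
      intro y
      have h1 := (hg (y - h y v • y₀)).2 (by rw [hsub_left hF hσ, hsmul_left hF hσ, hy₀, mul_one, sub_self])
      rw [act_sub, act_smul] at h1
      have h2 : act g y₀ = y₀ + c • v := by rw [hc]; abel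
      rw [h2] at h1
      linear_combination (norm := module) h1
    refine ⟨c, ?_, hform⟩
    have h1 := act_form g y₀ y₀
    rw [hform, hy₀, mul_one, hadd_left hF hσ, hadd_right hF hσ, hadd_right hF hσ, hsmul_left hF hσ,
      hsmul_left hF hσ, hsmul_right hF hσ, hsmul_right hF hσ, hy₀, hconj hF hσ y₀ v, hy₀, map_one, hv.2] at h1
    linear_combination h1
  · rintro ⟨c, -, hc⟩ y
    rw [hc]
    refine ⟨?_, fun hy => by rw [hy, mul_zero, zero_smul, add_zero]⟩
    rw [add_sub_cancel_left]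
    exact Submodule.smul_mem _ _ (Submodule.mem_span_singleton_self v)

lemma exists_tSU {v : Vn} (hv : Isot q v) {c : F} (hc : c + σ c = 0) :
    ∃ g : SUn, ∀ y, act g y = y + (c * h y v) • v := by
  obtain ⟨h1, h2⟩ := uT_mem_SU hσ (sigma_sigma hF hσ) (sigma_ne hF hσ) hv.2 hc
  refine ⟨CfsgLib.Classical.suMk _ ((mem_specialLinear_iff _).1 h2) h1, fun y => ?_⟩
  exact uT_mulVec (hU hF hσ) hv.2 c y

lemma exists_nontrivial_tSU {v : Vn} (hv : Isot q v) :
    ∃ g : SUn, g ∈ tSU v ∧ ∀ y, h y v ≠ 0 → act g y ≠ y := by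
  obtain ⟨c, hc0, hc⟩ := exists_skew (sigma_ne hF hσ) (sigma_sigma hF hσ)
  obtain ⟨g, hg⟩ := exists_tSU hF hσ hv hc
  refine ⟨g, (mem_tSU_iff hF hσ hv g).2 ⟨c, hc, hg⟩, fun y hy e => ?_⟩
  rw [hg, add_eq_left, smul_eq_zero] at e
  rcases e with e | e
  · exact mul_ne_zero hc0 hy e
  · exact hv.1 e

lemma exists_scalar (hn : 2 ≤ n) {g g' : SUn} (e : psuMk g = psuMk g') :
    ∃ c : F, ∀ y, act g' y = c • act g y := by
  obtain ⟨z, hz, hgz⟩ := (QuotientGroup.mk'_eq_mk' _).1 e
  rw [Subgroup.mem_center_iff] at hz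
  have := CfsgLib.Classical.eq_scalar_of_commute hF hn (z.1 : Matrix (Fin n) (Fin n) F) fun s =>
    congrArg (fun x : SUn => (x.1 : Matrix (Fin n) (Fin n) F)) (hz s)
  refine ⟨(z.1 : Matrix (Fin n) (Fin n) F) ⟨0, by omega⟩ ⟨0, by omega⟩, fun y => ?_⟩
  rw [← hgz, act_mul, ← act_smul]
  congr 1
  show (z.1 : Matrix (Fin n) (Fin n) F) *ᵥ y = _
  conv_lhs => rw [this]
  simp [scalar_apply, ← smul_one_eq_diagonal, smul_mulVec]

lemma psuMk_eq_of_scalar {g g' : SUn} {c : F} (e : ∀ y, act g' y = c • act g y) : psuMk g = psuMk g' := by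
  have _ := hF; have _ := hσ
  refine (QuotientGroup.mk'_eq_mk' _).2 ⟨g⁻¹ * g', Subgroup.mem_center_iff.2 fun s => act_ext fun y => ?_,
    mul_inv_cancel_left _ _⟩
  have hz : ∀ y, act (g⁻¹ * g') y = c • y := fun y => by rw [act_mul, e, act_smul, act_inv_apply]
  rw [act_mul s, act_mul (g⁻¹ * g') s, hz, hz, act_smul]

/-- Two elements which agree modulo scalars and fix a common vector are equal. -/
lemma eq_of_psuMk (hn : 2 ≤ n) {g g' : SUn} (e : psuMk g = psuMk g') {y : Vn} (hy : y ≠ 0)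
    (h1 : act g y = y) (h2 : act g' y = y) : g = g' := by
  obtain ⟨c, hc⟩ := exists_scalar hF hσ hn e
  have h3 := hc y
  rw [h1, h2] at h3
  have : (c - 1) • y = 0 := by rw [sub_smul, one_smul, ← h3, sub_self]
  have hc1 : c = 1 := sub_eq_zero.1 ((smul_eq_zero.1 this).resolve_right hy)
  exact act_ext fun z => by rw [hc z, hc1, one_smul]

lemma exists_common_perp (hn : 3 ≤ n) (u v : Vn) : ∃ e : Vn, e ≠ 0 ∧ h e u = 0 ∧ h e v = 0 := by
  obtain ⟨e, he0, he⟩ := exists_perp hF hσ ![u, v] (by omega)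
  exact ⟨e, he0, he 0, he 1⟩

/-- Commutation modulo scalars with a transvection is commutation. -/
lemma commute_lift (hn : 3 ≤ n) {v : Vn} {g t : SUn} (ht : t ∈ tSU v)
    (e : Commute (psuMk g) (psuMk t)) : Commute g t := by
  have ht' := tSU_conj g ht
  obtain ⟨y, hy, h1, h2⟩ := exists_common_perp hF hσ hn v (act g v)
  have he : psuMk (g * t * g⁻¹) = psuMk t := by rw [map_mul, map_mul, map_inv, e.eq, mul_inv_cancel_right]
  have := eq_of_psuMk hF hσ (by omega) he hy ((ht' y).2 h2) ((ht y).2 h1)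
  exact mul_inv_eq_iff_eq_mul.1 this

lemma commute_tSU_of_fix {v : Vn} (hv : Isot q v) {g t : SUn} {a : F} (ha : act g v = a • v)
    (ha1 : a * σ a = 1) (ht : t ∈ tSU v) : Commute g t := by
  obtain ⟨c, -, hc⟩ := (mem_tSU_iff hF hσ hv t).1 ht
  refine act_ext fun y => ?_
  rw [act_mul, act_mul, hc, hc, act_add, act_smul, ha, smul_smul]
  congr 2
  have h1 : h (act g y) (act g v) = h y v := act_form g y v
  rw [ha, hsmul_right hF hσ] at h1
  linear_combination c * h (act g y) v * ha1 - c * a * h1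

lemma fix_of_commute_tSU {v : Vn} (hv : Isot q v) {g : SUn}
    (hg : ∀ t ∈ tSU v, Commute g t) : ∃ a : F, act g v = a • v ∧ a * σ a = 1 := by
  obtain ⟨c, hc0, hc⟩ := exists_skew (sigma_ne hF hσ) (sigma_sigma hF hσ)
  obtain ⟨t, ht⟩ := exists_tSU hF hσ hv hc
  have hcomm := hg t ((mem_tSU_iff hF hσ hv t).2 ⟨c, hc, ht⟩)
  obtain ⟨y₀, hy₀⟩ := exists_partner hF hσ hv.1
  have h1 := congrArg (fun x : SUn => act x y₀) hcomm.eq
  simp only [act_mul, ht, act_add, act_smul, hy₀, mul_one, add_right_inj] at h1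
  -- h1 : c • act g v = (c * h (act g y₀) v) • v
  have h2 : act g v = h (act g y₀) v • v := by
    have := congrArg (fun x : Vn => c⁻¹ • x) h1
    simpa [smul_smul, inv_mul_cancel₀ hc0, ← mul_assoc] using this
  refine ⟨_, h2, ?_⟩
  have h3 : h (act g y₀) (act g v) = 1 := (act_form g y₀ v).trans hy₀
  conv_lhs at h3 => rw [h2]
  rw [hsmul_right hF hσ] at h3
  linear_combination h3

lemma commute_tP_iff (hn : 3 ≤ n) {u v : Vn} (hu : Isot q u) (hv : Isot q v) :
    (∀ x ∈ (tP u : Subgroup (Cfsg.PSU n F q)), ∀ y ∈ (tP v : Subgroup (Cfsg.PSU n F q)), Commute x y) ↔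
      h u v = 0 := by
  constructor
  · intro hc
    obtain ⟨t, ht, htm⟩ := exists_nontrivial_tSU hF hσ hv
    obtain ⟨a, ha, -⟩ := fix_of_commute_tSU hF hσ hu (g := t) fun s hs =>
      commute_lift hF hσ hn hs (hc _ ⟨s, hs, rfl⟩ _ ⟨t, ht, rfl⟩).symm
    by_contra huv
    obtain ⟨d, hd⟩ := Submodule.mem_span_singleton.1 (ht u).1
    rw [ha] at hd
    have h1 : (a - 1) * h u v = 0 := by
      have := congrArg (fun x => h x v) hd
      simp only [hsub_left hF hσ, hsmul_left hF hσ, hv.2, mul_zero] at this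
      linear_combination -this
    refine htm u huv ?_
    rw [ha, sub_eq_zero.1 ((mul_eq_zero.1 h1).resolve_right huv), one_smul]
  · rintro huv _ ⟨s, hs, rfl⟩ _ ⟨t, ht, rfl⟩
    refine (Commute.map ?_ psuMk).symm
    exact commute_tSU_of_fix hF hσ hu (a := 1) (by rw [one_smul]; exact (ht u).2 huv) (by rw [map_one, mul_one]) hs

lemma tP_injective (hn : 3 ≤ n) {u v : Vn} (hu : Isot q u) (hv : Isot q v)
    (e : (tP u : Subgroup (Cfsg.PSU n F q)) = tP v) : ∃ a : F, a ≠ 0 ∧ v = a • u := by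
  obtain ⟨t, ht, htm⟩ := exists_nontrivial_tSU hF hσ hu
  obtain ⟨t', ht', he⟩ : psuMk t ∈ (tP v : Subgroup (Cfsg.PSU n F q)) := e ▸ ⟨t, ht, rfl⟩
  obtain ⟨y, hy, h1, h2⟩ := exists_common_perp hF hσ hn u v
  obtain rfl := eq_of_psuMk hF hσ (by omega) he hy ((ht' y).2 h2) ((ht y).2 h1)
  obtain ⟨y₀, hy₀⟩ := exists_partner hF hσ hu.1
  have hne := htm y₀ (by rw [hy₀]; exact one_ne_zero)
  obtain ⟨d, hd⟩ := Submodule.mem_span_singleton.1 (ht y₀).1
  obtain ⟨d', hd'⟩ := Submodule.mem_span_singleton.1 (ht' y₀).1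
  have hd0 : d ≠ 0 := fun h0 => hne (sub_eq_zero.1 (by rw [← hd, h0, zero_smul]))
  have hd0' : d' ≠ 0 := fun h0 => hne (sub_eq_zero.1 (by rw [← hd', h0, zero_smul]))
  refine ⟨d'⁻¹ * d, mul_ne_zero (inv_ne_zero hd0') hd0, ?_⟩
  rw [← smul_smul, hd, ← hd', smul_smul, inv_mul_cancel₀ hd0', one_smul]

omit hF hσ [Fintype F] in
/-- The unipotent radical of the stabiliser of an isotropic vector. -/
def qSU (x : Vn) : Subgroup SUn where
  carrier := {g | act g x = x ∧ ∀ w, h w x = 0 → act g w - w ∈ Submodule.span F {x}}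
  one_mem' := ⟨act_one x, fun w _ => by rw [act_one, sub_self]; exact zero_mem _⟩
  mul_mem' {a b} ha hb := by
    refine ⟨by rw [act_mul, hb.1, ha.1], fun w hw => ?_⟩
    obtain ⟨d, hd⟩ := Submodule.mem_span_singleton.1 (hb.2 w hw)
    have hbw : act b w = w + d • x := by rw [hd]; abel
    rw [act_mul, hbw, act_add, act_smul, ha.1, add_sub_right_comm]
    exact add_mem (ha.2 w hw) (Submodule.smul_mem _ _ (Submodule.mem_span_singleton_self x))
  inv_mem' {a} ha := by
    have hx : act a⁻¹ x = x := by conv_lhs => rw [← ha.1, act_inv_apply]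
    refine ⟨hx, fun w hw => ?_⟩
    have hw' : h (act a⁻¹ w) x = 0 := by rw [← act_form a, act_apply_inv, ha.1]; exact hw
    obtain ⟨d, hd⟩ := Submodule.mem_span_singleton.1 (ha.2 _ hw')
    rw [act_apply_inv] at hd
    rw [← neg_sub, ← hd]
    exact neg_mem (Submodule.smul_mem _ _ (Submodule.mem_span_singleton_self x))

section Char

variable {p : ℕ} [Fact p.Prime] [CharP F p]

lemma qSU_pow (hn : 2 ≤ n) {x : Vn} (hx : Isot q x) {g : SUn} (hg : g ∈ qSU x) : g ^ p ^ 2 = 1 := by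
  haveI : Nonempty (Fin n) := ⟨⟨0, by omega⟩⟩
  have hp : 2 ≤ p := (Fact.out : p.Prime).two_le
  set M := ((g.1 : Matrix.SpecialLinearGroup (Fin n) F) : Matrix (Fin n) (Fin n) F) with hM
  have hN : ∀ y, (M - 1) *ᵥ y = act g y - y := fun y => by rw [sub_mulVec, one_mulVec]; rfl
  have h3 : (M - 1) ^ 3 = 0 := by
    refine Matrix.ext_of_mulVec_single fun i => ?_
    rw [zero_mulVec, pow_succ', pow_succ', pow_one, ← mulVec_mulVec, ← mulVec_mulVec]
    generalize (Pi.single i 1 : Vn) = y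
    have h1 : h ((M - 1) *ᵥ y) x = 0 := by
      rw [hN, hsub_left hF hσ, sub_eq_zero]
      conv_lhs => rw [← hg.1]
      exact act_form g y x
    obtain ⟨d, hd⟩ := Submodule.mem_span_singleton.1 (hg.2 _ h1)
    rw [← hN] at hd
    rw [← hd, mulVec_smul, hN, hg.1, sub_self, smul_zero]
  have h4 : M ^ p ^ 2 = 1 := by
    rw [← sub_eq_zero, ← one_pow (p ^ 2), ← sub_pow_char_pow_of_commute (p := p) (n := 2) (Commute.one_right M)]
    exact pow_eq_zero_of_le (by nlinarith) h3
  exact Subtype.ext (Subtype.ext ((CfsgLib.UnitarySpec.su_coe_pow g _).trans h4))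

lemma isPGroup_qSU (hn : 2 ≤ n) {x : Vn} (hx : Isot q x) : IsPGroup p (qSU x : Subgroup SUn) :=
  fun g => ⟨2, Subtype.ext (by rw [Subgroup.coe_pow, qSU_pow hF hσ hn hx g.2, Subgroup.coe_one])⟩

lemma tSU_le_qSU {x : Vn} (hx : Isot q x) : (tSU x : Subgroup SUn) ≤ qSU x := by
  intro g hg
  exact ⟨(hg x).2 hx.2, fun w _ => (hg w).1⟩

/-- Eichler transformations. -/
lemma exists_eichler (hn : 2 ≤ n) {x w : Vn} (hx : Isot q x) (hw : h w x = 0) :
    ∃ g : SUn, g ∈ qSU x ∧ ∃ t : F, ∀ y, act g y = y + h y x • w - h y w • x + (t * h y x) • x := by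
  obtain ⟨t, ht⟩ := exists_trace_eq (sigma_ne hF hσ) (sigma_sigma hF hσ) (b := -(h w w))
    (by rw [map_neg, hself hF hσ])
  let L : Vn →ₗ[F] Vn := LinearMap.id + (lin hF hσ x).smulRight w - (lin hF hσ w).smulRight x +
    (t • lin hF hσ x).smulRight x
  have hL : ∀ y, L y = y + h y x • w - h y w • x + (t * h y x) • x := fun y => rfl
  have hxw : h x w = 0 := (hcomm hF hσ w x).1 hw
  have hform : ∀ y z, h (L y) (L z) = h y z := by
    intro y z
    simp only [hL, hadd_left hF hσ, hadd_right hF hσ, hsub_left hF hσ, hsub_right hF hσ, hsmul_left hF hσ,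
      hsmul_right hF hσ, map_mul, hx.2, hw, hxw, mul_zero, add_zero, sub_zero]
    rw [← hconj hF hσ z x, ← hconj hF hσ z w]
    linear_combination (h y x * h x z) * ht
  set M := LinearMap.toMatrix' L with hM
  have hMy : ∀ y, M *ᵥ y = L y := fun y => LinearMap.toMatrix'_mulVec L y
  have hLx : L x = x := by rw [hL, hx.2, hxw]; simp
  have hLw : ∀ v, h v x = 0 → L v = v - h v w • x := fun v hv => by rw [hL, hv]; simp
  have h3 : (M - 1) ^ 3 = 0 := by
    refine Matrix.ext_of_mulVec_single fun i => ?_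
    rw [zero_mulVec, pow_succ', pow_succ', pow_one, ← mulVec_mulVec, ← mulVec_mulVec]
    generalize (Pi.single i 1 : Vn) = y
    have hN : ∀ y, (M - 1) *ᵥ y = L y - y := fun y => by rw [sub_mulVec, one_mulVec, hMy]
    have h1 : h (L y - y) x = 0 := by
      rw [hL]
      simp [hsub_left hF hσ, hadd_left hF hσ, hsmul_left hF hσ, hx.2, hw]
    rw [hN y, hN (L y - y), hLw _ h1, sub_sub_cancel_left, mulVec_neg, mulVec_smul, hN, hLx, sub_self, smul_zero, neg_zero]
  have hdet : M.det = 1 := by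
    haveI : Nonempty (Fin n) := ⟨⟨0, by omega⟩⟩
    obtain ⟨p, hchar⟩ := CharP.exists F
    haveI : Fact p.Prime := ⟨CharP.char_is_prime F p⟩
    have hp : 2 ≤ p := (Fact.out : p.Prime).two_le
    have h4 : M ^ p ^ 2 = 1 := by
      rw [← sub_eq_zero, ← one_pow (p ^ 2), ← sub_pow_char_pow_of_commute (p := p) (n := 2) (Commute.one_right M)]
      exact pow_eq_zero_of_le (by nlinarith) h3
    have h5 := congrArg Matrix.det h4
    rw [det_pow, det_one, ← sub_eq_zero, ← one_pow (p ^ 2), ← sub_pow_char_pow] at h5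
    exact sub_eq_zero.1 (eq_zero_of_pow_eq_zero h5)
  refine ⟨CfsgLib.Classical.suMk M hdet (fun y z => by rw [hMy, hMy]; exact hform y z), ⟨?_, fun v hv => ?_⟩,
    t, fun y => (hMy y).trans (hL y)⟩
  · exact (hMy x).trans hLx
  · show M *ᵥ v - v ∈ _
    rw [hMy, hLw v hv, sub_sub_cancel_left]
    exact neg_mem (Submodule.smul_mem _ _ (Submodule.mem_span_singleton_self x))

lemma exists_iso_fixed (hn : 2 ≤ n) {P : Subgroup SUn} (hP : IsPGroup p P) :
    ∃ x : Vn, Isot q x ∧ ∀ g ∈ P, act g x = x := by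
  have key : ∀ W : Submodule F Vn, (∀ g ∈ P, ∀ y ∈ W, act g y ∈ W) → W ≠ ⊥ →
      ∃ y ∈ W, y ≠ 0 ∧ ∀ g ∈ P, act g y = y := by
    intro W hW hWb
    letI : MulAction P W :=
      { smul := fun g y => ⟨act (g : SUn) y, hW g g.2 y y.2⟩
        one_smul := fun y => Subtype.ext (act_one _)
        mul_smul := fun a b y => Subtype.ext (act_mul _ _ _) }
    have hdvd : p ∣ Nat.card W := by
      rw [Module.natCard_eq_pow_finrank (K := F), Nat.card_eq_fintype_card]
      haveI : Nontrivial W := Submodule.nontrivial_iff_ne_bot.2 hWb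
      obtain ⟨f, -, hf⟩ := FiniteField.card F p
      rw [hf, ← pow_mul]
      exact dvd_pow_self p (Nat.mul_ne_zero f.ne_zero Module.finrank_pos.ne')
    obtain ⟨y, hy, hy0⟩ := hP.exists_fixed_point_of_prime_dvd_card_of_fixed_point W hdvd (a := 0)
      (fun g => Subtype.ext (act_zero _))
    exact ⟨y, y.2, fun e => hy0 (Subtype.ext e.symm), fun g hg => congrArg Subtype.val (hy ⟨g, hg⟩)⟩
  haveI : Nonempty (Fin n) := ⟨⟨0, by omega⟩⟩
  obtain ⟨v, -, hv0, hv⟩ := key ⊤ (fun _ _ _ _ => trivial) (by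
    intro e
    have : (Pi.single (⟨0, by omega⟩ : Fin n) (1 : F)) ∈ (⊥ : Submodule F Vn) := e ▸ Submodule.mem_top
    simp at this)
  by_cases hvv : h v v = 0
  · exact ⟨v, ⟨hv0, hvv⟩, hv⟩
  obtain ⟨v', hv', hv'0, hv'f⟩ := key (LinearMap.ker (lin hF hσ v))
    (fun g hg y hy => by
      rw [LinearMap.mem_ker, lin_apply] at hy ⊢
      rw [← hv g hg, act_form]; exact hy)
    (by
      obtain ⟨e, he0, he⟩ := exists_perp hF hσ ![v] (by omega)
      exact (Submodule.ne_bot_iff _).2 ⟨e, he 0, he0⟩)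
  by_cases hv'v : h v' v' = 0
  · exact ⟨v', ⟨hv'0, hv'v⟩, hv'f⟩
  obtain ⟨c, hc⟩ := exists_norm_eq (sigma_ne hF hσ) (sigma_sigma hF hσ) (b := -(h v v / h v' v'))
    (by rw [map_neg, map_div₀, hself hF hσ, hself hF hσ])
  have hv'v0 : h v' v = 0 := hv'
  have hvv' : h v v' = 0 := (hcomm hF hσ v' v).1 hv'v0
  have h1 : h (v + c • v') v = h v v := by rw [hadd_left hF hσ, hsmul_left hF hσ, hv'v0, mul_zero, add_zero]
  refine ⟨v + c • v', ⟨fun e => hvv ?_, ?_⟩, fun g hg => by rw [act_add, act_smul, hv g hg, hv'f g hg]⟩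
  · rw [← h1, e, hzero_left hF hσ]
  · rw [hadd_left hF hσ, hadd_right hF hσ, hadd_right hF hσ, hsmul_left hF hσ, hsmul_left hF hσ,
      hsmul_right hF hσ, hsmul_right hF hσ, hv'v0, hvv', mul_zero, mul_zero, add_zero, zero_add, ← mul_assoc, hc,
      neg_mul, div_mul_cancel₀ _ hv'v, add_neg_cancel]

/-- An element fixing `x` and centralising its unipotent radical is a transvection with centre `x`. -/
lemma mem_tSU_of_centralizes (hn : 3 ≤ n) {x : Vn} (hx : Isot q x) {z : SUn} (hzx : act z x = x)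
    (hz : ∀ g ∈ (qSU x : Subgroup SUn), Commute z g) : z ∈ tSU x := by
  obtain ⟨y₀, hy₀⟩ := exists_partner hF hσ hx.1
  have key : ∀ w, h w x = 0 → ∃ d : F, act z w - w = d • x ∧ σ d = d := by
    intro w hw
    obtain ⟨g, hg, t, hgt⟩ := exists_eichler hF hσ (by omega) hx hw
    have h1 := congrArg (fun e : SUn => act e (act z⁻¹ y₀)) (hz g hg).eq
    have hzy : h (act z⁻¹ y₀) x = 1 := by rw [← act_form z, act_apply_inv, hzx, hy₀]
    have hzw : h (act z⁻¹ y₀) w = h y₀ (act z w) := by rw [← act_form z, act_apply_inv]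
    simp only [act_mul, hgt, act_apply_inv, act_add, act_sub, act_smul, hzx, hy₀, hzy, hzw] at h1
    have h2 : act z w - w = (h y₀ (act z w) - h y₀ w) • x := by linear_combination (norm := module) h1
    refine ⟨_, h2, ?_⟩
    have h3 := congrArg (fun e => h y₀ e) h2
    simp only [hsub_right hF hσ, hsmul_right hF hσ, hy₀, mul_one] at h3
    exact h3.symm
  have hfix : ∀ w, h w x = 0 → act z w = w := by
    intro w hw
    obtain ⟨d, hd, hds⟩ := key w hw
    obtain ⟨a, ha⟩ : ∃ a : F, σ a ≠ a := by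
      by_contra hc; push Not at hc; exact sigma_ne hF hσ (RingEquiv.ext hc)
    obtain ⟨d', hd', hd's⟩ := key (a • w) (by rw [hsmul_left hF hσ, hw, mul_zero])
    rw [act_smul, ← smul_sub, hd, smul_smul] at hd'
    have hdd : a * d = d' := smul_left_injective F hx.1 hd'
    rw [← hdd, map_mul, hds] at hd's
    have h0 : (σ a - a) * d = 0 := by linear_combination hd's
    rw [(mul_eq_zero.1 h0).resolve_left (sub_ne_zero.2 ha), zero_smul, sub_eq_zero] at hd
    exact hd
  intro y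
  refine ⟨mem_span_single_of_perp hF hσ fun v hv => ?_, hfix y⟩
  rw [hsub_right hF hσ, sub_eq_zero]
  conv_lhs => rw [← hfix v hv]
  exact act_form z v y

/-- Only the multiples of `x` are fixed by its unipotent radical. -/
lemma mem_span_of_fixed_qSU (hn : 3 ≤ n) {x y : Vn} (hx : Isot q x) (hy : ∀ g ∈ (qSU x : Subgroup SUn), act g y = y) :
    y ∈ Submodule.span F {x} := by
  refine mem_span_single_of_perp hF hσ fun w hw => ?_
  obtain ⟨g, hg, t, hgt⟩ := exists_eichler hF hσ (by omega) hx hw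
  have h1 : h y x • w - h y w • x + (t * h y x) • x = 0 := by
    have := hy g hg
    rw [hgt] at this
    linear_combination (norm := module) this
  have hyx : h y x = 0 := by
    by_contra hne
    obtain ⟨e, he0, he⟩ := exists_perp hF hσ ![x, Pi.single (⟨0, by omega⟩ : Fin n) 1] (by omega)
    obtain ⟨e', he', he'x⟩ : ∃ e', h e' x = 0 ∧ e' ∉ Submodule.span F {x} := by
      by_contra hc
      push Not at hc
      have h2 : LinearMap.ker (lin hF hσ x) ≤ Submodule.span F {x} := fun v hv => hc v hv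
      have h3 := Submodule.finrank_mono h2
      rw [finrank_span_singleton hx.1] at h3
      have h4 := (lin hF hσ x).finrank_range_add_finrank_ker
      have h5 := (LinearMap.range (lin hF hσ x)).finrank_le
      simp only [Module.finrank_fin_fun, Module.finrank_self] at h4 h5
      omega
    obtain ⟨g', hg', t', hgt'⟩ := exists_eichler hF hσ (by omega) hx he'
    have := hy g' hg'
    rw [hgt'] at this
    refine he'x (Submodule.mem_span_singleton.2 ⟨(h y e' - t' * h y x) / h y x, ?_⟩)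
    have h6 : h y x • e' = (h y e' - t' * h y x) • x := by linear_combination (norm := module) this
    rw [div_eq_inv_mul, ← smul_smul, ← h6, smul_smul, inv_mul_cancel₀ hne, one_smul]
  rw [hyx, zero_smul, zero_sub, mul_zero, zero_smul, add_zero, neg_eq_zero, smul_eq_zero] at h1
  exact (hcomm hF hσ y w).1 (h1.resolve_right hx.1)

lemma commute_of_mem_fix {x : Vn} (hx : Isot q x) {g t : SUn} (hg : act g x = x) (ht : t ∈ tSU x) : Commute g t :=
  commute_tSU_of_fix hF hσ hx (a := 1) (by rw [hg, one_smul]) (by rw [map_one, mul_one]) ht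

lemma qSU_le_sylow (hn : 2 ≤ n) (P : Sylow p SUn) {x : Vn} (hx : Isot q x) (hPx : ∀ g ∈ P, act g x = x) :
    (qSU x : Subgroup SUn) ≤ P := by
  have hnorm : (P : Subgroup SUn) ≤ Subgroup.normalizer (qSU x : Subgroup SUn) := by
    intro g hg
    rw [Subgroup.mem_normalizer_iff]
    have key : ∀ g : SUn, act g x = x → ∀ a ∈ qSU x, g * a * g⁻¹ ∈ qSU x := by
      intro g hgx a ha
      have hgi : act g⁻¹ x = x := by conv_lhs => rw [← hgx, act_inv_apply]
      refine ⟨by rw [act_mul, act_mul, hgi, ha.1, hgx], fun w hw => ?_⟩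
      have hw' : h (act g⁻¹ w) x = 0 := by rw [← act_form g, act_apply_inv, hgx]; exact hw
      obtain ⟨d, hd⟩ := Submodule.mem_span_singleton.1 (ha.2 _ hw')
      have h2 : act a (act g⁻¹ w) = act g⁻¹ w + d • x := by rw [hd]; abel
      rw [act_mul, act_mul, h2, act_add, act_smul, act_apply_inv, hgx, add_sub_cancel_left]
      exact Submodule.smul_mem _ _ (Submodule.mem_span_singleton_self x)
    intro a
    refine ⟨key g (hPx g hg) a, fun ha => ?_⟩
    have hgi : act g⁻¹ x = x := by conv_lhs => rw [← hPx g hg, act_inv_apply]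
    have := key g⁻¹ hgi _ ha
    simpa [mul_assoc] using this
  have hsup := IsPGroup.to_sup_of_normal_right' P.2 (isPGroup_qSU hF hσ hn hx) hnorm
  exact (le_sup_right).trans (P.3 hsup le_sup_left).le

/-- The centre of a Sylow subgroup of `PSU` is a transvection group. -/
lemma center_sylow (hn : 3 ≤ n) (P : Sylow p (Cfsg.PSU n F q)) :
    ∃ x : Vn, Isot q x ∧ (P : Subgroup (Cfsg.PSU n F q)) ⊓ Subgroup.centralizer (P : Set (Cfsg.PSU n F q)) = tP x := by
  have hsurj : Function.Surjective (psuMk : SUn → Cfsg.PSU n F q) := QuotientGroup.mk'_surjective _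
  obtain ⟨P', rfl⟩ := Sylow.mapSurjective_surjective hsurj p P
  obtain ⟨x, hx, hPx⟩ := exists_iso_fixed hF hσ (by omega) P'.2
  have hQ := qSU_le_sylow hF hσ (by omega) P' hx hPx
  refine ⟨x, hx, le_antisymm ?_ ?_⟩
  · rintro a ⟨ha, hac⟩
    rw [Sylow.coe_mapSurjective] at ha
    obtain ⟨z, hzP, rfl⟩ := ha
    refine ⟨z, mem_tSU_of_centralizes hF hσ hn hx (hPx z hzP) fun g hg => ?_, rfl⟩
    have hc : psuMk g * psuMk z = psuMk z * psuMk g := by
      refine hac (psuMk g) ?_
      show psuMk g ∈ (P'.mapSurjective hsurj : Subgroup (Cfsg.PSU n F q))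
      rw [Sylow.coe_mapSurjective]
      exact ⟨g, hQ hg, rfl⟩
    exact eq_of_psuMk hF hσ (by omega) (g := z * g) (g' := g * z) (by rw [map_mul, map_mul, hc]) hx.1
      (by rw [act_mul, hg.1, hPx z hzP]) (by rw [act_mul, hPx z hzP, hg.1])
  · rintro _ ⟨t, ht, rfl⟩
    refine ⟨?_, fun a ha => ?_⟩
    · show psuMk t ∈ (P'.mapSurjective hsurj : Subgroup (Cfsg.PSU n F q))
      rw [Sylow.coe_mapSurjective]
      exact ⟨t, hQ (tSU_le_qSU hF hσ hx ht), rfl⟩
    · have ha' : a ∈ (P'.mapSurjective hsurj : Subgroup (Cfsg.PSU n F q)) := ha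
      rw [Sylow.coe_mapSurjective] at ha'
      obtain ⟨g, hg, rfl⟩ := ha'
      exact Commute.map (commute_of_mem_fix hF hσ hx (hPx g hg) ht) psuMk

lemma exists_sylow_center (hn : 3 ≤ n) {x : Vn} (hx : Isot q x) :
    ∃ P : Sylow p (Cfsg.PSU n F q),
      (P : Subgroup (Cfsg.PSU n F q)) ⊓ Subgroup.centralizer (P : Set (Cfsg.PSU n F q)) = tP x := by
  obtain ⟨P, hP⟩ := ((isPGroup_qSU hF hσ (by omega) hx).map psuMk).exists_le_sylow (p := p)
  refine ⟨P, ?_⟩
  have hsurj : Function.Surjective (psuMk : SUn → Cfsg.PSU n F q) := QuotientGroup.mk'_surjective _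
  obtain ⟨x', hx', he⟩ := center_sylow hF hσ hn P
  rw [he]
  obtain ⟨t, ht, -⟩ := exists_nontrivial_tSU hF hσ hx'
  -- `x'` is fixed by the radical of `x`
  have hfix : ∀ g ∈ (qSU x : Subgroup SUn), act g x' = x' := by
    intro g hg
    have hcg : ∀ s ∈ tSU x', Commute g s := fun s hs => by
      have hm : psuMk s ∈ (P : Subgroup (Cfsg.PSU n F q)) ⊓ Subgroup.centralizer (P : Set (Cfsg.PSU n F q)) :=
        he ▸ ⟨s, hs, rfl⟩
      exact commute_lift hF hσ hn hs (hm.2 (psuMk g) (hP ⟨g, hg, rfl⟩))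
    obtain ⟨a, ha, ha1⟩ := fix_of_commute_tSU hF hσ hx' hcg
    have hk : ∀ k, act (g ^ k) x' = a ^ k • x' := by
      intro k
      induction k with
      | zero => rw [pow_zero, pow_zero, act_one, one_smul]
      | succ k ih => rw [pow_succ', act_mul, ih, act_smul, ha, smul_smul, ← pow_succ]
    have h1 := hk (p ^ 2)
    rw [qSU_pow hF hσ (by omega) hx hg, act_one] at h1
    have h2 : a ^ p ^ 2 = 1 := by
      have : (a ^ p ^ 2 - 1) • x' = 0 := by rw [sub_smul, one_smul, ← h1, sub_self]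
      exact sub_eq_zero.1 ((smul_eq_zero.1 this).resolve_right hx'.1)
    rw [← sub_eq_zero, ← one_pow (p ^ 2), ← sub_pow_char_pow] at h2
    rw [ha, sub_eq_zero.1 (eq_zero_of_pow_eq_zero h2), one_smul]
  obtain ⟨a, rfl⟩ := Submodule.mem_span_singleton.1 (mem_span_of_fixed_qSU hF hσ hn hx hfix)
  exact tP_smul hF hσ (fun e => hx'.1 (by rw [e, zero_smul])) x

end Char

end CfsgLib.PSUAut
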