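/-
An automorphism of PSU moves the points of the unitary polar space, preserving orthogonality.
-/
import Cfsg.Agent.Lib.KnownSimple.PSUAut.Groups
import Cfsg.Agent.Lib.KnownSimple.PSUAut.Closure

set_option autoImplicit false

namespace CfsgLib.PSUAut

open Matrix CfsgLib.Transvec CfsgLib.Transvec.Unitary
open CfsgLib.UnitarySpec (sigma_sigma sigma_ne psuMk)

variable {F : Type*} [Field F] {n q : ℕ}

local notation "Vn" => Fin n → F
local notation "h" => Cfsg.hermForm n F q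
local notation "SUn" => (Cfsg.SU n F q)
local notation "PSUn" => Cfsg.PSU n F q

/-- `β` sends the transvection group of `v` to that of `v'`. -/
def RelI (β : MulAut PSUn) (v v' : Vn) : Prop :=
  Isot q v ∧ Isot q v' ∧ (tP v : Subgroup PSUn).map β.toMonoidHom = tP v'

variable [Fintype F] (hF : Fintype.card F = q ^ 2) {σ : F ≃+* F} (hσ : ∀ a, σ a = a ^ q)
variable {β : MulAut (Cfsg.PSU n F q)}

include hF hσ

lemma RelI.inv {v v' : Vn} (e : RelI β v v') : RelI β⁻¹ v' v := by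
  have _ := hF; have _ := hσ
  refine ⟨e.2.1, e.1, ?_⟩
  rw [← e.2.2, Subgroup.map_map]
  convert Subgroup.map_id (tP v : Subgroup PSUn) using 2
  ext x
  exact MulEquiv.symm_apply_apply β x

lemma map_inf_centralizer (P : Subgroup PSUn) :
    (P ⊓ Subgroup.centralizer (P : Set PSUn)).map β.toMonoidHom =
      P.map β.toMonoidHom ⊓ Subgroup.centralizer (P.map β.toMonoidHom : Set PSUn) := by
  have _ := hF; have _ := hσ
  ext x
  constructor
  · rintro ⟨y, ⟨hy, hyc⟩, rfl⟩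
    refine ⟨⟨y, hy, rfl⟩, ?_⟩
    rintro _ ⟨z, hz, rfl⟩
    rw [← map_mul, hyc z hz, map_mul]
  · rintro ⟨⟨y, hy, rfl⟩, hc⟩
    exact ⟨y, ⟨hy, fun z hz => β.injective
      ((map_mul β z y).trans ((hc _ ⟨z, hz, rfl⟩).trans (map_mul β y z).symm))⟩, rfl⟩

lemma exists_relI (hn : 3 ≤ n) {v : Vn} (hv : Isot q v) : ∃ v', RelI β v v' := by
  obtain ⟨p, hchar⟩ := CharP.exists F
  haveI : Fact p.Prime := ⟨CharP.char_is_prime F p⟩
  obtain ⟨P, hP⟩ := exists_sylow_center hF hσ (p := p) hn hv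
  have hs : Function.Surjective β.toMonoidHom := β.surjective
  obtain ⟨v', hv', he⟩ := center_sylow hF hσ hn (P.mapSurjective hs)
  refine ⟨v', hv, hv', ?_⟩
  rw [← hP, show (P : Set PSUn) = ((P : Subgroup PSUn) : Set PSUn) from rfl, map_inf_centralizer hF hσ, ← he]
  rfl

lemma RelI.unique (hn : 3 ≤ n) {v v' v'' : Vn} (e : RelI β v v') (e' : RelI β v v'') :
    ∃ a : F, a ≠ 0 ∧ v'' = a • v' :=
  tP_injective hF hσ hn e.2.1 e'.2.1 (e.2.2.symm.trans e'.2.2)

lemma RelI.smul {v v' : Vn} (e : RelI β v v') {a b : F} (ha : a ≠ 0) (hb : b ≠ 0) : RelI β (a • v) (b • v') := by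
  refine ⟨⟨smul_ne_zero ha e.1.1, ?_⟩, ⟨smul_ne_zero hb e.2.1.1, ?_⟩, ?_⟩
  · rw [hsmul_left hF hσ, hsmul_right hF hσ, e.1.2, mul_zero, mul_zero]
  · rw [hsmul_left hF hσ, hsmul_right hF hσ, e.2.1.2, mul_zero, mul_zero]
  · rw [tP_smul hF hσ ha, tP_smul hF hσ hb, e.2.2]

lemma RelI.perp (hn : 3 ≤ n) {u v u' v' : Vn} (e : RelI β u u') (e' : RelI β v v') : h u v = 0 ↔ h u' v' = 0 := by
  rw [← commute_tP_iff hF hσ hn e.1 e'.1, ← commute_tP_iff hF hσ hn e.2.1 e'.2.1, ← e.2.2, ← e'.2.2]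
  constructor
  · rintro hc _ ⟨x, hx, rfl⟩ _ ⟨y, hy, rfl⟩
    exact (hc x hx y hy).map _
  · intro hc x hx y hy
    exact β.injective (by rw [map_mul, map_mul]; exact hc _ ⟨x, hx, rfl⟩ _ ⟨y, hy, rfl⟩)

lemma RelI.act {v v' : Vn} (e : RelI β v v') {s s' : SUn} (hs : β (psuMk s) = psuMk s') :
    RelI β (act s v) (act s' v') := by
  refine ⟨e.1.act s, e.2.1.act s', ?_⟩
  rw [← tP_conj hF hσ, ← tP_conj hF hσ, ← e.2.2, Subgroup.map_map, Subgroup.map_map, ← hs]
  congr 1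
  ext x
  show β (psuMk s * x * (psuMk s)⁻¹) = β (psuMk s) * β x * (β (psuMk s))⁻¹
  rw [map_mul, map_mul, map_inv]

/-! ### Dimension three -/

/-- The orthogonal of a hyperbolic line in dimension three is an anisotropic point. -/
lemma chord_perp (hn : n = 3) {u v : Vn} (hu : h u u = 0) (hv : h v v = 0) (huv : h u v ≠ 0) {x : Vn} (hx0 : x ≠ 0)
    (hxu : h x u = 0) (hxv : h x v = 0) :
    h x x ≠ 0 ∧ ∀ z, h z u = 0 → h z v = 0 → z ∈ Submodule.span F {x} := by
  subst hn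
  set L := LinearMap.pi ![lin hF hσ u, lin hF hσ v] with hL
  have hvu : Cfsg.hermForm 3 F q v u ≠ 0 := fun e => huv ((hcomm hF hσ v u).1 e)
  have hsurj : LinearMap.range L = ⊤ := by
    rw [LinearMap.range_eq_top]
    intro c
    refine ⟨(c 1 / Cfsg.hermForm 3 F q u v) • u + (c 0 / Cfsg.hermForm 3 F q v u) • v, funext fun i => ?_⟩
    fin_cases i
    · simp [hL, lin_apply, hadd_left hF hσ, hsmul_left hF hσ, hu, div_mul_cancel₀ _ hvu]
    · simp [hL, lin_apply, hadd_left hF hσ, hsmul_left hF hσ, hv, div_mul_cancel₀ _ huv]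
  have hker : ∀ z, z ∈ LinearMap.ker L ↔ Cfsg.hermForm 3 F q z u = 0 ∧ Cfsg.hermForm 3 F q z v = 0 := by
    intro z
    rw [LinearMap.mem_ker, funext_iff, Fin.forall_fin_two]
    simp [hL, lin_apply]
  have hdim : Module.finrank F (LinearMap.ker L) = 1 := by
    have h1 := L.finrank_range_add_finrank_ker
    rw [hsurj, finrank_top, Module.finrank_fin_fun, Module.finrank_fin_fun] at h1
    omega
  have hspan : ∀ z, Cfsg.hermForm 3 F q z u = 0 → Cfsg.hermForm 3 F q z v = 0 → z ∈ Submodule.span F {x} := by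
    intro z h1 h2
    have hle : Submodule.span F {x} ≤ LinearMap.ker L :=
      (Submodule.span_singleton_le_iff_mem _ _).2 ((hker x).2 ⟨hxu, hxv⟩)
    rw [Submodule.eq_of_le_of_finrank_eq hle (by rw [hdim, finrank_span_singleton hx0])]
    exact (hker z).2 ⟨h1, h2⟩
  refine ⟨fun hxx => hx0 (eq_zero_of_perp hF hσ fun y => ?_), hspan⟩
  obtain ⟨d, hd⟩ := Submodule.mem_span_singleton.1 (hspan
    (y - (Cfsg.hermForm 3 F q y v / Cfsg.hermForm 3 F q u v) • u - (Cfsg.hermForm 3 F q y u / Cfsg.hermForm 3 F q v u) • v)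
    (by simp [hsub_left hF hσ, hsmul_left hF hσ, hu, div_mul_cancel₀ _ hvu])
    (by simp [hsub_left hF hσ, hsmul_left hF hσ, hv, div_mul_cancel₀ _ huv]))
  have := congrArg (fun z => Cfsg.hermForm 3 F q z x) hd
  simp only [hsub_left hF hσ, hsmul_left hF hσ, hxx, mul_zero, (hcomm hF hσ x u).1 hxu, (hcomm hF hσ x v).1 hxv,
    sub_zero] at this
  exact this.symm

/-- Orthogonal isotropic vectors in dimension three are proportional. -/
lemma mem_span_of_iso_perp (hn : n = 3) {u v : Vn} (hu : Isot q u) (hv : h v v = 0) (huv : h v u = 0) :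
    v ∈ Submodule.span F {u} := by
  obtain ⟨y₀, hy₀⟩ := exists_partner hF hσ hu.1
  obtain ⟨a, hyy, hyu, -⟩ := exists_iso_shift hF hσ hu.2 hy₀
  set y := y₀ + a • u
  have huy : h u y = 1 := by rw [hconj hF hσ y u, hyu, map_one]
  by_contra hc
  have hv' : v - h v y • u ≠ 0 := fun e => hc (by
    rw [sub_eq_zero.1 e]; exact Submodule.smul_mem _ _ (Submodule.mem_span_singleton_self u))
  refine (chord_perp hF hσ hn hu.2 hyy (by rw [huy]; exact one_ne_zero) hv'
    (by rw [hsub_left hF hσ, hsmul_left hF hσ, huv, hu.2, mul_zero, sub_zero])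
    (by rw [hsub_left hF hσ, hsmul_left hF hσ, huy, mul_one, sub_self])).1 ?_
  rw [hsub_left hF hσ, hsub_right hF hσ, hsub_right hF hσ, hsmul_left hF hσ, hsmul_left hF hσ, hsmul_right hF hσ,
    hsmul_right hF hσ, hv, hu.2, huv, (hcomm hF hσ v u).1 huv]
  ring

/-- A homology with centre `x` in dimension three. -/
lemma exists_homology (hn : n = 3) (hq : q ≠ 2) {x : Vn} (hx : h x x ≠ 0) :
    ∃ (g : SUn) (a b : F), a * σ a = 1 ∧ b ≠ 0 ∧ ∀ y, act g y = a • y + (b * h y x) • x := by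
  subst hn
  have hq2 := CfsgLib.Classical.two_le_q hF
  obtain ⟨c, hc⟩ := exists_norm_eq (sigma_ne hF hσ) (sigma_sigma hF hσ) (b := (Cfsg.hermForm 3 F q x x)⁻¹)
    (by rw [map_inv₀, hself hF hσ])
  have hc0 : c ≠ 0 := by rintro rfl; rw [zero_mul] at hc; exact inv_ne_zero hx hc.symm
  have hx1 : Cfsg.hermForm 3 F q (c • x) (c • x) = 1 := by
    rw [hsmul_left hF hσ, hsmul_right hF hσ, ← mul_assoc, hc, inv_mul_cancel₀ hx]
  obtain ⟨a, ha, ha3⟩ : ∃ a : F, a * σ a = 1 ∧ a ^ 3 ≠ 1 := by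
    by_contra hcon
    push Not at hcon
    classical
    have h1 : Nat.card {x : F // x ^ (q + 1) = 1} ≤ 3 := by
      refine le_trans (Nat.card_le_card_of_injective
        (β := ↥((Polynomial.X ^ 3 - Polynomial.C (1 : F) : Polynomial F).roots.toFinset))
        (fun y => ⟨y.1, ?_⟩) fun y z e => Subtype.ext (congrArg Subtype.val e :)) ?_
      · rw [Multiset.mem_toFinset, Polynomial.mem_roots (Polynomial.X_pow_sub_C_ne_zero (by norm_num) _)]
        simp [hcon y.1 (by rw [hσ, ← pow_succ', y.2])]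
      · rw [Nat.card_eq_fintype_card, Fintype.card_coe]
        refine (Multiset.toFinset_card_le _).trans ((Polynomial.card_roots' _).trans ?_)
        rw [Polynomial.natDegree_X_pow_sub_C]
    rw [CfsgLib.Classical.card_norm_one hF] at h1
    omega
  have ha0 : a ≠ 0 := left_ne_zero_of_mul_eq_one ha
  have hσa : σ a = a⁻¹ := eq_inv_of_mul_eq_one_right ha
  have hl : (a ^ 3)⁻¹ * σ ((a ^ 3)⁻¹) = 1 := by
    rw [map_inv₀, map_pow, hσa, inv_pow, inv_inv]
    exact inv_mul_cancel₀ (pow_ne_zero _ ha0)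
  set R := qR (Cfsg.hermForm 3 F q) (c • x) (a ^ 3)⁻¹
  have hR := qR_mulVec (hU hF hσ) hx1 hl
  have hform : ∀ u v, Cfsg.hermForm 3 F q ((a • (R : Matrix (Fin 3) (Fin 3) F)) *ᵥ u)
      ((a • (R : Matrix (Fin 3) (Fin 3) F)) *ᵥ v) = Cfsg.hermForm 3 F q u v := fun u v => by
    rw [smul_mulVec, smul_mulVec, hsmul_left hF hσ, hsmul_right hF hσ, ← mul_assoc, ha, one_mul]
    exact iso_qR (hU hF hσ) hx1 hl u v
  have hdet : (a • (R : Matrix (Fin 3) (Fin 3) F)).det = 1 := by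
    rw [det_smul, det_qR (hU hF hσ) hx1 hl, Fintype.card_fin, mul_inv_cancel₀ (pow_ne_zero _ ha0)]
  refine ⟨CfsgLib.Classical.suMk _ hdet hform, a, a * ((a ^ 3)⁻¹ - 1) * σ c * c, ha, ?_, fun y => ?_⟩
  · refine mul_ne_zero (mul_ne_zero (mul_ne_zero ha0 (sub_ne_zero.2 fun e => ha3 ?_)) (by simpa using hc0)) hc0
    exact inv_eq_one.1 e
  · show (a • (R : Matrix (Fin 3) (Fin 3) F)) *ᵥ y = _
    rw [smul_mulVec, hR, hsmul_right hF hσ, smul_add, smul_smul, smul_smul]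
    congr 2
    ring

/-- An element centralising the transvection groups of two points of a chord centralises the whole chord. -/
lemma commute_chord (hn : 3 ≤ n) {u v z : Vn} (hu : Isot q u) (hv : Isot q v) (huv : h u v ≠ 0) (hz : Isot q z)
    (hzs : z ∈ Submodule.span F {u, v}) {g : SUn}
    (hgu : ∀ t ∈ tSU u, Commute g t) (hgv : ∀ t ∈ tSU v, Commute g t) : ∀ t ∈ tSU z, Commute g t := by
  have _ := hn
  obtain ⟨a, ha, ha1⟩ := fix_of_commute_tSU hF hσ hu hgu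
  obtain ⟨b, hb, hb1⟩ := fix_of_commute_tSU hF hσ hv hgv
  have h1 : a * σ b * h u v = h u v := by
    have e := act_form g u v
    rw [ha, hb, hsmul_left hF hσ, hsmul_right hF hσ] at e
    linear_combination e
  have hab : b = a := by
    have h2 : a * σ b = 1 := mul_right_cancel₀ huv (by rw [h1, one_mul])
    linear_combination a * hb1 - b * h2
  subst hab
  obtain ⟨x, y, rfl⟩ := Submodule.mem_span_pair.1 hzs
  intro t ht
  exact commute_tSU_of_fix hF hσ hz (a := b) (by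
    rw [act_add, act_smul, act_smul, ha, hb, smul_add, smul_comm x, smul_comm y]) ha1 ht

lemma RelI.commute (hn : 3 ≤ n) {v v' : Vn} (e : RelI β v v') {g g' : SUn} (hg : β (psuMk g) = psuMk g') :
    (∀ t ∈ tSU v, Commute g t) ↔ ∀ t ∈ tSU v', Commute g' t := by
  have key : ∀ w : Vn, ∀ x : SUn, (∀ t ∈ tSU w, Commute x t) ↔ ∀ y ∈ (tP w : Subgroup PSUn), Commute (psuMk x) y := by
    intro w x
    exact ⟨fun hc y ⟨t, ht, hy⟩ => hy ▸ (hc t ht).map psuMk, fun hc t ht => commute_lift hF hσ hn ht (hc _ ⟨t, ht, rfl⟩)⟩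
  rw [key, key, ← hg, ← e.2.2]
  constructor
  · rintro hc _ ⟨y, hy, rfl⟩
    exact (hc y hy).map β.toMonoidHom
  · intro hc y hy
    exact β.injective (by rw [map_mul, map_mul]; exact hc _ ⟨y, hy, rfl⟩)

/-- Collinearity of isotropic points is preserved. -/
lemma RelI.line (hn : 3 ≤ n) (h32 : ¬(n = 3 ∧ q = 2)) {u v z u' v' z' : Vn} (eu : RelI β u u') (ev : RelI β v v')
    (ez : RelI β z z') (hzs : z ∈ Submodule.span F {u, v}) : z' ∈ Submodule.span F {u', v'} := by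
  rcases Nat.lt_or_ge n 4 with h4 | h4
  swap
  · refine (line_criterion hF hσ h4 eu.2.1 ev.2.1 ez.2.1).2 fun y' hy' h1 h2 => ?_
    obtain ⟨y, hy⟩ := exists_relI hF hσ (β := β⁻¹) hn hy'
    have hyr : RelI β y y' := by simpa using hy.inv hF hσ
    exact (hyr.perp hF hσ hn ez).1 ((line_criterion hF hσ h4 eu.1 ev.1 ez.1).1 hzs y hyr.1
      ((hyr.perp hF hσ hn eu).2 h1) ((hyr.perp hF hσ hn ev).2 h2))
  have hn3 : n = 3 := by omega
  by_cases huv : h u v = 0
  · obtain ⟨a, b, hab⟩ := Submodule.mem_span_pair.1 hzs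
    have hzu : h z u = 0 := by
      rw [← hab, hadd_left hF hσ, hsmul_left hF hσ, hsmul_left hF hσ, eu.1.2, (hcomm hF hσ u v).1 huv,
        mul_zero, mul_zero, add_zero]
    exact Submodule.span_mono (by simp)
      (mem_span_of_iso_perp hF hσ hn3 eu.2.1 ez.2.1.2 ((ez.perp hF hσ hn eu).1 hzu))
  have huv' : h u' v' ≠ 0 := fun e => huv ((eu.perp hF hσ hn ev).2 e)
  obtain ⟨x, hx0, hxu, hxv⟩ := exists_common_perp hF hσ hn u' v'
  obtain ⟨hxx, -⟩ := chord_perp hF hσ hn3 eu.2.1.2 ev.2.1.2 huv' hx0 hxu hxv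
  obtain ⟨g', a, b, ha, hb, hg'⟩ := exists_homology hF hσ hn3 (fun e => h32 ⟨hn3, e⟩) hxx
  have hfix : ∀ w, Isot q w → h w x = 0 → ∀ t ∈ tSU w, Commute g' t := fun w hw hwx t ht =>
    commute_tSU_of_fix hF hσ hw (a := a) (by rw [hg', hwx, mul_zero, zero_smul, add_zero]) ha ht
  obtain ⟨g, hg⟩ := QuotientGroup.mk'_surjective _ (β.symm (psuMk g'))
  have hgg : β (psuMk g) = psuMk g' := by
    rw [show psuMk g = β.symm (psuMk g') from hg, MulEquiv.apply_symm_apply]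
  have hgz := (ez.commute hF hσ hn hgg).1 (commute_chord hF hσ hn eu.1 ev.1 huv ez.1 hzs
    ((eu.commute hF hσ hn hgg).2 (hfix u' eu.2.1 ((hcomm hF hσ x u').1 hxu)))
    ((ev.commute hF hσ hn hgg).2 (hfix v' ev.2.1 ((hcomm hF hσ x v').1 hxv))))
  obtain ⟨d, hd, -⟩ := fix_of_commute_tSU hF hσ ez.2.1 hgz
  rw [hg'] at hd
  have hzx : h z' x = 0 := by
    by_contra hne
    have h1 : (d - a) • z' = (b * h z' x) • x := by rw [sub_smul, ← hd, add_sub_cancel_left]
    have h2 : h ((d - a) • z') ((d - a) • z') = 0 := by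
      rw [hsmul_left hF hσ, hsmul_right hF hσ, ez.2.1.2, mul_zero, mul_zero]
    rw [h1, hsmul_left hF hσ, hsmul_right hF hσ] at h2
    simp [hb, hne, hxx] at h2
  have huv2 : h v' u' ≠ 0 := fun e => huv' ((hcomm hF hσ v' u').1 e)
  set r := z' - (h z' v' / h u' v') • u' - (h z' u' / h v' u') • v' with hr
  obtain ⟨k, hk⟩ := Submodule.mem_span_singleton.1 ((chord_perp hF hσ hn3 eu.2.1.2 ev.2.1.2 huv' hx0 hxu hxv).2 r
    (by rw [hr, hsub_left hF hσ, hsub_left hF hσ, hsmul_left hF hσ, hsmul_left hF hσ, eu.2.1.2, mul_zero, sub_zero,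
      div_mul_cancel₀ _ huv2, sub_self])
    (by rw [hr, hsub_left hF hσ, hsub_left hF hσ, hsmul_left hF hσ, hsmul_left hF hσ, ev.2.1.2, mul_zero, sub_zero,
      div_mul_cancel₀ _ huv', sub_self]))
  have hk0 : k * h x x = 0 := by
    have := congrArg (fun w => h w x) hk
    simp only [hr, hsub_left hF hσ, hsmul_left hF hσ, hzx, (hcomm hF hσ x u').1 hxu, (hcomm hF hσ x v').1 hxv,
      mul_zero, sub_zero] at this
    exact this
  rw [(mul_eq_zero.1 hk0).resolve_right hxx, zero_smul, hr, eq_comm, sub_sub, sub_eq_zero] at hk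
  exact Submodule.mem_span_pair.2 ⟨_, _, hk.symm⟩

/-! ### Anisotropic points -/

/-- `β` sends the point `v` to the point `v'`. -/
def Rel (β : MulAut PSUn) (v v' : Vn) : Prop :=
  RelI β v v' ∨ (h v v ≠ 0 ∧ h v' v' ≠ 0 ∧ ∀ z z', RelI β z z' → (h z v = 0 ↔ h z' v' = 0))

omit hF hσ [Fintype F] in
lemma Rel.ne_zero (hq : 0 < q) {v v' : Vn} (e : Rel β v v') : v ≠ 0 ∧ v' ≠ 0 := by
  rcases e with e | ⟨h1, h2, -⟩
  · exact ⟨e.1.1, e.2.1.1⟩
  · constructor <;> rintro rfl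
    · exact h1 (CfsgLib.Classical.hermForm_zero_left (by omega) 0).1
    · exact h2 (CfsgLib.Classical.hermForm_zero_left (by omega) 0).1

lemma Rel.inv {v v' : Vn} (e : Rel β v v') : Rel β⁻¹ v' v := by
  rcases e with e | ⟨h1, h2, h3⟩
  · exact Or.inl (e.inv hF hσ)
  · exact Or.inr ⟨h2, h1, fun z z' ez => (h3 z' z (by simpa using ez.inv hF hσ)).symm⟩

lemma exists_polar (hn : 3 ≤ n) (h32 : ¬(n = 3 ∧ q = 2)) {w : Vn} (hw : h w w ≠ 0) :
    ∃ w', h w' w' ≠ 0 ∧ ∀ z z', RelI β z z' → h z w = 0 → h z' w' = 0 := by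
  obtain ⟨G, hG, hgen⟩ := gen_perp hF hσ hn hw
  choose G' hG' using fun i => exists_relI hF hσ (β := β) hn (hG i).1
  obtain ⟨w', hw'0, hw'⟩ := exists_perp hF hσ G' (by omega)
  have key : ∀ z, Isot q z → h z w = 0 → ∀ z', RelI β z z' → h z' w' = 0 := by
    refine hgen (fun z => ∀ z', RelI β z z' → h z' w' = 0) ?_ fun i z' ez => ?_
    · intro u v z hu hv hCu hCv hz hm z' ez
      obtain ⟨u', eu⟩ := exists_relI hF hσ (β := β) hn hu
      obtain ⟨v', ev⟩ := exists_relI hF hσ (β := β) hn hv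
      obtain ⟨a, b, hab⟩ := Submodule.mem_span_pair.1 (RelI.line hF hσ hn h32 eu ev ez hm)
      rw [← hab, hadd_left hF hσ, hsmul_left hF hσ, hsmul_left hF hσ, hCu u' eu, hCv v' ev, mul_zero, mul_zero,
        add_zero]
    · obtain ⟨a, -, ha⟩ := (hG' i).unique hF hσ hn ez
      rw [ha, hsmul_left hF hσ, (hcomm hF hσ w' (G' i)).1 (hw' i), mul_zero]
  refine ⟨w', fun hww => ?_, fun z z' ez hzw => key z ez.1 hzw z' ez⟩
  obtain ⟨r, er⟩ := exists_relI hF hσ (β := β⁻¹) hn (v := w') ⟨hw'0, hww⟩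
  have er' : RelI β r w' := by simpa using er.inv hF hσ
  obtain ⟨a, ha⟩ := Submodule.mem_span_singleton.1 (mem_span_of_iso_test hF hσ hn hw (z := r) fun y hy hyw => by
    obtain ⟨y', ey⟩ := exists_relI hF hσ (β := β) hn hy
    exact (ey.perp hF hσ hn er').2 (key y hy hyw y' ey))
  have ha0 : a ≠ 0 := by rintro rfl; exact er'.1.1 (by rw [← ha, zero_smul])
  have := er'.1.2
  rw [← ha, hsmul_left hF hσ, hsmul_right hF hσ] at this
  simp [ha0, hw] at this

lemma exists_rel (hn : 3 ≤ n) (h32 : ¬(n = 3 ∧ q = 2)) {v : Vn} (hv : v ≠ 0) : ∃ v', Rel β v v' := by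
  by_cases hvv : h v v = 0
  · obtain ⟨v', e⟩ := exists_relI hF hσ (β := β) hn (v := v) ⟨hv, hvv⟩
    exact ⟨v', Or.inl e⟩
  obtain ⟨v', hv', h1⟩ := exists_polar hF hσ (β := β) hn h32 hvv
  obtain ⟨v'', hv'', h2⟩ := exists_polar hF hσ (β := β⁻¹) hn h32 hv'
  refine ⟨v', Or.inr ⟨hvv, hv', fun z z' ez => ⟨h1 z z' ez, fun hz' => ?_⟩⟩⟩
  have hz'' : h z v'' = 0 := h2 z' z (ez.inv hF hσ) hz'
  obtain ⟨a, ha⟩ := Submodule.mem_span_singleton.1 (mem_span_of_iso_test hF hσ hn hvv (z := v'') fun y hy hyv => by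
    obtain ⟨y', ey⟩ := exists_relI hF hσ (β := β) hn hy
    exact h2 y' y (ey.inv hF hσ) (h1 y y' ey hyv))
  have ha0 : a ≠ 0 := by rintro rfl; exact hv'' (by rw [← ha, zero_smul, hzero_left hF hσ])
  rw [← ha, hsmul_right hF hσ, mul_eq_zero] at hz''
  exact hz''.resolve_left (by simpa using ha0)

lemma Rel.isot_iff {v v' : Vn} (e : Rel β v v') : h v v = 0 ↔ h v' v' = 0 := by
  have _ := hF; have _ := hσ
  rcases e with e | ⟨h1, h2, -⟩
  · exact iff_of_true e.1.2 e.2.1.2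
  · exact iff_of_false h1 h2

lemma Rel.unique (hn : 3 ≤ n) {v v' v'' : Vn} (e : Rel β v v') (e' : Rel β v v'') :
    ∃ a : F, a ≠ 0 ∧ v'' = a • v' := by
  rcases e with e | ⟨h1, h2, h3⟩
  · rcases e' with e' | ⟨h1', -, -⟩
    · exact e.unique hF hσ hn e'
    · exact absurd e.1.2 h1'
  rcases e' with e' | ⟨-, h2', h3'⟩
  · exact absurd e'.1.2 h1
  obtain ⟨a, ha⟩ := Submodule.mem_span_singleton.1 (mem_span_of_iso_test hF hσ hn h2 (z := v'') fun y hy hyv => by
    obtain ⟨y₀, ey⟩ := exists_relI hF hσ (β := β⁻¹) hn hy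
    have ey' : RelI β y₀ y := by simpa using ey.inv hF hσ
    exact (h3' y₀ y ey').1 ((h3 y₀ y ey').2 hyv))
  exact ⟨a, by rintro rfl; exact h2' (by rw [← ha, zero_smul, hzero_left hF hσ]), ha.symm⟩

lemma Rel.smul {v v' : Vn} (e : Rel β v v') {a b : F} (ha : a ≠ 0) (hb : b ≠ 0) : Rel β (a • v) (b • v') := by
  rcases e with e | ⟨h1, h2, h3⟩
  · exact Or.inl (e.smul hF hσ ha hb)
  refine Or.inr ⟨?_, ?_, fun z z' ez => ?_⟩
  · rw [hsmul_left hF hσ, hsmul_right hF hσ]; simp [ha, h1]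
  · rw [hsmul_left hF hσ, hsmul_right hF hσ]; simp [hb, h2]
  · rw [hsmul_right hF hσ, hsmul_right hF hσ, mul_eq_zero_iff_left (by simpa using ha),
      mul_eq_zero_iff_left (by simpa using hb)]
    exact h3 z z' ez

/-- Orthogonal anisotropic points go to orthogonal points. -/
lemma Rel.perp_aniso (hn : 3 ≤ n) (h32 : ¬(n = 3 ∧ q = 2)) {w z w' z' : Vn} (hw : h w w ≠ 0) (hz : h z z ≠ 0)
    (ew : Rel β w w') (ez : Rel β z z') (hzw : h z w = 0) : h z' w' = 0 := by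
  obtain ⟨-, hw', hW⟩ := ew.resolve_left fun e => hw e.1.2
  obtain ⟨-, hz', hZ⟩ := ez.resolve_left fun e => hz e.1.2
  obtain ⟨a, b, ha, hb, haw, hbw, hab, hzab⟩ := exists_chord_through hF hσ hn hw hz hzw
  obtain ⟨a', ea⟩ := exists_relI hF hσ (β := β) hn ha
  obtain ⟨b', eb⟩ := exists_relI hF hσ (β := β) hn hb
  obtain ⟨s, t, hst⟩ := Submodule.mem_span_pair.1 hzab
  rcases Nat.lt_or_ge n 4 with h4 | h4
  swap
  · have hmem : z' ∈ Submodule.span F {a', b'} := by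
      refine chord_criterion hF hσ h4 ea.2.1.2 eb.2.1.2 (fun e => hab ((ea.perp hF hσ hn eb).2 e))
        fun y' hy' h1 h2 => ?_
      obtain ⟨y, ey⟩ := exists_relI hF hσ (β := β⁻¹) hn hy'
      have ey' : RelI β y y' := by simpa using ey.inv hF hσ
      refine (hZ y y' ey').1 ?_
      rw [← hst, hadd_right hF hσ, hsmul_right hF hσ, hsmul_right hF hσ, (ey'.perp hF hσ hn ea).2 h1,
        (ey'.perp hF hσ hn eb).2 h2, mul_zero, mul_zero, add_zero]
    obtain ⟨s', t', rfl⟩ := Submodule.mem_span_pair.1 hmem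
    rw [hadd_left hF hσ, hsmul_left hF hσ, hsmul_left hF hσ, (hW a a' ea).1 haw, (hW b b' eb).1 hbw, mul_zero,
      mul_zero, add_zero]
  have hn3 : n = 3 := by omega
  obtain ⟨g', α, c, hα, hc, hg'⟩ := exists_homology hF hσ hn3 (fun e => h32 ⟨hn3, e⟩) hw'
  obtain ⟨g, hg⟩ := QuotientGroup.mk'_surjective _ (β.symm (psuMk g'))
  have hgg : β (psuMk g) = psuMk g' := by
    rw [show psuMk g = β.symm (psuMk g') from hg, MulEquiv.apply_symm_apply]
  have hfix : ∀ x x', RelI β x x' → h x w = 0 → ∃ d : F, act g x = d • x ∧ d * σ d = 1 := fun x x' ex hxw => by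
    refine fix_of_commute_tSU hF hσ ex.1 ((ex.commute hF hσ hn hgg).2 fun t ht => ?_)
    exact commute_tSU_of_fix hF hσ ex.2.1 (a := α) (by rw [hg', (hW x x' ex).1 hxw, mul_zero, zero_smul, add_zero]) hα ht
  obtain ⟨d, hd, hd1⟩ := hfix a a' ea haw
  obtain ⟨e, he, he1⟩ := hfix b b' eb hbw
  have hde : e = d := by
    have h1 := act_form g a b
    rw [hd, he, hsmul_left hF hσ, hsmul_right hF hσ, ← mul_assoc] at h1
    have h2 : d * σ e = 1 := mul_right_cancel₀ hab (by rw [h1, one_mul])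
    linear_combination d * he1 - e * h2
  subst hde
  have hgz : act g z = e • z := by
    rw [← hst, act_add, act_smul, act_smul, hd, he, smul_add, smul_comm s, smul_comm t]
  have he0 : e ≠ 0 := left_ne_zero_of_mul_eq_one hd1
  -- `g'` fixes the point `z'`
  have hperm : ∀ y, Isot q y → h y z' = 0 → h (act g' y) z' = 0 := by
    intro y hy hyz
    obtain ⟨x, ex⟩ := exists_relI hF hσ (β := β⁻¹) hn hy
    have ex' : RelI β x y := by simpa using ex.inv hF hσ
    refine (hZ _ _ (ex'.act hF hσ hgg)).1 ?_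
    have h1 := act_form g x z
    rw [hgz, hsmul_right hF hσ, (hZ x y ex').2 hyz, mul_eq_zero] at h1
    exact h1.resolve_left (by simpa using he0)
  obtain ⟨k, hk⟩ := Submodule.mem_span_singleton.1 (mem_span_of_iso_test hF hσ hn hz' (z := act g'⁻¹ z') fun y hy hyz => by
    rw [← act_form g', act_apply_inv]
    exact hperm y hy hyz)
  have hk' : k • act g' z' = z' := by rw [← act_smul, hk, act_apply_inv]
  by_contra hne
  have hk0 : k ≠ 0 := by
    rintro rfl
    rw [zero_smul] at hk'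
    exact hz' (by rw [← hk', hzero_left hF hσ])
  rw [hg', smul_add, smul_smul, smul_smul] at hk'
  have h1 : (1 - k * α) • z' = (k * (c * h z' w')) • w' := by
    rw [sub_smul, one_smul, sub_eq_iff_eq_add', hk']
  have hcoef : k * (c * h z' w') ≠ 0 := mul_ne_zero hk0 (mul_ne_zero hc hne)
  have h2 : (1 - k * α) ≠ 0 := fun e0 => hcoef (by
    rw [e0, zero_smul, eq_comm, smul_eq_zero] at h1
    exact h1.resolve_right fun e1 => hw' (by rw [e1, hzero_left hF hσ]))
  have e2 : Rel β w ((k * (c * h z' w') / (1 - k * α)) • w') := by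
    simpa using Rel.smul hF hσ (Or.inr ⟨hw, hw', hW⟩) (one_ne_zero (α := F)) (div_ne_zero hcoef h2)
  have hzw' : (k * (c * h z' w') / (1 - k * α)) • w' = z' := by
    rw [div_eq_inv_mul, ← smul_smul, ← h1, smul_smul, inv_mul_cancel₀ h2, one_smul]
  rw [hzw'] at e2
  obtain ⟨l, hl0, hl⟩ := Rel.unique hF hσ hn (Rel.inv hF hσ e2) (Rel.inv hF hσ (Or.inr ⟨hz, hz', hZ⟩))
  rw [hl, hsmul_left hF hσ] at hzw
  exact hw ((mul_eq_zero.1 hzw).resolve_left hl0)

/-- Orthogonality is preserved. -/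
lemma Rel.perp (hn : 3 ≤ n) (h32 : ¬(n = 3 ∧ q = 2)) {u v u' v' : Vn} (eu : Rel β u u') (ev : Rel β v v')
    (huv : h u v = 0) : h u' v' = 0 := by
  rcases eu with eu | eu <;> rcases ev with ev | ev
  · exact (eu.perp hF hσ hn ev).1 huv
  · exact (ev.2.2 u u' eu).1 huv
  · exact (hcomm hF hσ v' u').1 ((eu.2.2 v v' ev).1 ((hcomm hF hσ u v).1 huv))
  · exact Rel.perp_aniso hF hσ hn h32 ev.1 eu.1 (Or.inr ev) (Or.inr eu) huv

end CfsgLib.PSUAut
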