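/-
Every automorphism of PSU is induced by a semilinear isometry.
-/
import Cfsg.Agent.Lib.KnownSimple.PSUAut.Polar
import Cfsg.Agent.Lib.KnownSimple.PSUAut.FTPG
import Cfsg.Prelude.Def_LieTypeDatum

set_option autoImplicit false

namespace CfsgLib.PSUAut

open Matrix CfsgLib.Transvec CfsgLib.Transvec.Unitary
open CfsgLib.UnitarySpec (sigma_sigma sigma_ne psuMk)
open scoped LinearAlgebra.Projectivization

variable {F : Type*} [Field F] {n q : ℕ}

local notation "Vn" => Fin n → F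
local notation "h" => Cfsg.hermForm n F q
local notation "SUn" => (Cfsg.SU n F q)
local notation "PSUn" => Cfsg.PSU n F q

/-- The semilinear map `v ↦ g τ(v)`. -/
def semiV (g : GL (Fin n) F) (τ : F ≃+* F) (v : Vn) : Vn := (g : Matrix (Fin n) (Fin n) F) *ᵥ (τ ∘ v)

lemma semiV_add (g : GL (Fin n) F) (τ : F ≃+* F) (u v : Vn) : semiV g τ (u + v) = semiV g τ u + semiV g τ v := by
  rw [semiV, semiV, semiV, show (τ ∘ (u + v) : Vn) = τ ∘ u + τ ∘ v by funext i; simp, mulVec_add]

lemma semiV_sub (g : GL (Fin n) F) (τ : F ≃+* F) (u v : Vn) : semiV g τ (u - v) = semiV g τ u - semiV g τ v := by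
  rw [semiV, semiV, semiV, show (τ ∘ (u - v) : Vn) = τ ∘ u - τ ∘ v by funext i; simp, mulVec_sub]

lemma semiV_single (g : GL (Fin n) F) (τ : F ≃+* F) (i : Fin n) :
    semiV g τ (Pi.single i 1) = (g : Matrix (Fin n) (Fin n) F) *ᵥ Pi.single i 1 := by
  rw [semiV]
  congr 1
  funext k
  rcases eq_or_ne k i with rfl | hk <;> simp [*]

variable [Fintype F] (hF : Fintype.card F = q ^ 2) {σ : F ≃+* F} (hσ : ∀ a, σ a = a ^ q)
variable {β : MulAut (Cfsg.PSU n F q)}

include hF hσ

/-- The permutation of points attached to an automorphism. -/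
lemma exists_pointPerm (hn : 3 ≤ n) (h32 : ¬(n = 3 ∧ q = 2)) :
    ∃ π : ℙ F Vn ≃ ℙ F Vn, ∀ p : ℙ F Vn, Rel β p.rep (π p).rep := by
  have key : ∀ γ : MulAut PSUn, ∀ p : ℙ F Vn, ∃ r : ℙ F Vn, Rel γ p.rep r.rep := by
    intro γ p
    obtain ⟨v, e⟩ := exists_rel hF hσ (β := γ) hn h32 p.rep_nonzero
    have hv := (e.ne_zero (lt_of_lt_of_le two_pos (CfsgLib.Classical.two_le_q hF))).2
    obtain ⟨a, ha⟩ := Projectivization.exists_smul_eq_mk_rep F v hv
    refine ⟨Projectivization.mk F v hv, ?_⟩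
    rw [← ha, Units.smul_def]
    simpa using e.smul hF hσ (one_ne_zero (α := F)) a.ne_zero
  choose f hf using key
  have inv : ∀ (γ : MulAut PSUn) (p : ℙ F Vn), f γ⁻¹ (f γ p) = p := by
    intro γ p
    obtain ⟨a, ha0, ha⟩ := Rel.unique hF hσ hn (hf γ⁻¹ (f γ p)) ((hf γ p).inv hF hσ)
    rw [← Projectivization.mk_rep p, ← Projectivization.mk_rep (f γ⁻¹ (f γ (Projectivization.mk F p.rep p.rep_nonzero)))]
    simp only [Projectivization.mk_rep]
    conv_rhs => rw [← Projectivization.mk_rep p]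
    rw [← Projectivization.mk_rep (f γ⁻¹ (f γ p)), Projectivization.mk_eq_mk_iff']
    exact ⟨a⁻¹, by rw [ha, smul_smul, inv_mul_cancel₀ ha0, one_smul]⟩
  exact ⟨⟨f β, f β⁻¹, inv β, fun p => by simpa using inv β⁻¹ p⟩, hf β⟩

lemma exists_semilinear (hn : 3 ≤ n) (h32 : ¬(n = 3 ∧ q = 2)) (β : MulAut PSUn) :
    ∃ (g : GL (Fin n) F) (τ : F ≃+* F), g ∈ Cfsg.GU n F q ∧ ∀ v, v ≠ 0 → Rel β v (semiV g τ v) := by
  obtain ⟨π, hπ⟩ := exists_pointPerm hF hσ (β := β) hn h32
  have hperp : ∀ p r : ℙ F Vn, h p.rep r.rep = 0 ↔ h (π p).rep (π r).rep = 0 := fun p r =>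
    ⟨fun e => Rel.perp hF hσ hn h32 (hπ p) (hπ r) e,
      fun e => Rel.perp hF hσ hn h32 ((hπ p).inv hF hσ) ((hπ r).inv hF hσ) e⟩
  have hlines : CfsgLib.PSLAut.PreservesLines π := by
    intro p r s hs
    rw [Projectivization.submodule_eq, Submodule.span_singleton_le_iff_mem, Projectivization.submodule_eq,
      Projectivization.submodule_eq, ← Submodule.span_union, Set.singleton_union] at hs ⊢
    refine mem_span_pair_of_perp hF hσ fun y h1 h2 => ?_
    by_cases hy : y = 0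
    · rw [hy, hzero_left hF hσ]
    obtain ⟨y₀, hy₀⟩ := π.surjective (Projectivization.mk F y hy)
    obtain ⟨c, hc⟩ := Projectivization.exists_smul_eq_mk_rep F y hy
    have hyy : (π y₀).rep = (c : F) • y := by rw [hy₀, ← hc, Units.smul_def]
    have e : ∀ z, h (π y₀).rep z = 0 ↔ h y z = 0 := fun z => by
      rw [hyy, hsmul_left hF hσ, mul_eq_zero_iff_left c.ne_zero]
    obtain ⟨a, b, hab⟩ := Submodule.mem_span_pair.1 hs
    refine (e _).1 ((hperp y₀ s).1 ?_)
    rw [← hab, hadd_right hF hσ, hsmul_right hF hσ, hsmul_right hF hσ, (hperp y₀ p).2 ((e _).2 h1),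
      (hperp y₀ r).2 ((e _).2 h2), mul_zero, mul_zero, add_zero]
  obtain ⟨g, τ, hg⟩ := exists_inducedBy_of_lines hn hlines
  have hrel : ∀ v, v ≠ 0 → Rel β v (semiV g τ v) := by
    intro v hv
    obtain ⟨a, ha⟩ := Projectivization.exists_smul_eq_mk_rep F v hv
    have h2 : (π (Projectivization.mk F v hv)).rep ∈ Submodule.span F {semiV g τ v} := by
      rw [semiV, ← hg v hv]; exact CfsgLib.PSLAut.rep_mem _
    obtain ⟨b, hb⟩ := Submodule.mem_span_singleton.1 h2
    have hb0 : b ≠ 0 := fun e => (π (Projectivization.mk F v hv)).rep_nonzero (by rw [← hb, e, zero_smul])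
    have := (hπ (Projectivization.mk F v hv)).smul hF hσ (inv_ne_zero a.ne_zero) (inv_ne_zero hb0)
    rwa [← ha, Units.smul_def, smul_smul, inv_mul_cancel₀ a.ne_zero, one_smul, ← hb, smul_smul,
      inv_mul_cancel₀ hb0, one_smul] at this
  have horth : ∀ u v, h u v = 0 → h (semiV g τ u) (semiV g τ v) = 0 := by
    intro u v e
    by_cases hu : u = 0
    · subst hu
      rw [show semiV g τ (0 : Vn) = 0 by simpa using semiV_sub g τ (0 : Vn) 0, hzero_left hF hσ]
    by_cases hv : v = 0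
    · subst hv
      rw [show semiV g τ (0 : Vn) = 0 by simpa using semiV_sub g τ (0 : Vn) 0, hzero_right hF hσ]
    exact Rel.perp hF hσ hn h32 (hrel u hu) (hrel v hv) e
  set d : Fin n → F := fun i => h (semiV g τ (Pi.single i 1)) (semiV g τ (Pi.single i 1)) with hd
  have hdd : ∀ i j, i ≠ j → d i = d j := by
    intro i j hij
    have h0 := horth (Pi.single i 1 + Pi.single j 1) (Pi.single i 1 - Pi.single j 1) (by
      simp [hadd_left hF hσ, hsub_right hF hσ, hermForm_basis hσ, hij, hij.symm])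
    rw [semiV_add, semiV_sub, hadd_left hF hσ, hsub_right hF hσ, hsub_right hF hσ,
      horth (Pi.single i 1) (Pi.single j 1) (by simp [hermForm_basis hσ, hij]),
      horth (Pi.single j 1) (Pi.single i 1) (by simp [hermForm_basis hσ, hij.symm])] at h0
    linear_combination h0
  let i₀ : Fin n := ⟨0, by omega⟩
  have hcov : ∀ i j, h ((g : Matrix (Fin n) (Fin n) F) *ᵥ Pi.single i 1)
      ((g : Matrix (Fin n) (Fin n) F) *ᵥ Pi.single j 1) = if i = j then d i₀ else 0 := by
    intro i j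
    rw [← semiV_single g τ, ← semiV_single g τ]
    split_ifs with e
    · subst e
      by_cases hi : i = i₀
      · rw [hi]
      · exact hdd i i₀ hi
    · exact horth _ _ (by simp [hermForm_basis hσ, e])
  have hform : ∀ u v, h ((g : Matrix (Fin n) (Fin n) F) *ᵥ u) ((g : Matrix (Fin n) (Fin n) F) *ᵥ v) = d i₀ * h u v := by
    intro u v
    conv_lhs => rw [pi_eq_sum_univ' u, pi_eq_sum_univ' v]
    simp only [mulVec_sum, mulVec_smul]
    rw [CfsgLib.Classical.hermForm_sum_left, hermForm_eq hσ (u := u), Finset.mul_sum]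
    refine Finset.sum_congr rfl fun i _ => ?_
    rw [hconj hF hσ (∑ k, v k • ((g : Matrix (Fin n) (Fin n) F) *ᵥ Pi.single k 1)),
      CfsgLib.Classical.hermForm_sum_left]
    simp only [hcov, mul_ite, mul_zero, Finset.sum_ite_eq', Finset.mem_univ, if_true, map_mul]
    rw [show σ (d i₀) = d i₀ from hself hF hσ _]
    ring
  have hd0 : d i₀ ≠ 0 := fun e => one_ne_zero (α := F) (by
    have := ((hrel _ (show (Pi.single i₀ 1 : Vn) ≠ 0 by simp)).isot_iff hF hσ).2 e
    simpa [hermForm_basis hσ] using this)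
  obtain ⟨c, hc⟩ := exists_norm_eq (sigma_ne hF hσ) (sigma_sigma hF hσ) (b := (d i₀)⁻¹)
    (by rw [map_inv₀, show σ (d i₀) = d i₀ from hself hF hσ _])
  have hc0 : c ≠ 0 := by rintro rfl; rw [zero_mul] at hc; exact inv_ne_zero hd0 hc.symm
  let g' : GL (Fin n) F := GeneralLinearGroup.scalar (Fin n) (Units.mk0 c hc0) * g
  have hg' : ∀ v, (g' : Matrix (Fin n) (Fin n) F) *ᵥ v = c • ((g : Matrix (Fin n) (Fin n) F) *ᵥ v) := fun v => by
    rw [Units.val_mul, ← mulVec_mulVec, GeneralLinearGroup.coe_scalar, scalar_apply, ← smul_one_eq_diagonal,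
      Units.val_mk0, smul_mulVec, one_mulVec]
  refine ⟨g', τ, (mem_GU_iff g').2 fun u v => ?_, fun v hv => ?_⟩
  · rw [hg', hg', hsmul_left hF hσ, hsmul_right hF hσ, hform, ← mul_assoc, hc, ← mul_assoc,
      inv_mul_cancel₀ hd0, one_mul]
  · rw [semiV, hg']
    simpa [semiV] using (hrel v hv).smul hF hσ (one_ne_zero (α := F)) hc0

/-- An isometry with every isotropic vector as eigenvector is a scalar. -/
lemma exists_scalar_of_eigen (hn : 3 ≤ n) {M : Matrix (Fin n) (Fin n) F} (hM : ∀ u v, h (M *ᵥ u) (M *ᵥ v) = h u v)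
    (hzy : ∀ y, Isot q y → ∃ a : F, M *ᵥ y = a • y) : ∃ c : F, ∀ y, M *ᵥ y = c • y := by
  choose! a ha using hzy
  have hnp : ∀ u v, Isot q u → Isot q v → h u v ≠ 0 → a u = a v ∧ a u * σ (a u) = 1 := by
    intro u v hu hv huv
    obtain ⟨k, hk0, hk⟩ := exists_skew (sigma_ne hF hσ) (sigma_sigma hF hσ)
    set t := σ (k / h u v) with ht
    have htv : h u (t • v) = k := by
      rw [hsmul_right hF hσ, ht, sigma_sigma hF hσ, div_mul_cancel₀ _ huv]
    have htu : h (t • v) u = σ k := by rw [hconj hF hσ u (t • v), htv]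
    have hw : Isot q (u + t • v) := by
      refine ⟨fun e0 => hk0 ?_, ?_⟩
      · have h1 := congrArg (fun x => h u x) e0
        simp only [hadd_right hF hσ, hzero_right hF hσ, hu.2, htv, zero_add] at h1
        exact h1
      · have htt : h (t • v) (t • v) = 0 := by rw [hsmul_left hF hσ, hsmul_right hF hσ, hv.2, mul_zero, mul_zero]
        rw [hadd_left hF hσ, hadd_right hF hσ, hadd_right hF hσ, hu.2, htv, htu, htt, zero_add, add_zero, hk]
    have h1 := ha _ hw
    rw [mulVec_add, mulVec_smul, ha u hu, ha v hv, smul_add] at h1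
    have h2 := congrArg (fun x => h x v) h1
    simp only [hadd_left hF hσ, hsmul_left hF hσ, hv.2, mul_zero, add_zero] at h2
    have hau : a u = a (u + t • v) := mul_right_cancel₀ huv h2
    have h3 := congrArg (fun x => h u x) h1
    simp only [hadd_right hF hσ, hsmul_right hF hσ, hu.2, mul_zero, zero_add] at h3
    have ht0 : σ t ≠ 0 := by
      rw [ht, sigma_sigma hF hσ]; exact div_ne_zero hk0 huv
    have hav : σ (a v) = σ (a (u + t • v)) := by
      refine mul_right_cancel₀ (mul_ne_zero ht0 huv) ?_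
      linear_combination h3
    have huv' : a u = a v := hau.trans (σ.injective hav).symm
    refine ⟨huv', ?_⟩
    have h4 := hM u v
    rw [ha u hu, ha v hv, ← huv', hsmul_left hF hσ, hsmul_right hF hσ, ← mul_assoc] at h4
    exact mul_right_cancel₀ huv (h4.trans (one_mul _).symm)
  have hlink : ∀ u v, Isot q u → Isot q v → ∃ w, Isot q w ∧ h w u ≠ 0 ∧ h w v ≠ 0 := by
    intro u v hu hv
    obtain ⟨y, hyu, hyv⟩ : ∃ y, h y u = 1 ∧ h y v ≠ 0 := by
      obtain ⟨y₁, hy₁⟩ := exists_partner hF hσ hu.1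
      by_cases h1 : h y₁ v ≠ 0
      · exact ⟨y₁, hy₁, h1⟩
      rw [not_not] at h1
      obtain ⟨y₂, hy₂⟩ := exists_partner hF hσ hv.1
      by_cases h2 : h y₂ u = 0
      · exact ⟨y₁ + y₂, by rw [hadd_left hF hσ, hy₁, h2, add_zero],
          by rw [hadd_left hF hσ, h1, hy₂, zero_add]; exact one_ne_zero⟩
      · exact ⟨(h y₂ u)⁻¹ • y₂, by rw [hsmul_left hF hσ, inv_mul_cancel₀ h2],
          by rw [hsmul_left hF hσ, hy₂, mul_one]; exact inv_ne_zero h2⟩
    by_cases huv : h u v = 0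
    · obtain ⟨c, hc, hc1, hc0⟩ := exists_iso_shift hF hσ hu.2 hyu
      exact ⟨_, ⟨hc0, hc⟩, by rw [hc1]; exact one_ne_zero,
        by rw [hadd_left hF hσ, hsmul_left hF hσ, huv, mul_zero, add_zero]; exact hyv⟩
    · obtain ⟨k, hk0, hk⟩ := exists_skew (sigma_ne hF hσ) (sigma_sigma hF hσ)
      set t := σ (k / h u v) with ht
      have htv : h u (t • v) = k := by
        rw [hsmul_right hF hσ, ht, sigma_sigma hF hσ, div_mul_cancel₀ _ huv]
      have htu : h (t • v) u = σ k := by rw [hconj hF hσ u (t • v), htv]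
      have htt : h (t • v) (t • v) = 0 := by rw [hsmul_left hF hσ, hsmul_right hF hσ, hv.2, mul_zero, mul_zero]
      refine ⟨u + t • v, ⟨fun e0 => hk0 ?_, ?_⟩, ?_, ?_⟩
      · have h1 := congrArg (fun x => h u x) e0
        simp only [hadd_right hF hσ, hzero_right hF hσ, hu.2, htv, zero_add] at h1
        exact h1
      · rw [hadd_left hF hσ, hadd_right hF hσ, hadd_right hF hσ, hu.2, htv, htu, htt, zero_add, add_zero, hk]
      · rw [hadd_left hF hσ, hu.2, htu, zero_add]; simpa using hk0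
      · rw [hadd_left hF hσ, hsmul_left hF hσ, hv.2, mul_zero, add_zero]; exact huv
  have heq : ∀ u v, Isot q u → Isot q v → a u = a v := fun u v hu hv => by
    obtain ⟨w, hw, h1, h2⟩ := hlink u v hu hv
    exact (hnp w u hw hu h1).1.symm.trans (hnp w v hw hv h2).1
  have htest : ∀ m : Vn, m ≠ 0 → ∃ y, Isot q y ∧ h y m ≠ 0 := fun m hm => by
    obtain ⟨y, -, hy, hym⟩ := exists_iso_test_in hF hσ (⊤ : Submodule F Vn)
      (fun u _ hu => by
        obtain ⟨y, hy⟩ := exists_partner hF hσ hu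
        exact ⟨y, trivial, by rw [hy]; exact one_ne_zero⟩)
      (fun m _ => by
        obtain ⟨e, he0, he⟩ := exists_perp hF hσ ![m] (by omega)
        exact ⟨e, trivial, he0, he 0⟩) (m := m) trivial hm
    exact ⟨y, hy, hym⟩
  obtain ⟨u, hu⟩ : ∃ u : Vn, Isot q u := by
    obtain ⟨y, hy, -⟩ := htest (Pi.single ⟨0, by omega⟩ 1) (by simp)
    exact ⟨y, hy⟩
  obtain ⟨w, hw, h1, -⟩ := hlink u u hu hu
  have hnorm : a u * σ (a u) = 1 := (hnp u w hu hw fun e0 => h1 ((hcomm hF hσ u w).1 e0)).2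
  refine ⟨a u, fun y => ?_⟩
  rw [← sub_eq_zero]
  by_contra hm
  obtain ⟨v, hv, hvm⟩ := htest _ hm
  refine hvm ?_
  rw [hsub_right hF hσ, hsmul_right hF hσ, sub_eq_zero]
  have h5 := hM v y
  rw [ha v hv, heq v u hv hu, hsmul_left hF hσ] at h5
  linear_combination (σ (a u)) * h5 - h v (M *ᵥ y) * hnorm

/-- An element with every isotropic vector as eigenvector is a scalar. -/
lemma psuMk_eq_of_eigen (hn : 3 ≤ n) {s s' : SUn} (e : ∀ y, Isot q y → ∃ a : F, act s' y = a • act s y) :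
    psuMk s = psuMk s' := by
  obtain ⟨c, hc⟩ := exists_scalar_of_eigen hF hσ hn (M := ((s⁻¹ * s' : SUn).1 : Matrix (Fin n) (Fin n) F))
    (act_form (s⁻¹ * s')) fun y hy => by
      obtain ⟨a, ha⟩ := e y hy
      refine ⟨a, ?_⟩
      show act (s⁻¹ * s') y = a • y
      rw [act_mul, ha, act_smul, act_inv_apply]
  refine psuMk_eq_of_scalar hF hσ (c := c) fun y => ?_
  rw [← act_smul, show act s' y = act s (act (s⁻¹ * s') y) by rw [← act_mul, mul_inv_cancel_left]]
  exact congrArg (act s) (hc y)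

/-- Automorphisms of `PSU` are semilinear. -/
theorem aut_classification (hn : 3 ≤ n) (h32 : ¬(n = 3 ∧ q = 2)) (β : MulAut PSUn) :
    ∃ (g : GL (Fin n) F) (τ : F ≃+* F), g ∈ Cfsg.GU n F q ∧ Cfsg.IsInducedBySemilinearPSU g τ β := by
  obtain ⟨g, τ, hg, hrel⟩ := exists_semilinear hF hσ hn h32 β
  refine ⟨g, τ, hg, fun s s' hs => ?_⟩
  have hact : ∀ v, semiV g τ (act s v) = act s' (semiV g τ v) := by
    intro v
    have e : τ ∘ act s v = (s.1 : Matrix (Fin n) (Fin n) F).map τ *ᵥ (τ ∘ v) :=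
      funext fun i => RingHom.map_mulVec τ.toRingHom (s.1 : Matrix (Fin n) (Fin n) F) v i
    show (g : Matrix (Fin n) (Fin n) F) *ᵥ (τ ∘ act s v) =
      (s'.1 : Matrix (Fin n) (Fin n) F) *ᵥ ((g : Matrix (Fin n) (Fin n) F) *ᵥ (τ ∘ v))
    rw [e, hs, mulVec_mulVec, mulVec_mulVec, Matrix.mul_assoc _ ((g⁻¹ : GL (Fin n) F) : Matrix (Fin n) (Fin n) F),
      Units.inv_mul, Matrix.mul_one]
  obtain ⟨s'', hs''⟩ := QuotientGroup.mk'_surjective _ (β (psuMk s))
  show β (psuMk s) = psuMk s'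
  rw [← hs'']
  refine psuMk_eq_of_eigen hF hσ hn fun y hy => ?_
  set v : Vn := τ.symm ∘ (((g⁻¹ : GL (Fin n) F) : Matrix (Fin n) (Fin n) F) *ᵥ y) with hv
  have hvy : semiV g τ v = y := by
    rw [semiV, hv, ← Function.comp_assoc, show (τ ∘ τ.symm : F → F) = id by funext x; simp, Function.id_comp,
      mulVec_mulVec, Units.mul_inv, one_mulVec]
  have hv0 : v ≠ 0 := fun e => hy.1 (by rw [← hvy, e]; simpa using semiV_sub g τ (0 : Vn) 0)
  rcases hrel v hv0 with e | ⟨-, e, -⟩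
  swap
  · exact absurd hy.2 (by rwa [hvy] at e)
  have e' : RelI β (act s v) (semiV g τ (act s v)) :=
    (hrel (act s v) (act_ne_zero s hv0)).resolve_right fun e1 => e1.1 (e.1.act s).2
  rw [hact, hvy] at e'
  rw [hvy] at e
  obtain ⟨a, -, ha⟩ := RelI.unique hF hσ hn (e.act hF hσ hs''.symm) e'
  exact ⟨a, ha⟩

end CfsgLib.PSUAut
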