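/-
Standard field automorphisms of PSU.
-/
import Cfsg.Agent.Lib.KnownSimple.PSUAut.Classify

set_option autoImplicit false

namespace CfsgLib.PSUAut

open Matrix

variable {F : Type*} [Field F] {n q : ℕ}

lemma map_mulVec_apply (τ : F ≃+* F) (M : Matrix (Fin n) (Fin n) F) (v : Fin n → F) :
    M.map τ *ᵥ (τ ∘ v) = τ ∘ (M *ᵥ v) :=
  funext fun i => (RingHom.map_mulVec τ.toRingHom M v i).symm

lemma hermForm_comp (τ : F ≃+* F) (u v : Fin n → F) :
    Cfsg.hermForm n F q (τ ∘ u) (τ ∘ v) = τ (Cfsg.hermForm n F q u v) := by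
  simp [Cfsg.hermForm, map_sum, map_mul, map_pow]

lemma fieldSU_mem (τ : F ≃+* F) (s : Cfsg.SU n F q) :
    SpecialLinearGroup.map τ.toRingHom s.1 ∈ Cfsg.SU n F q := by
  intro u v
  have key : ∀ w : Fin n → F, Cfsg.slToMat n F (SpecialLinearGroup.map τ.toRingHom s.1) *ᵥ w =
      τ ∘ (Cfsg.slToMat n F s.1 *ᵥ (τ.symm ∘ w)) := fun w => by
    rw [← map_mulVec_apply, ← Function.comp_assoc, show (τ ∘ τ.symm : F → F) = id by funext x; simp, Function.id_comp]
    rfl
  rw [key, key, hermForm_comp, s.2, ← hermForm_comp, ← Function.comp_assoc, ← Function.comp_assoc,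
    show (τ ∘ τ.symm : F → F) = id by funext x; simp, Function.id_comp, Function.id_comp]

/-- A field automorphism applied to the entries. -/
noncomputable def fieldSU (τ : F ≃+* F) : Cfsg.SU n F q ≃* Cfsg.SU n F q where
  toFun s := ⟨_, fieldSU_mem τ s⟩
  invFun s := ⟨_, fieldSU_mem τ.symm s⟩
  left_inv s := Subtype.ext (Subtype.ext (Matrix.ext fun _ _ => τ.symm_apply_apply _))
  right_inv s := Subtype.ext (Subtype.ext (Matrix.ext fun _ _ => τ.apply_symm_apply _))
  map_mul' a b := Subtype.ext (map_mul _ _ _)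

/-- The standard field automorphism of `PSU`. -/
noncomputable def fieldPSU (τ : F ≃+* F) : MulAut (Cfsg.PSU n F q) :=
  QuotientGroup.congr _ _ (fieldSU τ) (by
    ext x
    simp only [Subgroup.mem_map, Subgroup.mem_center_iff]
    constructor
    · rintro ⟨y, hy, rfl⟩ z
      obtain ⟨w, rfl⟩ := (fieldSU τ).surjective z
      show fieldSU τ w * fieldSU τ y = fieldSU τ y * fieldSU τ w
      rw [← map_mul, hy w, map_mul]
    · intro hx
      refine ⟨(fieldSU τ).symm x, fun z => ?_, (fieldSU τ).apply_symm_apply x⟩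
      refine (fieldSU τ).injective ?_
      rw [map_mul, map_mul, MulEquiv.apply_symm_apply]
      exact hx _)

lemma fieldPSU_mk (τ : F ≃+* F) (s : Cfsg.SU n F q) :
    fieldPSU τ (QuotientGroup.mk s) = QuotientGroup.mk (fieldSU τ s) := rfl

lemma fieldSU_coe (τ : F ≃+* F) (s : Cfsg.SU n F q) :
    ((fieldSU τ s).1 : Matrix (Fin n) (Fin n) F) = (s.1 : Matrix (Fin n) (Fin n) F).map τ := rfl

lemma isFieldAutPSUOf_fieldPSU (τ : F ≃+* F) : Cfsg.IsFieldAutPSUOf τ (fieldPSU τ : MulAut (Cfsg.PSU n F q)) := by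
  intro s s' e
  show fieldPSU τ (QuotientGroup.mk s) = QuotientGroup.mk s'
  rw [fieldPSU_mk]
  congr 1
  exact Subtype.ext (Subtype.ext e.symm)

end CfsgLib.PSUAut
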