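/-
The structure of Aut and Out of PSU over a finite field.
-/
import Cfsg.Agent.Lib.KnownSimple.PSUAut.Aut
import Cfsg.Prelude.Def_KGroupFacts

set_option autoImplicit false

namespace CfsgLib.PSUAut

open Matrix CfsgLib.Transvec CfsgLib.Transvec.Unitary
open CfsgLib.UnitarySpec (sigma_sigma sigma_ne psuMk)
open CfsgLib.Classical (guDet guDet_range)

variable {F : Type*} [Field F] {n q : ℕ}

local notation "Vn" => Fin n → F
local notation "h" => Cfsg.hermForm n F q
local notation "SUn" => (Cfsg.SU n F q)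
local notation "GUn" => (Cfsg.GU n F q)
local notation "PSUn" => Cfsg.PSU n F q

section Conj

/-- `SU` in `GU`. -/
noncomputable def toGU : SUn →* GUn :=
  (SpecialLinearGroup.toGL.comp (Cfsg.SU n F q).subtype).codRestrict _ fun s => s.2

lemma toGU_coe (s : SUn) : (((toGU s : GUn) : GL (Fin n) F) : Matrix (Fin n) (Fin n) F) = (s.1 : Matrix (Fin n) (Fin n) F) := rfl

lemma toGU_injective : Function.Injective (toGU : SUn → GUn) := fun a b e =>
  Subtype.ext (Subtype.ext (congrArg (fun g : GUn => ((g : GL (Fin n) F) : Matrix (Fin n) (Fin n) F)) e))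

lemma guDet_toGU (s : SUn) : guDet n F q (toGU s) = 1 := Units.ext s.1.2

lemma exists_toGU {g : GUn} (hg : guDet n F q g = 1) : ∃ s : SUn, toGU s = g :=
  ⟨⟨⟨((g : GL (Fin n) F) : Matrix (Fin n) (Fin n) F), congrArg Units.val hg⟩, g.2⟩, Subtype.ext (Units.ext rfl)⟩

lemma ker_guDet : (guDet n F q).ker = (toGU : SUn →* GUn).range := by
  ext g
  refine ⟨fun hg => exists_toGU hg, ?_⟩
  rintro ⟨s, rfl⟩
  exact guDet_toGU s

/-- The conjugate of a special unitary element by a unitary one. -/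
noncomputable def conjSUFun (g : GUn) (s : SUn) : SUn :=
  ⟨⟨((g * toGU s * g⁻¹ : GUn) : GL (Fin n) F).val, congrArg Units.val (show guDet n F q (g * toGU s * g⁻¹) = 1 by
    rw [map_mul, map_mul, map_inv, guDet_toGU, mul_one, mul_inv_cancel])⟩, (g * toGU s * g⁻¹).2⟩

lemma toGU_conjSUFun (g : GUn) (s : SUn) : toGU (conjSUFun g s) = g * toGU s * g⁻¹ := Subtype.ext (Units.ext rfl)

/-- Conjugation by `GU` on `SU`. -/
noncomputable def conjSU (g : GUn) : SUn ≃* SUn where
  toFun := conjSUFun g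
  invFun := conjSUFun g⁻¹
  left_inv s := toGU_injective (by simp [toGU_conjSUFun, mul_assoc])
  right_inv s := toGU_injective (by simp [toGU_conjSUFun, mul_assoc])
  map_mul' a b := toGU_injective (by simp [toGU_conjSUFun, mul_assoc])

lemma toGU_conjSU (g : GUn) (s : SUn) : toGU (conjSU g s) = g * toGU s * g⁻¹ := toGU_conjSUFun g s

lemma conjSU_coe (g : GUn) (s : SUn) : ((conjSU g s).1 : Matrix (Fin n) (Fin n) F) =
    ((g : GL (Fin n) F) : Matrix (Fin n) (Fin n) F) * (s.1 : Matrix (Fin n) (Fin n) F) *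
      (((g : GL (Fin n) F)⁻¹ : GL (Fin n) F) : Matrix (Fin n) (Fin n) F) := rfl

/-- An automorphism of `SU` on the central quotient. -/
noncomputable def descendPSU : MulAut SUn →* MulAut PSUn where
  toFun α := QuotientGroup.congr _ _ α (Subgroup.characteristic_iff_map_eq.1 inferInstance α)
  map_one' := by ext x; induction x using QuotientGroup.induction_on with | _ s => rfl
  map_mul' a b := by ext x; induction x using QuotientGroup.induction_on with | _ s => rfl

lemma descendPSU_mk (α : MulAut SUn) (s : SUn) : descendPSU α (psuMk s) = psuMk (α s) := rfl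

lemma eq_of_psuMk_eq {α β : MulAut PSUn} (e : ∀ s : SUn, α (psuMk s) = β (psuMk s)) : α = β := by
  refine MulEquiv.ext fun x => ?_
  induction x using QuotientGroup.induction_on with | _ s => exact e s

/-- Conjugation by `GU` on `PSU`. -/
noncomputable def conjPSU : GUn →* MulAut PSUn :=
  descendPSU.comp
    { toFun := conjSU
      map_one' := MulEquiv.ext fun s => toGU_injective (by simp [toGU_conjSU])
      map_mul' := fun a b => MulEquiv.ext fun s => toGU_injective (by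
        simp [toGU_conjSU, mul_assoc, MulAut.mul_apply]) }

lemma conjPSU_mk (g : GUn) (s : SUn) : conjPSU g (psuMk s) = psuMk (conjSU g s) := rfl

lemma conjPSU_toGU (s : SUn) : conjPSU (toGU s) = MulAut.conj (psuMk s) := eq_of_psuMk_eq fun t => by
  rw [conjPSU_mk, MulAut.conj_apply, ← map_inv, ← map_mul, ← map_mul]
  exact congrArg psuMk (toGU_injective (by rw [toGU_conjSU, map_mul, map_mul, map_inv]))

lemma conjPSU_eq_one_of_scalar {g : GUn} {c : F} (hg : ((g : GL (Fin n) F) : Matrix (Fin n) (Fin n) F) = c • 1) :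
    conjPSU g = 1 := eq_of_psuMk_eq fun s => by
  rw [conjPSU_mk, MulAut.one_apply]
  congr 1
  refine toGU_injective ?_
  rw [toGU_conjSU, mul_inv_eq_iff_eq_mul]
  refine Subtype.ext (Units.ext ?_)
  show ((g : GL (Fin n) F) : Matrix (Fin n) (Fin n) F) * (s.1 : Matrix (Fin n) (Fin n) F) =
    (s.1 : Matrix (Fin n) (Fin n) F) * ((g : GL (Fin n) F) : Matrix (Fin n) (Fin n) F)
  rw [hg, Matrix.smul_mul, Matrix.mul_smul, Matrix.one_mul, Matrix.mul_one]

lemma fieldPSU_mul (σ τ : F ≃+* F) : (fieldPSU (σ * τ) : MulAut PSUn) = fieldPSU σ * fieldPSU τ :=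
  eq_of_psuMk_eq fun s => congrArg psuMk (Subtype.ext (Subtype.ext (Matrix.ext fun _ _ => rfl)))

/-- The standard field automorphisms as a homomorphism. -/
noncomputable def fieldHomPSU : (F ≃+* F) →* MulAut PSUn := MonoidHom.mk' fieldPSU fieldPSU_mul

lemma fieldHomPSU_apply (τ : F ≃+* F) : (fieldHomPSU τ : MulAut PSUn) = fieldPSU τ := rfl

lemma fieldGU_mem (τ : F ≃+* F) (g : GUn) : GeneralLinearGroup.map τ.toRingHom (g : GL (Fin n) F) ∈ GUn := by
  intro u v
  have key : ∀ w : Fin n → F, ((GeneralLinearGroup.map τ.toRingHom (g : GL (Fin n) F) : GL (Fin n) F) :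
      Matrix (Fin n) (Fin n) F) *ᵥ w = τ ∘ (((g : GL (Fin n) F) : Matrix (Fin n) (Fin n) F) *ᵥ (τ.symm ∘ w)) :=
    fun w => by
      rw [← map_mulVec_apply, ← Function.comp_assoc, show (τ ∘ τ.symm : F → F) = id by funext x; simp,
        Function.id_comp]
      rfl
  rw [Units.coeHom_apply, key, key, hermForm_comp, show h (((g : GL (Fin n) F) : Matrix (Fin n) (Fin n) F) *ᵥ (τ.symm ∘ u))
      (((g : GL (Fin n) F) : Matrix (Fin n) (Fin n) F) *ᵥ (τ.symm ∘ v)) = h (τ.symm ∘ u) (τ.symm ∘ v) from g.2 _ _,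
    ← hermForm_comp, ← Function.comp_assoc, ← Function.comp_assoc,
    show (τ ∘ τ.symm : F → F) = id by funext x; simp, Function.id_comp, Function.id_comp]

/-- A field automorphism applied to a unitary element. -/
noncomputable def fieldGU (τ : F ≃+* F) : GUn →* GUn :=
  ((GeneralLinearGroup.map τ.toRingHom).comp (Cfsg.GU n F q).subtype).codRestrict _ (fieldGU_mem τ)

lemma fieldGU_coe (τ : F ≃+* F) (g : GUn) : (((fieldGU τ g : GUn) : GL (Fin n) F) : Matrix (Fin n) (Fin n) F) =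
    ((g : GL (Fin n) F) : Matrix (Fin n) (Fin n) F).map τ := rfl

lemma toGU_fieldSU (τ : F ≃+* F) (s : SUn) : toGU (fieldSU τ s) = fieldGU τ (toGU s) := Subtype.ext (Units.ext rfl)

lemma fieldPSU_mul_conjPSU (τ : F ≃+* F) (g : GUn) :
    fieldPSU τ * conjPSU g = conjPSU (fieldGU τ g) * fieldPSU τ := eq_of_psuMk_eq fun s => by
  show fieldPSU τ (conjPSU g (psuMk s)) = conjPSU (fieldGU τ g) (fieldPSU τ (psuMk s))
  rw [conjPSU_mk, show fieldPSU τ (psuMk s) = psuMk (fieldSU τ s) from rfl, conjPSU_mk,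
    show fieldPSU τ (psuMk (conjSU g s)) = psuMk (fieldSU τ (conjSU g s)) from rfl]
  congr 1
  exact toGU_injective (by rw [toGU_fieldSU, toGU_conjSU, toGU_conjSU, toGU_fieldSU, map_mul, map_mul, map_inv])

lemma eq_of_isInduced {g : GUn} {τ : F ≃+* F} {β : MulAut PSUn}
    (hβ : Cfsg.IsInducedBySemilinearPSU (g : GL (Fin n) F) τ β) : β = conjPSU g * fieldPSU τ :=
  eq_of_psuMk_eq fun s => hβ s (conjSU g (fieldSU τ s)) rfl

lemma isInduced_conj_field (g : GUn) (τ : F ≃+* F) :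
    Cfsg.IsInducedBySemilinearPSU (g : GL (Fin n) F) τ (conjPSU g * fieldPSU τ : MulAut PSUn) := by
  intro s s' e
  show conjPSU g (fieldPSU τ (psuMk s)) = psuMk s'
  rw [show fieldPSU τ (psuMk s) = psuMk (fieldSU τ s) from rfl, conjPSU_mk]
  congr 1
  exact Subtype.ext (Subtype.ext e.symm)

lemma mem_inndiagPSU_iff {β : MulAut PSUn} :
    β ∈ Cfsg.inndiagPSU n F q ↔ β ∈ (conjPSU : GUn →* MulAut PSUn).range := by
  have key : ∀ γ : MulAut PSUn, Cfsg.IsInnerDiagonalAutPSU γ ↔ γ ∈ (conjPSU : GUn →* MulAut PSUn).range := by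
    intro γ
    constructor
    · rintro ⟨g, hg, hγ⟩
      exact ⟨⟨g, hg⟩, (eq_of_psuMk_eq fun s => hγ s (conjSU ⟨g, hg⟩ s) rfl).symm⟩
    · rintro ⟨g, rfl⟩
      exact ⟨g, g.2, fun s s' e => congrArg psuMk (Subtype.ext (Subtype.ext e.symm))⟩
  show β ∈ Subgroup.closure _ ↔ _
  rw [show {β : MulAut PSUn | Cfsg.IsInnerDiagonalAutPSU β} = ((conjPSU : GUn →* MulAut PSUn).range : Set _) from
    Set.ext key, Subgroup.closure_eq]

lemma inn_le_range_conjPSU : Cfsg.Inn PSUn ≤ (conjPSU : GUn →* MulAut PSUn).range := by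
  rintro _ ⟨x, rfl⟩
  induction x using QuotientGroup.induction_on with | _ s => exact ⟨_, conjPSU_toGU s⟩

lemma semiV_act {g : GUn} {τ : F ≃+* F} (t : SUn) (y : Vn) :
    act (conjSU g (fieldSU τ t)) (semiV (g : GL (Fin n) F) τ y) = semiV (g : GL (Fin n) F) τ (act t y) := by
  show ((conjSU g (fieldSU τ t)).1 : Matrix (Fin n) (Fin n) F) *ᵥ _ = _
  rw [conjSU_coe, fieldSU_coe, semiV, mulVec_mulVec, Matrix.mul_assoc, Units.inv_mul, Matrix.mul_one,
    ← mulVec_mulVec, map_mulVec_apply]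
  rfl

lemma semiV_surjective (g : GUn) (τ : F ≃+* F) (z : Vn) : ∃ y, semiV (g : GL (Fin n) F) τ y = z :=
  ⟨τ.symm ∘ ((((g : GL (Fin n) F)⁻¹ : GL (Fin n) F) : Matrix (Fin n) (Fin n) F) *ᵥ z), by
    rw [semiV, ← Function.comp_assoc, show (τ ∘ τ.symm : F → F) = id by funext x; simp, Function.id_comp,
      mulVec_mulVec, Units.mul_inv, one_mulVec]⟩

lemma semiV_smul (g : GL (Fin n) F) (τ : F ≃+* F) (a : F) (v : Vn) :
    semiV g τ (a • v) = τ a • semiV g τ v := by
  rw [semiV, semiV, show (τ ∘ (a • v) : Vn) = τ a • (τ ∘ v) by funext i; simp, mulVec_smul]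

lemma semiV_form (g : GUn) (τ : F ≃+* F) (u v : Vn) :
    h (semiV (g : GL (Fin n) F) τ u) (semiV (g : GL (Fin n) F) τ v) = τ (h u v) :=
  (g.2 _ _).trans (hermForm_comp τ u v)

end Conj

variable [Fintype F] (hF : Fintype.card F = q ^ 2) {σ : F ≃+* F} (hσ : ∀ a, σ a = a ^ q)

include hF hσ

lemma semiV_mem_span (hn : 3 ≤ n) {g : GUn} {τ : F ≃+* F} (e : conjPSU g * fieldPSU τ = (1 : MulAut PSUn))
    {v : Vn} (hv : Isot q v) : ∃ a : F, a ≠ 0 ∧ semiV (g : GL (Fin n) F) τ v = a • v := by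
  set w := semiV (g : GL (Fin n) F) τ v with hw
  have hwi : Isot q w := by
    refine ⟨fun h0 => hv.1 ?_, by rw [hw, semiV_form, hv.2, map_zero]⟩
    refine eq_zero_of_perp hF hσ fun y => τ.injective ?_
    rw [map_zero, ← semiV_form g τ, ← hw, h0, hzero_right hF hσ]
  have key : ∀ t ∈ (tSU v : Subgroup SUn), psuMk t ∈ (tP w : Subgroup PSUn) := by
    intro t ht
    refine ⟨conjSU g (fieldSU τ t), fun z => ?_, DFunLike.congr_fun e (psuMk t)⟩
    obtain ⟨y, rfl⟩ := semiV_surjective g τ z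
    rw [semiV_act]
    constructor
    · obtain ⟨d, hd⟩ := Submodule.mem_span_singleton.1 (ht y).1
      refine Submodule.mem_span_singleton.2 ⟨τ d, ?_⟩
      rw [hw, ← semiV_smul, hd, semiV_sub]
    · intro hy
      rw [hw, semiV_form, map_eq_zero_iff _ τ.injective] at hy
      rw [(ht y).2 hy]
  obtain ⟨t, ht, htm⟩ := exists_nontrivial_tSU hF hσ hv
  obtain ⟨t', ht', he⟩ := key t ht
  obtain ⟨y, hy, h1, h2⟩ := exists_common_perp hF hσ hn v w
  obtain rfl := eq_of_psuMk hF hσ (by omega) he hy ((ht' y).2 h2) ((ht y).2 h1)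
  obtain ⟨y₀, hy₀⟩ := exists_partner hF hσ hv.1
  have hne := htm y₀ (by rw [hy₀]; exact one_ne_zero)
  obtain ⟨d, hd⟩ := Submodule.mem_span_singleton.1 (ht y₀).1
  obtain ⟨d', hd'⟩ := Submodule.mem_span_singleton.1 (ht' y₀).1
  have hd0 : d ≠ 0 := fun h0 => hne (sub_eq_zero.1 (by rw [← hd, h0, zero_smul]))
  have hd0' : d' ≠ 0 := fun h0 => hne (sub_eq_zero.1 (by rw [← hd', h0, zero_smul]))
  refine ⟨d'⁻¹ * d, mul_ne_zero (inv_ne_zero hd0') hd0, ?_⟩
  rw [← smul_smul, hd, ← hd', smul_smul, inv_mul_cancel₀ hd0', one_smul]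

/-- A hyperbolic pair and an anisotropic vector orthogonal to it. -/
lemma exists_frame (hn : 3 ≤ n) :
    ∃ u v w : Vn, Isot q u ∧ Isot q v ∧ h u v = 1 ∧ h w u = 0 ∧ h w v = 0 ∧ h w w ≠ 0 := by
  obtain ⟨u, hu, -⟩ : ∃ u : Vn, Isot q u ∧ h u (Pi.single ⟨0, by omega⟩ 1) ≠ 0 := by
    obtain ⟨y, -, hy, hym⟩ := exists_iso_test_in hF hσ (⊤ : Submodule F Vn)
      (fun u _ hu => by
        obtain ⟨y, hy⟩ := exists_partner hF hσ hu
        exact ⟨y, trivial, by rw [hy]; exact one_ne_zero⟩)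
      (fun m _ => by
        obtain ⟨e, he0, he⟩ := exists_perp hF hσ ![m] (by omega)
        exact ⟨e, trivial, he0, he 0⟩) (m := Pi.single ⟨0, by omega⟩ (1 : F)) trivial (by simp)
    exact ⟨y, hy, hym⟩
  obtain ⟨y₀, hy₀⟩ := exists_partner hF hσ hu.1
  obtain ⟨a, ha, ha1, hane⟩ := exists_iso_shift hF hσ hu.2 hy₀
  set v := y₀ + a • u with hv
  have huv : h u v = 1 := by rw [hconj hF hσ v u, ha1, map_one]
  obtain ⟨e, he0, he⟩ := exists_perp hF hσ ![u, v] (by omega)
  by_cases hee : h e e = 0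
  swap
  · exact ⟨u, v, e, hu, ⟨hane, ha⟩, huv, he 0, he 1, hee⟩
  obtain ⟨y, hy⟩ := exists_partner hF hσ he0
  set y' := y - h y v • u - h y u • v with hy'
  have hue : h u e = 0 := (hcomm hF hσ e u).1 (he 0)
  have hve : h v e = 0 := (hcomm hF hσ e v).1 (he 1)
  have h1 : h y' e = 1 := by
    rw [hy', hsub_left hF hσ, hsub_left hF hσ, hsmul_left hF hσ, hsmul_left hF hσ, hue, hve, hy]; ring
  have h2 : h y' u = 0 := by
    rw [hy', hsub_left hF hσ, hsub_left hF hσ, hsmul_left hF hσ, hsmul_left hF hσ, hu.2, ha1]; ring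
  have h3 : h y' v = 0 := by
    rw [hy', hsub_left hF hσ, hsub_left hF hσ, hsmul_left hF hσ, hsmul_left hF hσ, ha, huv]; ring
  by_cases hyy : h y' y' = 0
  swap
  · exact ⟨u, v, y', hu, ⟨hane, ha⟩, huv, h2, h3, hyy⟩
  obtain ⟨c, hc⟩ := exists_trace_ne_zero (sigma_ne hF hσ)
  refine ⟨u, v, y' + c • e, hu, ⟨hane, ha⟩, huv, ?_, ?_, ?_⟩
  · rw [hadd_left hF hσ, hsmul_left hF hσ, h2, show h e u = 0 from he 0, mul_zero, add_zero]
  · rw [hadd_left hF hσ, hsmul_left hF hσ, h3, show h e v = 0 from he 1, mul_zero, add_zero]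
  · rw [hadd_left hF hσ, hadd_right hF hσ, hadd_right hF hσ, hsmul_left hF hσ, hsmul_left hF hσ,
      hsmul_right hF hσ, hsmul_right hF hσ, hee, hyy, h1, hconj hF hσ y' e, h1, map_one]
    intro h0
    exact hc (by linear_combination h0)

/-- The semilinear part is unique and the linear part is unique up to a scalar. -/
lemma eq_one_of_conj_field_eq_one (hn : 3 ≤ n) {g : GUn} {τ : F ≃+* F}
    (e : conjPSU g * fieldPSU τ = (1 : MulAut PSUn)) :
    τ = 1 ∧ ∃ c : F, ((g : GL (Fin n) F) : Matrix (Fin n) (Fin n) F) = c • 1 := by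
  set A := semiV (g : GL (Fin n) F) τ with hA
  have hτ : τ = 1 := by
    obtain ⟨u, v, w, hu, hv, huv, hwu, hwv, hww⟩ := exists_frame hF hσ hn
    have hvu : h v u = 1 := by rw [hconj hF hσ u v, huv, map_one]
    obtain ⟨a, ha0, ha⟩ := semiV_mem_span hF hσ hn e hu
    obtain ⟨b, hb0, hb⟩ := semiV_mem_span hF hσ hn e hv
    have hAv : h (A w) v = 0 := by
      have h1 := semiV_form g τ w v
      rw [hb, hwv, map_zero, hsmul_right hF hσ] at h1
      exact (mul_eq_zero.1 h1).resolve_left ((map_ne_zero σ).2 hb0)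
    have key : ∀ x : F, τ x * h (A w) w = a * x * h w w := by
      intro x
      obtain ⟨t, ht⟩ := exists_trace_eq (sigma_ne hF hσ) (sigma_sigma hF hσ) (b := -(x * σ x * h w w))
        (by rw [map_neg, map_mul, map_mul, sigma_sigma hF hσ, hself hF hσ, mul_comm (σ x)])
      have huw : h u w = 0 := (hcomm hF hσ w u).1 hwu
      have hvw : h v w = 0 := (hcomm hF hσ w v).1 hwv
      have hz : Isot q (u + t • v + x • w) := by
        refine ⟨fun h0 => one_ne_zero (α := F) ?_, ?_⟩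
        · have h1 := congrArg (fun y => h y v) h0
          simp only [hadd_left hF hσ, hsmul_left hF hσ, hzero_left hF hσ, huv, hv.2, hwv, mul_zero, add_zero] at h1
          exact h1
        · simp only [hadd_left hF hσ, hadd_right hF hσ, hsmul_left hF hσ, hsmul_right hF hσ, hu.2, hv.2, huv, hvu,
            hwu, hwv, huw, hvw, mul_zero, mul_one, add_zero, zero_add]
          linear_combination ht
      obtain ⟨k, -, hk⟩ := semiV_mem_span hF hσ hn e hz
      rw [semiV_add, semiV_add, semiV_smul, semiV_smul, ha, hb, ← hA] at hk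
      have h1 := congrArg (fun y => h y v) hk
      simp only [hadd_left hF hσ, hsmul_left hF hσ, huv, hv.2, hwv, hAv, mul_zero, mul_one, add_zero] at h1
      have h2 := congrArg (fun y => h y w) hk
      simp only [hadd_left hF hσ, hsmul_left hF hσ, huw, hvw, mul_zero, zero_add, ← h1] at h2
      linear_combination h2
    refine RingEquiv.ext fun x => ?_
    have h1 := key 1
    rw [map_one, one_mul, mul_one] at h1
    have h2 := key x
    rw [h1] at h2
    rw [RingAut.one_apply]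
    refine mul_right_cancel₀ (mul_ne_zero ha0 hww) ?_
    linear_combination h2
  subst hτ
  refine ⟨rfl, ?_⟩
  obtain ⟨c, hc⟩ := exists_scalar_of_eigen hF hσ hn (M := ((g : GL (Fin n) F) : Matrix (Fin n) (Fin n) F)) g.2
    fun y hy => by
      obtain ⟨a, -, ha⟩ := semiV_mem_span hF hσ hn e hy
      exact ⟨a, ha⟩
  exact ⟨c, Matrix.ext_of_mulVec_single fun i => by rw [hc, smul_mulVec, one_mulVec]⟩

lemma conjPSU_eq_one_iff (hn : 3 ≤ n) (g : GUn) :
    conjPSU g = (1 : MulAut PSUn) ↔ ∃ c : F, ((g : GL (Fin n) F) : Matrix (Fin n) (Fin n) F) = c • 1 := by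
  refine ⟨fun e => (eq_one_of_conj_field_eq_one hF hσ hn (τ := 1) ?_).2, fun ⟨c, hc⟩ => conjPSU_eq_one_of_scalar hc⟩
  rw [e, one_mul, ← fieldHomPSU_apply, map_one]

lemma conj_field_injective (hn : 3 ≤ n) {g g' : GUn} {τ τ' : F ≃+* F}
    (e : conjPSU g * fieldPSU τ = (conjPSU g' * fieldPSU τ' : MulAut PSUn)) : τ = τ' := by
  have h1 : conjPSU (g'⁻¹ * g) * fieldPSU (τ * τ'⁻¹) = (1 : MulAut PSUn) := by
    rw [map_mul, map_inv, fieldPSU_mul, ← fieldHomPSU_apply τ'⁻¹, map_inv, fieldHomPSU_apply,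
      mul_assoc, ← mul_assoc (conjPSU g), e]
    group
  exact mul_inv_eq_one.1 (eq_one_of_conj_field_eq_one hF hσ hn h1).1

/-- `Aut PSU → Aut F`. -/
lemma exists_aut_hom (hn : 3 ≤ n) (h32 : ¬(n = 3 ∧ q = 2)) :
    ∃ ψ : MulAut PSUn →* F ≃+* F, Function.Surjective ψ ∧ ψ.ker = (conjPSU : GUn →* MulAut PSUn).range ∧
      ∀ g τ, ψ (conjPSU g * fieldPSU τ) = τ := by
  have hex : ∀ β : MulAut PSUn, ∃ (g : GUn) (τ : F ≃+* F), β = conjPSU g * fieldPSU τ := fun β => by
    obtain ⟨g, τ, hg, hβ⟩ := aut_classification hF hσ hn h32 β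
    exact ⟨⟨g, hg⟩, τ, eq_of_isInduced (g := ⟨g, hg⟩) hβ⟩
  choose g τ hβ using hex
  let ψ : MulAut PSUn →* F ≃+* F := MonoidHom.mk' τ fun a b =>
    conj_field_injective hF hσ hn (g := g (a * b)) (g' := g a * fieldGU (τ a) (g b)) (by
      rw [← hβ, map_mul, fieldPSU_mul]
      conv_lhs => rw [hβ a, hβ b]
      simp only [mul_assoc]
      rw [← mul_assoc (fieldPSU (τ a)), fieldPSU_mul_conjPSU, mul_assoc])
  have key : ∀ g' τ', ψ (conjPSU g' * fieldPSU τ') = τ' := fun g' τ' =>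
    conj_field_injective hF hσ hn (hβ _).symm
  refine ⟨ψ, fun τ' => ⟨_, key 1 τ'⟩, ?_, key⟩
  ext β
  constructor
  · intro hb
    refine ⟨g β, ?_⟩
    conv_rhs => rw [hβ β, show τ β = 1 from hb, ← fieldHomPSU_apply, map_one, mul_one]
  · rintro ⟨g', rfl⟩
    have := key g' 1
    rwa [← fieldHomPSU_apply, map_one, mul_one] at this

/-- The image of the diagonal automorphisms in `Out`. -/
lemma out_structure (hn : 3 ≤ n) {H : Type*} [Group H] (ψ : MulAut PSUn →* H) (hs : Function.Surjective ψ)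
    (hk : ψ.ker = (conjPSU : GUn →* MulAut PSUn).range) :
    ∃ φ : Cfsg.Out PSUn →* H, Function.Surjective φ ∧ IsCyclic φ.ker ∧ Nat.card φ.ker = Nat.gcd n (q + 1) := by
  classical
  have hle : Cfsg.Inn PSUn ≤ ψ.ker := hk.symm ▸ inn_le_range_conjPSU
  let φ : Cfsg.Out PSUn →* H := QuotientGroup.lift _ ψ hle
  let Θ₀ : GUn →* Cfsg.Out PSUn := (QuotientGroup.mk' _).comp conjPSU
  have hΘ₀ : Θ₀.range = φ.ker := by
    ext y
    induction y using QuotientGroup.induction_on with | _ β => ?_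
    constructor
    · rintro ⟨g, hg⟩
      rw [MonoidHom.mem_ker, ← hg]
      exact MonoidHom.mem_ker.1 (hk.symm ▸ ⟨g, rfl⟩ : conjPSU g ∈ ψ.ker)
    · intro hb
      obtain ⟨g, rfl⟩ := (hk ▸ (MonoidHom.mem_ker.2 hb) : β ∈ (conjPSU : GUn →* MulAut PSUn).range)
      exact ⟨g, rfl⟩
  have hkerle : ((guDet n F q).rangeRestrict).ker ≤ Θ₀.ker := by
    rw [MonoidHom.ker_rangeRestrict, ker_guDet]
    rintro _ ⟨s, rfl⟩
    exact MonoidHom.mem_ker.2 ((QuotientGroup.eq_one_iff _).2 ⟨psuMk s, (conjPSU_toGU s).symm⟩)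
  let Θ : (guDet n F q).range →* Cfsg.Out PSUn :=
    (guDet n F q).rangeRestrict.liftOfSurjective (guDet n F q).rangeRestrict_surjective ⟨Θ₀, hkerle⟩
  have hΘ : ∀ g, Θ ((guDet n F q).rangeRestrict g) = Θ₀ g :=
    fun g => MonoidHom.liftOfRightInverse_comp_apply _ _ _ _ g
  have hrange : Θ.range = φ.ker := by
    rw [← hΘ₀]
    ext y
    constructor
    · rintro ⟨x, rfl⟩
      obtain ⟨g, rfl⟩ := (guDet n F q).rangeRestrict_surjective x
      exact ⟨g, (hΘ g).symm⟩
    · rintro ⟨g, rfl⟩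
      exact ⟨_, hΘ g⟩
  have hker : Θ.ker = (powMonoidHom n : (guDet n F q).range →* (guDet n F q).range).range := by
    ext x
    obtain ⟨g, rfl⟩ := (guDet n F q).rangeRestrict_surjective x
    rw [MonoidHom.mem_ker, hΘ]
    constructor
    · intro hg
      obtain ⟨y, hy⟩ := (QuotientGroup.eq_one_iff _).1 hg
      induction y using QuotientGroup.induction_on with | _ s => ?_
      have hy' : conjPSU (toGU s) = conjPSU g := (conjPSU_toGU s).trans hy
      obtain ⟨c, hc⟩ := (conjPSU_eq_one_iff hF hσ hn ((toGU s)⁻¹ * g)).1 (by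
        rw [map_mul, map_inv, hy', inv_mul_cancel])
      set z : GUn := (toGU s)⁻¹ * g with hz
      have hdz : guDet n F q z = guDet n F q g := by rw [hz, map_mul, map_inv, guDet_toGU, inv_one, one_mul]
      have hcn : (guDet n F q g : F) = c ^ n := by
        rw [← hdz]
        show ((z : GL (Fin n) F) : Matrix (Fin n) (Fin n) F).det = _
        rw [hc, det_smul, det_one, mul_one, Fintype.card_fin]
      have hc0 : c ≠ 0 := fun h0 => (guDet n F q g).ne_zero (by rw [hcn, h0, zero_pow (by omega)])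
      refine ⟨⟨Units.mk0 c hc0, ?_⟩, Subtype.ext (Units.ext hcn.symm)⟩
      rw [guDet_range hF (by omega), MonoidHom.mem_ker]
      refine Units.ext ?_
      have h1 := z.2 (Pi.single ⟨0, by omega⟩ 1) (Pi.single ⟨0, by omega⟩ 1)
      change h (((z : GL (Fin n) F) : Matrix (Fin n) (Fin n) F) *ᵥ _) (((z : GL (Fin n) F) : Matrix (Fin n) (Fin n) F) *ᵥ _) = _ at h1
      rw [hc, smul_mulVec, one_mulVec, hsmul_left hF hσ, hsmul_right hF hσ, hermForm_basis hσ, if_pos rfl,
        mul_one, hσ, ← pow_succ'] at h1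
      simpa using h1
    · rintro ⟨⟨c, hc⟩, hcg⟩
      rw [guDet_range hF (by omega), MonoidHom.mem_ker] at hc
      obtain ⟨z, hz⟩ := CfsgLib.Classical.exists_gu_diag hF (fun _ : Fin n => (c : F)) fun _ => by
        simpa using congrArg Units.val hc
      have hz1 : conjPSU z = (1 : MulAut PSUn) :=
        conjPSU_eq_one_of_scalar (c := (c : F)) (by rw [hz, smul_one_eq_diagonal])
      obtain ⟨s, hs'⟩ := exists_toGU (g := z⁻¹ * g) (by
        have h1 : (c ^ n : Fˣ) = guDet n F q g := congrArg Subtype.val hcg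
        rw [map_mul, map_inv, ← h1, inv_mul_eq_one]
        refine Units.ext ?_
        show ((z : GL (Fin n) F) : Matrix (Fin n) (Fin n) F).det = _
        simp [hz])
      refine (QuotientGroup.eq_one_iff _).2 ⟨psuMk s, ?_⟩
      rw [← conjPSU_toGU, hs', map_mul, map_inv, hz1, inv_one, one_mul]
  refine ⟨φ, QuotientGroup.lift_surjective_of_surjective _ ψ hs hle, ?_, ?_⟩
  · rw [← hrange]
    exact isCyclic_of_surjective Θ.rangeRestrict Θ.rangeRestrict_surjective
  · rw [← hrange, ← Subgroup.index_ker, hker, IsCyclic.index_powMonoidHom_range, guDet_range hF (by omega),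
      IsCyclic.card_powMonoidHom_ker, Nat.card_units, Nat.card_eq_fintype_card, hF,
      show q ^ 2 - 1 = (q + 1) * (q - 1) by rw [← Nat.sq_sub_sq, one_pow], Nat.gcd_eq_right (Dvd.intro _ rfl),
      Nat.gcd_comm]

end CfsgLib.PSUAut
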