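/-
Field automorphisms of PSU of odd prime order: Lang's theorem in GU, centralisers and class splitting in Inndiag.
-/
import Cfsg.Agent.Lib.KnownSimple.PSUAut.Out
import Cfsg.Agent.Lib.KnownSimple.PSLAut.FieldClass

set_option autoImplicit false

namespace CfsgLib.PSUAut

open Matrix
open CfsgLib.UnitarySpec (sigma_sigma sigma_ne psuMk)
open CfsgLib.PSLAut (fixedField fixedUnits normHom nuHom twNorm)
open CfsgLib.Classical (guDet guDet_range)

/-- The index of `P · N` in a cyclic group, `P` the `k`-th powers. -/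
lemma index_powers_sup {A : Type*} [CommGroup A] [Finite A] [IsCyclic A] (N : Subgroup A) (k : ℕ) :
    ((powMonoidHom k : A →* A).range ⊔ N).index = Nat.gcd N.index k := by
  have e : (powMonoidHom k : A →* A).range ⊔ N =
      (powMonoidHom (α := A ⧸ N) k).range.comap (QuotientGroup.mk' N) := by
    rw [← Subgroup.comap_map_eq_self (H := (powMonoidHom k : A →* A).range ⊔ N) (f := QuotientGroup.mk' N)
      (by rw [QuotientGroup.ker_mk']; exact le_sup_right)]
    congr 1
    rw [Subgroup.map_sup, QuotientGroup.map_mk'_self, sup_bot_eq]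
    ext y
    constructor
    · rintro ⟨_, ⟨u, rfl⟩, rfl⟩
      exact ⟨QuotientGroup.mk u, rfl⟩
    · rintro ⟨v, rfl⟩
      induction v using QuotientGroup.induction_on with | _ u => ?_
      exact ⟨u ^ k, ⟨u, rfl⟩, rfl⟩
  rw [e, Subgroup.index_comap_of_surjective _ (QuotientGroup.mk'_surjective N)]
  haveI : IsCyclic (A ⧸ N) := isCyclic_of_surjective _ (QuotientGroup.mk'_surjective N)
  rw [IsCyclic.index_powMonoidHom_range, Subgroup.index]

variable {F : Type*} [Field F] {n q : ℕ}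

local notation "GUn" => (Cfsg.GU n F q)
local notation "PSUn" => Cfsg.PSU n F q

/-- The scalars of norm one. -/
abbrev normOne (F : Type*) [Field F] (q : ℕ) : Subgroup Fˣ := (powMonoidHom (q + 1) : Fˣ →* Fˣ).ker

lemma mem_normOne_iff {x : Fˣ} : x ∈ normOne F q ↔ (x : F) ^ (q + 1) = 1 := by
  rw [MonoidHom.mem_ker, powMonoidHom_apply, Units.ext_iff, Units.val_pow_eq_pow_val, Units.val_one]

/-- Unitary matrices through the Gram matrix. -/
lemma mem_GU_iff_mul {ρ : F ≃+* F} (hρ : ∀ a, ρ a = a ^ q) (g : GL (Fin n) F) :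
    g ∈ Cfsg.GU n F q ↔ (g : Matrix (Fin n) (Fin n) F)ᵀ * (g : Matrix (Fin n) (Fin n) F).map ρ = 1 := by
  have hform : ∀ u v : Fin n → F, Cfsg.hermForm n F q u v = u ⬝ᵥ ((1 : Matrix (Fin n) (Fin n) F) *ᵥ (ρ ∘ v)) := by
    intro u v; rw [one_mulVec]; simp [Cfsg.hermForm, dotProduct, hρ]
  constructor
  · intro hg
    ext i j
    have h1 := hg (Pi.single i 1) (Pi.single j 1)
    rw [Units.coeHom_apply, hform, hform, CfsgLib.UnitarySpec.herm_exp, Matrix.mul_one, one_mulVec] at h1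
    have hs : ρ ∘ (Pi.single j (1 : F) : Fin n → F) = Pi.single j 1 := by
      funext k
      rcases eq_or_ne k j with rfl | hk
      · simp only [Function.comp_apply, Pi.single_eq_same, map_one]
      · simp only [Function.comp_apply, Pi.single_eq_of_ne hk, map_zero]
    rw [hs] at h1
    simpa [Matrix.one_apply, Pi.single_apply, eq_comm] using h1
  · intro hg u v
    rw [Units.coeHom_apply, hform, hform, CfsgLib.UnitarySpec.herm_exp, Matrix.mul_one, hg]

lemma scalar_mem_GU {y : Fˣ} (hy : y ∈ normOne F q) :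
    GeneralLinearGroup.scalar (Fin n) y ∈ Cfsg.GU n F q := by
  intro u v
  rw [Units.coeHom_apply, GeneralLinearGroup.coe_scalar, scalar_apply, ← smul_one_eq_diagonal, smul_mulVec,
    one_mulVec, smul_mulVec, one_mulVec]
  simp only [Cfsg.hermForm, Pi.smul_apply, smul_eq_mul, mul_pow]
  refine Finset.sum_congr rfl fun i _ => ?_
  have := mem_normOne_iff.1 hy
  rw [pow_succ'] at this
  linear_combination (u i * v i ^ q) * this

/-- The scalar unitary matrices. -/
noncomputable def scalarGU : normOne F q →* GUn :=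
  ((GeneralLinearGroup.scalar (Fin n)).comp (normOne F q).subtype).codRestrict _ fun y => scalar_mem_GU y.2

lemma scalarGU_coe (y : normOne F q) :
    ((scalarGU y : GUn) : GL (Fin n) F) = GeneralLinearGroup.scalar (Fin n) (y : Fˣ) := rfl

lemma conjPSU_scalarGU (y : normOne F q) : conjPSU (scalarGU y) = (1 : MulAut PSUn) :=
  conjPSU_eq_one_of_scalar (c := ((y : Fˣ) : F)) (by
    rw [scalarGU_coe, GeneralLinearGroup.coe_scalar, scalar_apply, ← smul_one_eq_diagonal])

lemma fieldGU_coe' (σ : F ≃+* F) (g : GUn) :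
    ((fieldGU σ g : GUn) : GL (Fin n) F) = CfsgLib.PSLAut.fieldGL σ (g : GL (Fin n) F) := Units.ext rfl

lemma fieldUnits_mem (σ : F ≃+* F) {y : Fˣ} (hy : y ∈ normOne F q) :
    Units.map σ.toRingHom.toMonoidHom y ∈ normOne F q := by
  rw [mem_normOne_iff] at hy ⊢
  show σ (y : F) ^ (q + 1) = 1
  rw [← map_pow, hy, map_one]

lemma fieldGU_scalarGU (σ : F ≃+* F) (y : normOne F q) :
    fieldGU σ (scalarGU y : GUn) = scalarGU ⟨_, fieldUnits_mem σ y.2⟩ :=
  Subtype.ext (by rw [fieldGU_coe', scalarGU_coe, CfsgLib.PSLAut.fieldGL_scalar]; rfl)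

/-- The twisted norm in `GU`. -/
noncomputable def twGU (σ : F ≃+* F) : ℕ → GUn → GUn
  | 0, _ => 1
  | k + 1, g => g * fieldGU σ (twGU σ k g)

lemma twGU_coe (σ : F ≃+* F) (g : GUn) : ∀ k, ((twGU σ k g : GUn) : GL (Fin n) F) = twNorm σ k (g : GL (Fin n) F)
  | 0 => rfl
  | k + 1 => by rw [twGU, Subgroup.coe_mul, fieldGU_coe', twGU_coe σ g k]; rfl

lemma conj_field_pow (σ : F ≃+* F) (g : GUn) : ∀ k : ℕ,
    (conjPSU g * fieldPSU σ : MulAut PSUn) ^ k = conjPSU (twGU σ k g) * fieldPSU (σ ^ k)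
  | 0 => by rw [pow_zero, pow_zero, twGU, map_one, ← fieldHomPSU_apply, map_one, one_mul]
  | k + 1 => by
    rw [pow_succ', conj_field_pow σ g k, twGU, map_mul, pow_succ', fieldPSU_mul, mul_assoc,
      ← mul_assoc (fieldPSU σ), fieldPSU_mul_conjPSU]
    simp only [mul_assoc]

lemma twNorm_succ' (σ : F ≃+* F) (g : GL (Fin n) F) : ∀ k,
    twNorm σ (k + 1) g = twNorm σ k g * CfsgLib.PSLAut.fieldGL (σ ^ k) g
  | 0 => by simp [twNorm, CfsgLib.PSLAut.fieldGL_one]
  | k + 1 => by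
    show g * CfsgLib.PSLAut.fieldGL σ (twNorm σ (k + 1) g) = _
    rw [twNorm_succ' σ g k, map_mul, ← mul_assoc, ← CfsgLib.PSLAut.fieldGL_mul, ← pow_succ', ← twNorm_succ' σ g k]
    rfl

section Fin

variable [Fintype F] (hF : Fintype.card F = q ^ 2) {ρ : F ≃+* F} (hρ : ∀ a, ρ a = a ^ q)
variable {σ : F ≃+* F} {r q₀ : ℕ} (hσ : orderOf σ = r) (hro : Odd r)
  (h0 : Nat.card (fixedField σ) = q₀ ^ 2) (hq₀ : q = q₀ ^ r)

include hro h0 hq₀ in
/-- On the fixed field the `q`-th power is the `q₀`-th power. -/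
lemma pow_q_eq {y : F} (hy : σ y = y) : y ^ q = y ^ q₀ := by
  classical
  letI : Fintype (fixedField σ) := Fintype.ofFinite _
  have h1 : ∀ k : ℕ, (⟨y, hy⟩ : fixedField σ) ^ (q₀ ^ 2) ^ k = ⟨y, hy⟩ := fun k => by
    rw [← h0, Nat.card_eq_fintype_card]; exact FiniteField.pow_card_pow k _
  obtain ⟨k, hk⟩ := hro
  have h2 := congrArg Subtype.val (h1 k)
  rw [SubmonoidClass.coe_pow] at h2
  rw [hq₀, hk, pow_succ, pow_mul, pow_mul, h2]

include hρ hro h0 hq₀ in
/-- The `q`-th power on the fixed field. -/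
lemma exists_frob_fixed : ∃ ρ₀ : fixedField σ ≃+* fixedField σ, (∀ a, ρ₀ a = a ^ q₀) ∧ ∀ a, (ρ₀ a : F) = ρ a := by
  classical
  letI : Fintype (fixedField σ) := Fintype.ofFinite _
  obtain ⟨ρ₀, h1, -, -⟩ := CfsgLib.Transvec.Unitary.exists_frob (F := fixedField σ) (q := q₀)
    (by rw [← Nat.card_eq_fintype_card, h0])
  refine ⟨ρ₀, h1, fun a => ?_⟩
  rw [h1, SubmonoidClass.coe_pow, hρ, pow_q_eq hro h0 hq₀ a.2]

include hro h0 hq₀ in
lemma card_fixed_normOne : Nat.card (normOne F q ⊓ fixedUnits σ : Subgroup Fˣ) = q₀ + 1 := by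
  classical
  letI : Fintype (fixedField σ) := Fintype.ofFinite _
  rw [← CfsgLib.Classical.card_norm_one (F := fixedField σ) (q := q₀) (by rw [← Nat.card_eq_fintype_card, h0])]
  refine Nat.card_congr
    { toFun := fun x => ⟨⟨((x : Fˣ) : F), x.2.2⟩, Subtype.ext ?_⟩
      invFun := fun y => ⟨Units.mk0 ((y.1 : fixedField σ) : F) ?_, ?_, (y.1).2⟩
      left_inv := fun x => Subtype.ext (Units.ext rfl)
      right_inv := fun y => Subtype.ext rfl }
  · have h1 := mem_normOne_iff.1 x.2.1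
    rw [pow_succ, pow_q_eq hro h0 hq₀ x.2.2, ← pow_succ] at h1
    simpa using h1
  · intro e
    have h1 := congrArg Subtype.val y.2
    rw [SubmonoidClass.coe_pow, e, zero_pow (by omega)] at h1
    exact zero_ne_one h1
  · show Units.mk0 _ _ ∈ normOne F q
    rw [mem_normOne_iff, Units.val_mk0, pow_succ, pow_q_eq hro h0 hq₀ (y.1).2, ← pow_succ]
    simpa using congrArg Subtype.val y.2

include hF hρ hσ hro h0 hq₀ in
/-- Hilbert 90 in the norm-one group. -/
lemma exists_normOne_nu {d : Fˣ} (hd : d ∈ normOne F q) (hN : normHom σ r d = 1) :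
    ∃ y ∈ normOne F q, nuHom σ y = d := by
  classical
  letI : Fintype (fixedField σ) := Fintype.ofFinite _
  obtain ⟨y, hy⟩ := CfsgLib.PSLAut.normHom_ker hσ (MonoidHom.mem_ker.2 hN)
  have hz : σ ((y : F) ^ (q + 1)) = (y : F) ^ (q + 1) := by
    have h1 := mem_normOne_iff.1 hd
    rw [← hy, CfsgLib.PSLAut.nuHom_apply, Units.val_div_eq_div_val, div_pow, div_eq_one_iff_eq (pow_ne_zero _ (Units.ne_zero _))] at h1
    rw [map_pow]
    exact h1.symm
  obtain ⟨ρ₀, hρ₀, hρ₀'⟩ := exists_frob_fixed hρ hro h0 hq₀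
  have hc : Fintype.card (fixedField σ) = q₀ ^ 2 := by rw [← Nat.card_eq_fintype_card, h0]
  have hzq : ρ₀ ⟨_, hz⟩ = ⟨_, hz⟩ := Subtype.ext (by
    rw [hρ₀', hρ, ← pow_mul, add_mul, one_mul, pow_add, ← sq, ← hF, FiniteField.pow_card, ← pow_succ'])
  obtain ⟨w, hw⟩ := CfsgLib.Transvec.Unitary.exists_norm_eq (sigma_ne hc hρ₀) (sigma_sigma hc hρ₀) hzq
  have hw' : (w : F) ^ (q + 1) = (y : F) ^ (q + 1) := by
    have h1 := congrArg Subtype.val hw
    rw [MulMemClass.coe_mul, hρ₀', hρ] at h1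
    rw [pow_succ']
    exact h1
  have hw0 : (w : F) ≠ 0 := fun e => (pow_ne_zero (q + 1) y.ne_zero) (by rw [← hw', e, zero_pow (by omega)])
  refine ⟨y / Units.mk0 (w : F) hw0, ?_, ?_⟩
  · rw [mem_normOne_iff, Units.val_div_eq_div_val, Units.val_mk0, div_pow, hw', div_self (pow_ne_zero _ y.ne_zero)]
  · rw [map_div, hy, div_eq_self, CfsgLib.PSLAut.nuHom_apply, div_eq_one]
    exact Units.ext w.2.symm

include hF hρ hσ hro h0 hq₀ in
/-- The norm is onto the fixed norm-one group. -/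
lemma exists_normOne_norm {c : Fˣ} (hc : c ∈ normOne F q) (hcf : c ∈ fixedUnits σ) :
    ∃ d ∈ normOne F q, normHom σ r d = c := by
  have hmap : ∀ k, ∀ d ∈ normOne F q, normHom σ k d ∈ normOne F q := by
    intro k
    induction k with
    | zero => exact fun d _ => one_mem _
    | succ k ih => exact fun d hd => mul_mem hd (fieldUnits_mem σ (ih d hd))
  have hle : (normOne F q).map (normHom σ r) ≤ normOne F q ⊓ fixedUnits σ := by
    rintro _ ⟨d, hd, rfl⟩
    exact ⟨hmap r d hd, CfsgLib.PSLAut.normHom_fixed hσ d⟩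
  have hcard : Nat.card (normOne F q ⊓ fixedUnits σ : Subgroup Fˣ) ≤ Nat.card ((normOne F q).map (normHom σ r)) := by
    let N : normOne F q →* Fˣ := (normHom σ r).comp (normOne F q).subtype
    let ν : normOne F q →* Fˣ := (nuHom σ).comp (normOne F q).subtype
    have hNr : N.range = (normOne F q).map (normHom σ r) := by
      rw [MonoidHom.range_comp, Subgroup.range_subtype]
    have hνk : ν.ker.map (normOne F q).subtype = normOne F q ⊓ fixedUnits σ := by
      rw [← MonoidHom.comap_ker, CfsgLib.PSLAut.ker_nuHom, Subgroup.map_comap_eq, Subgroup.range_subtype]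
    have h1 := Subgroup.index_mul_card N.ker
    have h2 := Subgroup.index_mul_card ν.ker
    rw [Subgroup.index_ker] at h1 h2
    have h3 : Nat.card N.ker ≤ Nat.card ν.range := by
      rw [← Subgroup.card_map_of_injective (K := N.ker) (f := (normOne F q).subtype) (normOne F q).subtype_injective]
      refine Subgroup.card_le_of_le ?_
      rintro _ ⟨⟨d, hd⟩, hdN, rfl⟩
      obtain ⟨y, hy, hyd⟩ := exists_normOne_nu hF hρ hσ hro h0 hq₀ hd hdN
      exact ⟨⟨y, hy⟩, hyd⟩
    rw [← Subgroup.card_map_of_injective (K := ν.ker) (f := (normOne F q).subtype) (normOne F q).subtype_injective, hνk] at h2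
    rw [← hNr]
    have h4 : 0 < Nat.card ν.range := Nat.card_pos
    nlinarith [Nat.zero_le (Nat.card N.range)]
  obtain ⟨d, hd, hdc⟩ : c ∈ (normOne F q).map (normHom σ r) :=
    (Subgroup.eq_of_le_of_card_ge hle hcard).symm ▸ ⟨hc, hcf⟩
  exact ⟨d, hd, hdc⟩

include hF hρ hσ hro h0 hq₀ in
/-- Lang's theorem in `GU`. -/
lemma exists_gu_coboundary {g : GUn} (hg : twNorm σ r (g : GL (Fin n) F) = 1) :
    ∃ k : GUn, g = k * (fieldGU σ k)⁻¹ := by
  classical
  letI : Fintype (fixedField σ) := Fintype.ofFinite _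
  obtain ⟨a, ha⟩ := CfsgLib.PSLAut.exists_eq_mul_inv_fieldGL hσ hg
  have hgm := (mem_GU_iff_mul hρ (g : GL (Fin n) F)).1 g.2
  have hga : (a : Matrix (Fin n) (Fin n) F) = (g : GL (Fin n) F).1 * (a : Matrix (Fin n) (Fin n) F).map σ := by
    have h1 : a = (g : GL (Fin n) F) * CfsgLib.PSLAut.fieldGL σ a := by rw [ha, inv_mul_cancel_right]
    exact congrArg Units.val h1
  set A : Matrix (Fin n) (Fin n) F := (a : Matrix (Fin n) (Fin n) F) with hA
  set H : Matrix (Fin n) (Fin n) F := Aᵀ * A.map ρ with hH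
  have hHσ : H.map σ = H := by
    conv_rhs => rw [hH, hga, transpose_mul,
      show ((g : GL (Fin n) F).1 * A.map σ).map ρ = (g : GL (Fin n) F).1.map ρ * (A.map σ).map ρ from
        Matrix.map_mul (f := ρ.toRingHom), Matrix.mul_assoc, ← Matrix.mul_assoc ((g : GL (Fin n) F).1ᵀ), hgm,
      Matrix.one_mul]
    rw [hH, show (Aᵀ * A.map ρ).map σ = Aᵀ.map σ * (A.map ρ).map σ from Matrix.map_mul (f := σ.toRingHom)]
    congr 1
    ext i j
    simp [hρ, map_pow]
  obtain ⟨ρ₀, hρ₀, hρ₀'⟩ := exists_frob_fixed hρ hro h0 hq₀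
  have hc : Fintype.card (fixedField σ) = q₀ ^ 2 := by rw [← Nat.card_eq_fintype_card, h0]
  let G : GL (Fin n) F := (Matrix.GeneralLinearGroup.mkOfDetNeZero H (by
    rw [hH, det_mul, det_transpose]
    refine mul_ne_zero (GeneralLinearGroup.det_ne_zero a) ?_
    rw [show A.map ρ = ρ.mapMatrix A from rfl, ← RingEquiv.map_det, map_ne_zero]
    exact GeneralLinearGroup.det_ne_zero a))
  obtain ⟨G₀, hG₀⟩ := CfsgLib.PSLAut.exists_subGL (g := G) (σ := σ) (Units.ext hHσ)
  have hG₀' : ∀ i j, (((G₀ : Matrix (Fin n) (Fin n) (fixedField σ)) i j : fixedField σ) : F) = H i j := fun i j =>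
    congrArg (fun M : GL (Fin n) F => M.val i j) hG₀
  obtain ⟨L, hL⟩ := CfsgLib.PSLAut.exists_hermitian_factor (σ := ρ₀) (sigma_ne hc hρ₀) (sigma_sigma hc hρ₀) (g := G₀) (by
    ext i j
    show (ρ₀ ((G₀ : Matrix (Fin n) (Fin n) (fixedField σ)) j i) : F) = _
    rw [hρ₀', hG₀', hG₀', hH, Matrix.mul_apply, Matrix.mul_apply, map_sum]
    refine Finset.sum_congr rfl fun x _ => ?_
    simp only [transpose_apply, map_apply, map_mul]
    rw [sigma_sigma hF hρ, mul_comm])
  let ι : fixedField σ →+* F := (fixedField σ).subtype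
  set B : Matrix (Fin n) (Fin n) F := ((L : Matrix (Fin n) (Fin n) (fixedField σ)).map ι)ᵀ with hB
  have hBH : Bᵀ * B.map ρ = H := by
    rw [show H = ((G₀ : Matrix (Fin n) (Fin n) (fixedField σ)).map ι) from Matrix.ext fun i j => (hG₀' i j).symm,
      hL, Matrix.map_mul, hB, transpose_transpose]
    congr 1
    ext i j
    exact (hρ₀' _).symm
  have hBd : B.det ≠ 0 := by
    rw [hB, det_transpose, show (L : Matrix (Fin n) (Fin n) (fixedField σ)).map ι = ι.mapMatrix L.1 from rfl,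
      ← RingHom.map_det, map_ne_zero]
    exact GeneralLinearGroup.det_ne_zero L
  let b : GL (Fin n) F := Matrix.GeneralLinearGroup.mkOfDetNeZero B hBd
  have hbσ : CfsgLib.PSLAut.fieldGL σ b = b := Units.ext (Matrix.ext fun i j =>
    ((L : Matrix (Fin n) (Fin n) (fixedField σ)) j i).2)
  have hk : a * b⁻¹ ∈ Cfsg.GU n F q := by
    rw [mem_GU_iff_mul hρ]
    set C : Matrix (Fin n) (Fin n) F := ((b⁻¹ : GL (Fin n) F) : Matrix (Fin n) (Fin n) F) with hC
    have hBC : B * C = 1 := Units.mul_inv b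
    show (A * C)ᵀ * (A * C).map ρ = 1
    rw [transpose_mul, show (A * C).map ρ = A.map ρ * C.map ρ from Matrix.map_mul (f := ρ.toRingHom)]
    calc Cᵀ * Aᵀ * (A.map ρ * C.map ρ) = Cᵀ * (Bᵀ * B.map ρ) * C.map ρ := by
          rw [hBH, hH]; simp only [Matrix.mul_assoc]
      _ = (B * C)ᵀ * (B * C).map ρ := by
          rw [transpose_mul, show (B * C).map ρ = B.map ρ * C.map ρ from Matrix.map_mul (f := ρ.toRingHom)]
          simp only [Matrix.mul_assoc]
      _ = 1 := by rw [hBC, transpose_one, Matrix.map_one _ (map_zero ρ) (map_one ρ), Matrix.one_mul]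
  refine ⟨⟨_, hk⟩, Subtype.ext ?_⟩
  rw [Subgroup.coe_mul, Subgroup.coe_inv, fieldGU_coe', ha]
  show _ = a * b⁻¹ * (CfsgLib.PSLAut.fieldGL σ (a * b⁻¹))⁻¹
  rw [map_mul, map_inv, hbσ]
  group

include hF hρ hσ hro h0 hq₀ in
/-- Elements of order `r` in the coset of a field automorphism are conjugate to it. -/
lemma conj_of_orderOf_fieldPSU (hn : 3 ≤ n) (g : GUn) (e : orderOf (conjPSU g * fieldPSU σ : MulAut PSUn) = r) :
    Cfsg.IsConjUnder (conjPSU : GUn →* MulAut PSUn).range (fieldPSU σ) (conjPSU g * fieldPSU σ) := by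
  have h1 := pow_orderOf_eq_one (conjPSU g * fieldPSU σ : MulAut PSUn)
  rw [e, conj_field_pow, ← hσ, pow_orderOf_eq_one, ← fieldHomPSU_apply (1 : F ≃+* F), map_one, mul_one, hσ] at h1
  obtain ⟨c, hc⟩ := (conjPSU_eq_one_iff hF hρ hn _).1 h1
  let z : Fin n := ⟨0, by omega⟩
  have hc0 : c ≠ 0 := fun h' => by
    haveI : Nonempty (Fin n) := ⟨z⟩
    exact ((twGU σ r g : GUn) : GL (Fin n) F).ne_zero (by rw [hc, h', zero_smul])
  have hcs : ((twGU σ r g : GUn) : GL (Fin n) F) = GeneralLinearGroup.scalar (Fin n) (Units.mk0 c hc0) :=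
    Units.ext (by rw [hc, GeneralLinearGroup.coe_scalar, scalar_apply, smul_one_eq_diagonal, Units.val_mk0])
  have hcU : Units.mk0 c hc0 ∈ normOne F q := by
    rw [mem_normOne_iff, Units.val_mk0]
    have h2 := (twGU σ r g : GUn).2 (Pi.single z 1) (Pi.single z 1)
    rw [Units.coeHom_apply, hc, smul_mulVec, one_mulVec, hsmul_left hF hρ, hsmul_right hF hρ,
      CfsgLib.Transvec.Unitary.hermForm_basis hρ, if_pos rfl, mul_one, hρ] at h2
    rw [pow_succ', h2]
  have hcf : Units.mk0 c hc0 ∈ fixedUnits σ := by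
    have h2 := twNorm_succ' σ (g : GL (Fin n) F) r
    have h3 : twNorm σ (r + 1) (g : GL (Fin n) F) = (g : GL (Fin n) F) * CfsgLib.PSLAut.fieldGL σ (twNorm σ r (g : GL (Fin n) F)) := rfl
    rw [h3, show σ ^ r = 1 by rw [← hσ, pow_orderOf_eq_one], CfsgLib.PSLAut.fieldGL_one, ← twGU_coe, hcs,
      CfsgLib.PSLAut.fieldGL_scalar] at h2
    have h4 : GeneralLinearGroup.scalar (Fin n) (Units.map σ.toRingHom.toMonoidHom (Units.mk0 c hc0)) =
        GeneralLinearGroup.scalar (Fin n) (Units.mk0 c hc0) :=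
      mul_left_cancel (a := (g : GL (Fin n) F)) (h2.trans (Units.ext (by ext i j; simp [mul_comm])))
    have h5 := congrArg (fun M : GL (Fin n) F => (M : Matrix (Fin n) (Fin n) F) z z) h4
    show σ c = c
    simpa using h5
  obtain ⟨d, hd, hdc⟩ := exists_normOne_norm hF hρ hσ hro h0 hq₀ hcU hcf
  obtain ⟨k, hk⟩ := exists_gu_coboundary hF hρ hσ hro h0 hq₀ (g := scalarGU ⟨d⁻¹, inv_mem hd⟩ * g) (by
    rw [Subgroup.coe_mul, scalarGU_coe, CfsgLib.PSLAut.twNorm_mul_scalar, ← twGU_coe, hcs, map_inv, hdc,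
      ← map_mul, inv_mul_cancel, map_one])
  refine ⟨conjPSU k, ⟨k, rfl⟩, ?_⟩
  have h6 : conjPSU g = (conjPSU (k * (fieldGU σ k)⁻¹) : MulAut PSUn) := by
    rw [← hk, map_mul, conjPSU_scalarGU, one_mul]
  rw [h6, map_mul, mul_assoc, map_inv, mul_assoc]
  congr 1
  rw [← map_inv conjPSU k, fieldPSU_mul_conjPSU, map_inv (fieldGU σ), map_inv conjPSU]

include hF hρ hσ hro h0 hq₀ in
/-- The stabiliser of a field automorphism in `GU`. -/
lemma mem_stab_fieldPSU (hn : 3 ≤ n) (g : GUn) :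
    g ∈ (Subgroup.centralizer {(fieldPSU σ : MulAut PSUn)}).comap conjPSU ↔
      ∃ y : normOne F q, fieldGU σ (scalarGU y * g) = scalarGU y * g := by
  rw [Subgroup.mem_comap, Subgroup.mem_centralizer_singleton_iff, fieldPSU_mul_conjPSU, mul_left_inj]
  constructor
  · intro e
    obtain ⟨c, hc⟩ := (conjPSU_eq_one_iff hF hρ hn (fieldGU σ g * g⁻¹)).1 (by
      rw [map_mul, ← e, map_inv, mul_inv_cancel])
    let z : Fin n := ⟨0, by omega⟩
    have hc0 : c ≠ 0 := fun h' => by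
      haveI : Nonempty (Fin n) := ⟨z⟩
      exact ((fieldGU σ g * g⁻¹ : GUn) : GL (Fin n) F).ne_zero (by rw [hc, h', zero_smul])
    have hcU : Units.mk0 c hc0 ∈ normOne F q := by
      rw [mem_normOne_iff, Units.val_mk0]
      have h2 := (fieldGU σ g * g⁻¹ : GUn).2 (Pi.single z 1) (Pi.single z 1)
      rw [Units.coeHom_apply, hc, smul_mulVec, one_mulVec, hsmul_left hF hρ, hsmul_right hF hρ,
        CfsgLib.Transvec.Unitary.hermForm_basis hρ, if_pos rfl, mul_one, hρ] at h2
      rw [pow_succ', h2]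
    have hcs : fieldGU σ g = scalarGU ⟨_, hcU⟩ * g := by
      rw [← mul_inv_eq_iff_eq_mul]
      exact Subtype.ext (Units.ext (by
        rw [hc, scalarGU_coe, GeneralLinearGroup.coe_scalar, scalar_apply, smul_one_eq_diagonal, Units.val_mk0]))
    have hcs' : CfsgLib.PSLAut.fieldGL σ (g : GL (Fin n) F) =
        GeneralLinearGroup.scalar (Fin n) (Units.mk0 c hc0) * (g : GL (Fin n) F) := by
      rw [← fieldGU_coe', hcs]; rfl
    have hker : normHom σ r (Units.mk0 c hc0) = 1 := by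
      have key : ∀ k, CfsgLib.PSLAut.fieldGL (σ ^ k) (g : GL (Fin n) F) =
          GeneralLinearGroup.scalar (Fin n) (normHom σ k (Units.mk0 c hc0)) * (g : GL (Fin n) F) := by
        intro k
        induction k with
        | zero => rw [pow_zero, CfsgLib.PSLAut.fieldGL_one, show normHom σ 0 (Units.mk0 c hc0) = 1 from rfl, map_one, one_mul]
        | succ k ih =>
          rw [pow_succ', CfsgLib.PSLAut.fieldGL_mul, ih, map_mul, CfsgLib.PSLAut.fieldGL_scalar, hcs', ← mul_assoc,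
            ← map_mul, mul_comm]
          rfl
      have h1 := key r
      rw [← hσ, pow_orderOf_eq_one, CfsgLib.PSLAut.fieldGL_one, hσ] at h1
      have h2 := congrArg (fun M : GL (Fin n) F => M.val z z) (mul_right_cancel (h1.symm.trans (one_mul _).symm) :
        GeneralLinearGroup.scalar (Fin n) (normHom σ r (Units.mk0 c hc0)) = 1)
      exact Units.ext (by simpa using h2)
    obtain ⟨y, hy, hyc⟩ := exists_normOne_nu hF hρ hσ hro h0 hq₀ hcU hker
    refine ⟨⟨y, hy⟩, ?_⟩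
    rw [map_mul, fieldGU_scalarGU, hcs, ← mul_assoc, ← map_mul]
    congr 2
    refine Subtype.ext ?_
    show Units.map σ.toRingHom.toMonoidHom y * Units.mk0 c hc0 = y
    rw [← hyc, CfsgLib.PSLAut.nuHom_apply, mul_div_cancel]
  · rintro ⟨y, hy⟩
    have := congrArg (conjPSU : GUn →* MulAut PSUn) hy
    rw [map_mul (fieldGU σ), fieldGU_scalarGU, map_mul, map_mul, conjPSU_scalarGU, conjPSU_scalarGU, one_mul, one_mul] at this
    exact this.symm

include hF hρ hσ hro h0 hq₀ in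
/-- The centraliser of a field automorphism is `PGU` over the fixed field. -/
lemma centralizer_fieldPSU_equiv (hn : 3 ≤ n) (K₀ : Type*) [Field K₀] (e : fixedField σ ≃+* K₀) :
    Nonempty (↥((conjPSU : GUn →* MulAut PSUn).range ⊓ Subgroup.centralizer {(fieldPSU σ : MulAut PSUn)}) ≃*
      Cfsg.PGU n K₀ q₀) := by
  obtain ⟨ρ₀, hρ₀, hρ₀'⟩ := exists_frob_fixed hρ hro h0 hq₀
  let ρ₁ : K₀ ≃+* K₀ := (e.symm.trans ρ₀).trans e
  have hρ₁ : ∀ a, ρ₁ a = a ^ q₀ := fun a => by simp [ρ₁, hρ₀]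
  let ι : K₀ →+* F := (fixedField σ).subtype.comp e.symm.toRingHom
  have hι : ∀ x, ι (ρ₁ x) = ρ (ι x) := fun x => by
    simp only [ι, ρ₁, RingHom.comp_apply, RingEquiv.toRingHom_eq_coe, RingEquiv.coe_toRingHom, RingEquiv.trans_apply,
      RingEquiv.symm_apply_apply, Subfield.coe_subtype]
    exact hρ₀' _
  let S : GL (Fin n) K₀ →* GL (Fin n) F := GeneralLinearGroup.map ι
  have hS : ∀ u : GL (Fin n) K₀, u ∈ Cfsg.GU n K₀ q₀ ↔ S u ∈ Cfsg.GU n F q := by
    intro u
    rw [mem_GU_iff_mul hρ, mem_GU_iff_mul hρ₁]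
    have h1 : ((S u : GL (Fin n) F) : Matrix (Fin n) (Fin n) F)ᵀ * ((S u : GL (Fin n) F) : Matrix (Fin n) (Fin n) F).map ρ =
        ((u : Matrix (Fin n) (Fin n) K₀)ᵀ * (u : Matrix (Fin n) (Fin n) K₀).map ρ₁).map ι := by
      rw [Matrix.map_mul]
      congr 1
      ext i j
      exact (hι _).symm
    rw [h1]
    constructor
    · intro h'; rw [h', Matrix.map_one _ (map_zero ι) (map_one ι)]
    · intro h'
      exact Matrix.map_injective ι.injective (h'.trans (Matrix.map_one _ (map_zero ι) (map_one ι)).symm)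
  let S' : Cfsg.GU n K₀ q₀ →* GUn := (S.comp (Cfsg.GU n K₀ q₀).subtype).codRestrict _ fun u => (hS _).1 u.2
  have hfix : ∀ u, fieldGU σ (S' u) = S' u := fun u => Subtype.ext (Units.ext (Matrix.ext fun i j =>
    (e.symm (((u : GL (Fin n) K₀) : Matrix (Fin n) (Fin n) K₀) i j)).2))
  have hmem : ∀ u : Cfsg.GU n K₀ q₀, (conjPSU (S' u) : MulAut PSUn) ∈
      (conjPSU : GUn →* MulAut PSUn).range ⊓ Subgroup.centralizer {(fieldPSU σ : MulAut PSUn)} := fun u =>
    ⟨⟨_, rfl⟩, Subgroup.mem_comap.1 ((mem_stab_fieldPSU hF hρ hσ hro h0 hq₀ hn _).2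
      ⟨1, by rw [map_one, one_mul, hfix]⟩)⟩
  let Φ := ((conjPSU : GUn →* MulAut PSUn).comp S').codRestrict _ hmem
  have hs : Function.Surjective Φ := by
    rintro ⟨β, ⟨g, rfl⟩, hc⟩
    obtain ⟨y, hy⟩ := (mem_stab_fieldPSU hF hρ hσ hro h0 hq₀ hn g).1 (Subgroup.mem_comap.2 hc)
    obtain ⟨g₀, hg₀⟩ := CfsgLib.PSLAut.exists_subGL (σ := σ) (g := ((scalarGU y * g : GUn) : GL (Fin n) F))
      (by rw [← fieldGU_coe', hy])
    let u : GL (Fin n) K₀ := GeneralLinearGroup.map e.toRingHom g₀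
    have hu : S u = ((scalarGU y * g : GUn) : GL (Fin n) F) := by
      rw [← hg₀]
      exact Units.ext (Matrix.ext fun i j => congrArg Subtype.val (e.symm_apply_apply _))
    refine ⟨⟨u, (hS u).2 (by rw [hu]; exact SetLike.coe_mem _)⟩, Subtype.ext ?_⟩
    show conjPSU (S' _) = conjPSU g
    rw [show S' ⟨u, _⟩ = scalarGU y * g from Subtype.ext hu, map_mul, conjPSU_scalarGU, one_mul]
  have hscal : ∀ a : K₀, (a • (1 : Matrix (Fin n) (Fin n) K₀)).map ι = ι a • 1 := fun a => by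
    ext i j
    rcases eq_or_ne i j with rfl | hij <;> simp [*]
  have hk : Φ.ker = (Cfsg.Geo.scalars (Fin n) K₀).subgroupOf (Cfsg.GU n K₀ q₀) := by
    ext u
    rw [Subgroup.mem_subgroupOf, Cfsg.Geo.mem_scalars_iff, MonoidHom.mem_ker, Subtype.ext_iff]
    show conjPSU (S' u) = 1 ↔ _
    rw [conjPSU_eq_one_iff hF hρ hn]
    constructor
    · rintro ⟨c, hc⟩
      let z : Fin n := ⟨0, by omega⟩
      set d := ((u : GL (Fin n) K₀) : Matrix (Fin n) (Fin n) K₀) z z with hd
      have hM : ((u : GL (Fin n) K₀) : Matrix (Fin n) (Fin n) K₀) = d • 1 := by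
        refine Matrix.map_injective ι.injective (show _ = _ from ?_)
        show ((S' u : GL (Fin n) F) : Matrix (Fin n) (Fin n) F) = _
        have hd' : ι d = c := by
          have h1 := congrFun (congrFun hc z) z
          rw [Matrix.smul_apply, Matrix.one_apply_eq, smul_eq_mul, mul_one] at h1
          exact h1
        rw [hc]
        show c • (1 : Matrix (Fin n) (Fin n) F) = (d • (1 : Matrix (Fin n) (Fin n) K₀)).map ι
        rw [hscal, hd']
      have hd0 : d ≠ 0 := fun e' => by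
        haveI : Nonempty (Fin n) := ⟨z⟩
        exact (u : GL (Fin n) K₀).ne_zero (by rw [hM, e', zero_smul])
      exact ⟨Units.mk0 d hd0, hM⟩
    · rintro ⟨d, hd⟩
      refine ⟨ι d, ?_⟩
      show ((u : GL (Fin n) K₀) : Matrix (Fin n) (Fin n) K₀).map ι = _
      rw [hd, hscal]
  exact ⟨((QuotientGroup.quotientMulEquivOfEq hk.symm).trans (QuotientGroup.quotientKerEquivOfSurjective Φ hs)).symm⟩

lemma inn_eq_map_guDet : Cfsg.Inn PSUn = (guDet n F q).ker.map conjPSU := by
  rw [ker_guDet]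
  ext β
  constructor
  · rintro ⟨x, rfl⟩
    induction x using QuotientGroup.induction_on with | _ s => exact ⟨_, ⟨s, rfl⟩, conjPSU_toGU s⟩
  · rintro ⟨_, ⟨s, rfl⟩, rfl⟩
    exact ⟨psuMk s, (conjPSU_toGU s).symm⟩

include hF hρ hσ hro h0 hq₀ in
/-- Class splitting of a field automorphism. -/
lemma splitClassCount_fieldPSU (hn : 3 ≤ n) :
    Cfsg.splitClassCount (conjPSU : GUn →* MulAut PSUn).range (Cfsg.Inn PSUn) (fieldPSU σ) =
      Nat.gcd n ((q + 1) / (q₀ + 1)) := by
  rw [inn_eq_map_guDet, CfsgLib.PSLAut.splitClassCount_eq_index]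
  have hdm : ∀ g : GUn, guDet n F q g ∈ normOne F q := fun g => by
    rw [show normOne F q = (guDet n F q).range from (guDet_range hF (by omega)).symm]
    exact ⟨g, rfl⟩
  let D : GUn →* normOne F q := (guDet n F q).codRestrict _ hdm
  have hDs : Function.Surjective D := fun x => by
    obtain ⟨g, hg⟩ : (x : Fˣ) ∈ (guDet n F q).range := by rw [guDet_range hF (by omega)]; exact x.2
    exact ⟨g, Subtype.ext hg⟩
  have hDk : D.ker = (guDet n F q).ker := MonoidHom.ker_codRestrict _ _ _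
  have key : ∀ S : Subgroup GUn, (S ⊔ (guDet n F q).ker).index = (S.map D).index := fun S => by
    rw [Subgroup.index_map, MonoidHom.range_eq_top.2 hDs, Subgroup.index_top, mul_one, hDk]
  rw [key]
  set U₀ : Subgroup (normOne F q) := (fixedUnits σ).subgroupOf (normOne F q) with hU₀
  have hdet : ∀ y : normOne F q, D (scalarGU y) = y ^ n := fun y => Subtype.ext (Units.ext (by
    show (((scalarGU y : GUn) : GL (Fin n) F) : Matrix (Fin n) (Fin n) F).det = _
    simp [scalarGU_coe]))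
  have hS : ((Subgroup.centralizer {(fieldPSU σ : MulAut PSUn)}).comap conjPSU).map D =
      (powMonoidHom n : normOne F q →* normOne F q).range ⊔ U₀ := by
    apply le_antisymm
    · rintro _ ⟨g, hg, rfl⟩
      obtain ⟨y, hy⟩ := (mem_stab_fieldPSU hF hρ hσ hro h0 hq₀ hn g).1 hg
      have hd : D (scalarGU y * g) ∈ U₀ := by
        rw [hU₀, Subgroup.mem_subgroupOf]
        show σ ((((scalarGU y * g : GUn) : GL (Fin n) F) : Matrix (Fin n) (Fin n) F).det) = _
        rw [RingEquiv.map_det]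
        exact congrArg (fun u : GUn => ((u : GL (Fin n) F) : Matrix (Fin n) (Fin n) F).det) hy
      rw [show D g = (y ^ n)⁻¹ * D (scalarGU y * g) by rw [map_mul, hdet, inv_mul_cancel_left]]
      exact Subgroup.mul_mem_sup (inv_mem ⟨y, rfl⟩) hd
    · refine sup_le ?_ ?_
      · rintro _ ⟨y, rfl⟩
        exact ⟨scalarGU y, (mem_stab_fieldPSU hF hρ hσ hro h0 hq₀ hn _).2
          ⟨y⁻¹, by rw [← map_mul, inv_mul_cancel, map_one, map_one]⟩, hdet y⟩
      · intro a ha
        obtain ⟨g, hg⟩ := CfsgLib.Classical.exists_gu_diag hF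
          (Function.update (1 : Fin n → F) ⟨0, by omega⟩ ((a : Fˣ) : F)) fun i => by
            rcases eq_or_ne i (⟨0, by omega⟩ : Fin n) with rfl | hi
            · rw [Function.update_self]; exact mem_normOne_iff.1 a.2
            · rw [Function.update_of_ne hi]; exact one_pow _
        refine ⟨g, (mem_stab_fieldPSU hF hρ hσ hro h0 hq₀ hn _).2 ⟨1, ?_⟩, Subtype.ext (Units.ext ?_)⟩
        · rw [map_one, one_mul]
          refine Subtype.ext (Units.ext ?_)
          rw [fieldGU_coe, hg, diagonal_map (map_zero σ)]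
          congr 1; funext i
          rcases eq_or_ne i (⟨0, by omega⟩ : Fin n) with rfl | hi
          · simpa using (show σ ((a : Fˣ) : F) = ((a : Fˣ) : F) from ha)
          · simp [hi]
        · show ((g : GL (Fin n) F) : Matrix (Fin n) (Fin n) F).det = _
          rw [hg, det_diagonal, Finset.prod_update_of_mem (Finset.mem_univ _)]
          simp
  rw [hS, index_powers_sup, Nat.gcd_comm]
  congr 1
  have hU : Nat.card (normOne F q) = q + 1 := by
    rw [IsCyclic.card_powMonoidHom_ker, Nat.card_units, Nat.card_eq_fintype_card,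
      hF, show q ^ 2 - 1 = (q + 1) * (q - 1) by rw [← Nat.sq_sub_sq, one_pow],
      Nat.gcd_eq_right (Dvd.intro _ rfl)]
  have hU₀c : Nat.card U₀ = q₀ + 1 := by
    rw [← card_fixed_normOne hro h0 hq₀, hU₀,
      ← Subgroup.card_map_of_injective (normOne F q).subtype_injective, Subgroup.subgroupOf_map_subtype, inf_comm]
  have h1 := Subgroup.index_mul_card U₀
  rw [hU, hU₀c] at h1
  rw [← h1, Nat.mul_div_cancel _ (by omega)]

end Fin

variable [Fintype F] (hF : Fintype.card F = q ^ 2) {ρ : F ≃+* F} (hρ : ∀ a, ρ a = a ^ q)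

include hF hρ in
lemma orderOf_fieldPSU (hn : 3 ≤ n) (σ : F ≃+* F) : orderOf (fieldPSU σ : MulAut PSUn) = orderOf σ :=
  orderOf_injective fieldHomPSU ((injective_iff_map_eq_one _).2 fun τ e =>
    (eq_one_of_conj_field_eq_one hF hρ hn (g := 1) (τ := τ) (by rw [map_one, one_mul]; exact e)).1) σ

include hF hρ in
/-- A field automorphism of prime order is conjugate to a standard one under `Inndiag`. -/
lemma exists_standard_fieldPSU (hn : 3 ≤ n) (h32 : ¬(n = 3 ∧ q = 2)) {x : MulAut PSUn}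
    (hx : Cfsg.IsFieldAutClassPSU x) {r : ℕ} (hxr : orderOf x = r) :
    ∃ (σ : F ≃+* F) (g : GUn), orderOf σ = r ∧ Odd r ∧ x = conjPSU g * fieldPSU σ * (conjPSU g)⁻¹ := by
  obtain ⟨α, φ, σ, -, hodd, hφ, e⟩ := hx
  obtain rfl : φ = fieldPSU σ := eq_of_psuMk_eq fun s => hφ s (fieldSU σ s) rfl
  obtain ⟨g, τ, hg, hα⟩ := aut_classification hF hρ hn h32 α⁻¹
  have hα' : α⁻¹ = conjPSU ⟨g, hg⟩ * fieldPSU τ := eq_of_isInduced (g := ⟨g, hg⟩) hα
  have hc : fieldPSU τ * fieldPSU σ = (fieldPSU σ * fieldPSU τ : MulAut PSUn) := by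
    rw [← fieldPSU_mul, ← fieldPSU_mul, CfsgLib.PSLAut.ringAut_comm]
  have hr : orderOf σ = r := by
    rw [← orderOf_fieldPSU (n := n) hF hρ hn σ, ← e,
      show α * x * α⁻¹ = MulAut.conj α x from rfl, (MulAut.conj α).orderOf_eq, hxr]
  refine ⟨σ, ⟨g, hg⟩, hr, hr ▸ hodd, ?_⟩
  calc x = α⁻¹ * fieldPSU σ * α⁻¹⁻¹ := by rw [← e]; group
    _ = conjPSU ⟨g, hg⟩ * (fieldPSU τ * fieldPSU σ) * (fieldPSU τ)⁻¹ * (conjPSU ⟨g, hg⟩)⁻¹ := by rw [hα']; group
    _ = _ := by rw [hc]; group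

end CfsgLib.PSUAut
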