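/-
Semilinear maps commuting with unitary transvections are scalar.
-/
import Cfsg.Agent.Lib.KnownSimple.PSUAut.Out

set_option autoImplicit false

namespace CfsgLib.PSUAut

open Matrix CfsgLib.Transvec CfsgLib.Transvec.Unitary
open CfsgLib.UnitarySpec (sigma_sigma sigma_ne psuMk)

variable {F : Type*} [Field F] [Fintype F] {n q : ℕ} (hF : Fintype.card F = q ^ 2) {σ : F ≃+* F} (hσ : ∀ a, σ a = a ^ q)

local notation "Vn" => Fin n → F
local notation "h" => Cfsg.hermForm n F q

include hF hσ in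
/-- A semilinear map commuting with all transvections is a scalar. -/
theorem scalar_of_commute_tSU'  (hn : 3 ≤ n) (τ : F ≃+* F) (T : Vn → Vn) (hadd : ∀ a b, T (a + b) = T a + T b)
    (hsmul : ∀ (t : F) a, T (t • a) = τ t • T a)
    (hcomm : ∀ v, Isot q v → ∀ g ∈ (tSU v : Subgroup (Cfsg.SU n F q)), ∀ y, T (act g y) = act g (T y)) :
    ∃ α : F, (∀ y, T y = α • y) ∧ (α ≠ 0 → τ = RingEquiv.refl F) := by
  obtain ⟨c, hc0, hc⟩ := exists_skew (sigma_ne hF hσ) (sigma_sigma hF hσ)
  have key : ∀ v, Isot q v → ∀ y, (τ c * τ (h y v)) • T v = (c * h (T y) v) • v := by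
    intro v hv y
    obtain ⟨g, hg⟩ := exists_tSU hF hσ hv hc
    have e := hcomm v hv g ((mem_tSU_iff hF hσ hv g).2 ⟨c, hc, hg⟩) y
    rw [hg, hg, hadd, hsmul, map_mul, add_right_inj] at e
    exact e
  obtain ⟨u, v, w, hu, hv, huv, hwu, hwv, hww⟩ := exists_frame hF hσ hn
  have hvu : h v u = 1 := by rw [hconj hF hσ u v, huv, map_one]
  have hτc : τ c ≠ 0 := by simp [hc0]
  have hline : ∀ v u, Isot q v → h u v = 1 → T v = ((τ c)⁻¹ * (c * h (T u) v)) • v := by
    intro v u hv huv'
    have e := key v hv u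
    rw [huv', map_one, mul_one] at e
    rw [mul_smul, ← e, smul_smul, inv_mul_cancel₀ hτc, one_smul]
  obtain ⟨α, hα⟩ : ∃ α, T u = α • u := ⟨_, hline u v hu hvu⟩
  obtain ⟨β, hβ⟩ : ∃ β, T v = β • v := ⟨_, hline v u hv huv⟩
  have hperp : ∀ d, h d u = 0 → h d v = 0 → T d = α • d ∧ T d = β • d := by
    intro d hdu hdv
    have hside : ∀ x, Isot q x → h d x = 0 → h (T d) x = 0 := by
      intro x hx hdx
      have e := key x hx d
      rw [hdx, map_zero, mul_zero, zero_smul, eq_comm, smul_eq_zero, or_iff_left hx.1, mul_eq_zero,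
        or_iff_right hc0] at e
      exact e
    have hpair : ∀ (x y : Vn) (a b : F), Isot q x → Isot q y → h x y = 1 → h y x = 1 → T x = a • x → T y = b • y →
        h d x = 0 → h d y = 0 → T d = b • d := by
      intro x y a b hx hy hxy hyx hax hby hdx hdy
      have hxd : h x d = 0 := (CfsgLib.PSUAut.hcomm hF hσ d x).1 hdx
      have hyd : h y d = 0 := (CfsgLib.PSUAut.hcomm hF hσ d y).1 hdy
      obtain ⟨s, hs⟩ := exists_trace_eq (sigma_ne hF hσ) (sigma_sigma hF hσ) (b := -(h d d))
        (by rw [map_neg, hself hF hσ])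
      have hz : Isot q (d + y + s • x) := by
        refine ⟨fun h0 => ?_, ?_⟩
        · have := congrArg (fun z => h z x) h0
          simp [hadd_left hF hσ, hsmul_left hF hσ, hdx, hyx, hx.2, hzero_left hF hσ] at this
        · simp only [hadd_left hF hσ, hadd_right hF hσ, hsmul_left hF hσ, hsmul_right hF hσ, hdx, hdy, hxd, hyd, hxy,
            hyx, hx.2, hy.2]
          linear_combination hs
      obtain ⟨y', hy'⟩ := exists_partner hF hσ hz.1
      have hlz := hline _ y' hz hy'
      set g := (τ c)⁻¹ * (c * h (T y') (d + y + s • x))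
      rw [hadd, hadd, hsmul, hax, hby] at hlz
      have h1 := congrArg (fun z => h z x) hlz
      simp [hadd_left hF hσ, hsmul_left hF hσ, hdx, hyx, hx.2, hside x hx hdx] at h1
      have h2 := congrArg (fun z => h z y) hlz
      simp [hadd_left hF hσ, hsmul_left hF hσ, hdy, hxy, hy.2, hside y hy hdy] at h2
      rw [← h1] at hlz h2
      linear_combination (norm := module) hlz - congrArg (fun k : F => k • x) h2
    exact ⟨hpair v u β α hv hu hvu huv hβ hα hdv hdu, hpair u v α β hu hv huv hvu hα hβ hdu hdv⟩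
  have hw : w ≠ 0 := fun h0 => hww (by rw [h0, hzero_left hF hσ])
  have hab : β = α := by
    obtain ⟨h1, h2⟩ := hperp w hwu hwv
    rw [h1] at h2
    exact (smul_left_injective F hw h2).symm
  have hτ : ∀ t, τ t * α = t * α := by
    intro t
    have h1 := (hperp (t • w) (by rw [hsmul_left hF hσ, hwu, mul_zero]) (by rw [hsmul_left hF hσ, hwv, mul_zero])).1
    rw [hsmul, (hperp w hwu hwv).1, smul_smul, smul_smul] at h1
    exact (smul_left_injective F hw h1).trans (mul_comm _ _)
  refine ⟨α, fun y => ?_, fun hα0 => RingEquiv.ext fun t => mul_right_cancel₀ hα0 (hτ t)⟩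
  have hd := (hperp (y - h y v • u - h y u • v)
    (by simp [hsub_left hF hσ, hsmul_left hF hσ, hu.2, hvu])
    (by simp [hsub_left hF hσ, hsmul_left hF hσ, hv.2, huv])).1
  set d := y - h y v • u - h y u • v with hddef
  rw [show y = d + h y v • u + h y u • v by rw [hddef]; abel, hadd, hadd, hsmul, hsmul, hd, hα, hβ, hab, smul_smul,
    smul_smul, hτ, hτ]
  module

include hF hσ in
/-- A semilinear injection commuting with all transvections is a scalar. -/
theorem scalar_of_commute_tSU (hn : 3 ≤ n) (τ : F ≃+* F) (T : Vn → Vn) (hadd : ∀ a b, T (a + b) = T a + T b)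
    (hsmul : ∀ (t : F) a, T (t • a) = τ t • T a) (hinj : Function.Injective T)
    (hcomm : ∀ v, Isot q v → ∀ g ∈ (tSU v : Subgroup (Cfsg.SU n F q)), ∀ y, T (act g y) = act g (T y)) :
    τ = RingEquiv.refl F ∧ ∃ α : F, ∀ y, T y = α • y := by
  obtain ⟨α, hα, hτ⟩ := scalar_of_commute_tSU' hF hσ hn τ T hadd hsmul hcomm
  obtain ⟨u, -, -, hu, -⟩ := exists_frame hF hσ hn
  exact ⟨hτ fun h0 => hu.1 (hinj (by simp [hα, h0])), α, hα⟩

end CfsgLib.PSUAut
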