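/-
Outer automorphisms of PSU of prime order: the fixed subgroup of a lift and the core of the centraliser.
-/
import Cfsg.Agent.Lib.KnownSimple.PSUAut.FieldClass
import Cfsg.Agent.Lib.KnownSimple.PSUAut.SemiCommute
import Cfsg.Agent.Lib.KnownSimple.PSLAut.BalanceGraph
import Cfsg.Agent.Lib.KnownSimple.PSLAut.Galois
import Cfsg.Agent.Lib.Classical.UnitaryPSU

set_option autoImplicit false

namespace CfsgLib.PSUAut

open Matrix CfsgLib.Transvec CfsgLib.Transvec.Unitary
open CfsgLib.UnitarySpec (sigma_sigma sigma_ne psuMk)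
open CfsgLib.PSLAut (fixedField twNorm fieldGL subGL specialIso)

variable {F : Type*} [Field F] {n q : ℕ}

local notation "SUn" => (Cfsg.SU n F q)
local notation "GUn" => (Cfsg.GU n F q)
local notation "PSUn" => Cfsg.PSU n F q
local notation "Mn" => Matrix (Fin n) (Fin n) F

lemma fieldPSU_eq_descend (τ : F ≃+* F) : (fieldPSU τ : MulAut PSUn) = descendPSU (fieldSU τ) :=
  eq_of_psuMk_eq fun _ => rfl

lemma conjPSU_eq_descend (g : GUn) : (conjPSU g : MulAut PSUn) = descendPSU (conjSU g) :=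
  eq_of_psuMk_eq fun _ => rfl

lemma toGU_mk_coe (s : SUn) : ((toGU s : GUn) : GL (Fin n) F).val = (s.1 : Mn) := rfl

/-! ### The fixed subgroup of a lift -/

/-- The image of the fixed subgroup of `α` among the inner automorphisms. -/
noncomputable def liftInn (α : MulAut SUn) : Subgroup (MulAut PSUn) :=
  (α.toMonoidHom.eqLocus (MonoidHom.id SUn)).map (MulAut.conj.comp psuMk)

lemma mem_liftInn {α : MulAut SUn} {z : MulAut PSUn} :
    z ∈ liftInn α ↔ ∃ s : SUn, α s = s ∧ MulAut.conj (psuMk s) = z := Iff.rfl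

lemma liftInn_le (α : MulAut SUn) :
    liftInn α ≤ Cfsg.Inn PSUn ⊓ Subgroup.centralizer {descendPSU α} := by
  intro z hz
  obtain ⟨s, hs, rfl⟩ := mem_liftInn.1 hz
  refine ⟨⟨_, rfl⟩, Subgroup.mem_centralizer_singleton_iff.2 (MulEquiv.ext fun y => ?_)⟩
  rw [MulAut.mul_apply, MulAut.mul_apply, MulAut.conj_apply, MulAut.conj_apply, map_mul, map_mul, map_inv,
    descendPSU_mk, hs]

/-- The inner automorphisms are faithful. -/
def ConjFaithful (n : ℕ) (F : Type*) [Field F] (q : ℕ) : Prop :=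
  ∀ k : Cfsg.PSU n F q, (MulAut.conj k : MulAut (Cfsg.PSU n F q)) = 1 → k = 1

lemma conj_inj (hK : ConjFaithful n F q) {x y : PSUn}
    (e : (MulAut.conj x : MulAut PSUn) = MulAut.conj y) : x = y :=
  mul_inv_eq_one.1 (hK _ (by rw [map_mul, map_inv, e, mul_inv_cancel]))

lemma normalizes_liftInn (hK : ConjFaithful n F q) (α : MulAut SUn) :
    ∀ z ∈ Cfsg.Inn PSUn ⊓ Subgroup.centralizer {descendPSU α}, ∀ r ∈ liftInn α, z * r * z⁻¹ ∈ liftInn α := by
  rintro z ⟨⟨k, rfl⟩, hzc⟩ r hr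
  obtain ⟨t, ht, rfl⟩ := mem_liftInn.1 hr
  obtain ⟨s, rfl⟩ := QuotientGroup.mk'_surjective _ k
  have h1 : psuMk (α s) = psuMk s := by
    rw [← descendPSU_mk]
    refine conj_inj hK (mul_right_cancel (b := descendPSU α) ?_)
    refine Eq.trans ?_ (Subgroup.mem_centralizer_singleton_iff.1 hzc).symm
    exact MulEquiv.ext fun y => by simp; rfl
  obtain ⟨w, hw, hsw⟩ := (QuotientGroup.mk'_eq_mk' _).1 h1
  refine mem_liftInn.2 ⟨s * t * s⁻¹, ?_, by rw [map_mul, map_mul, map_inv, map_mul, map_mul, map_inv]; rfl⟩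
  have hα : α s = s * w⁻¹ := eq_mul_inv_iff_mul_eq.2 hsw
  have hwt : w⁻¹ * t = t * w⁻¹ := (Subgroup.mem_center_iff.1 ((Subgroup.center _).inv_mem hw) t).symm
  rw [map_mul, map_mul, map_inv, ht, hα, mul_assoc s, hwt]
  group

lemma apply_eq_of_commute (hK : ConjFaithful n F q) (n' : MulAut PSUn) (x : PSUn)
    (h : Commute n' (MulAut.conj x)) : n' x = x := by
  refine conj_inj hK (mul_right_cancel (b := n') ?_)
  refine Eq.trans ?_ h.eq
  exact MulEquiv.ext fun y => by simp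

lemma fix_of_liftInn (hK : ConjFaithful n F q) (α : MulAut SUn) (n' : MulAut PSUn)
    (h : ∀ r ∈ liftInn α, Commute n' r) (s : SUn) (hs : α s = s) : n' (psuMk s) = psuMk s :=
  apply_eq_of_commute hK n' _ (h _ (mem_liftInn.2 ⟨s, hs, rfl⟩))

/-- A scalar multiple of a unipotent is conjugate to a unipotent only for the trivial scalar. -/
lemma eq_one_of_smul_unipotent (g : GL (Fin n) F) {E k : Mn} {c : F} (hE : (E - 1) ^ 3 = 0)
    {v : Fin n → F} (hv : v ≠ 0) (hkv : k *ᵥ v = v) (h : (g : Mn) * E = c • (k * (g : Mn))) : c = 1 := by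
  have h2 : (c • k - 1) ^ 3 = 0 := by
    have e1 : c • k - 1 = (g : Mn) * (E - 1) * ((g⁻¹ : GL (Fin n) F) : Mn) := by
      rw [Matrix.mul_sub, Matrix.mul_one, Matrix.sub_mul, Units.mul_inv, h, Matrix.smul_mul, Matrix.mul_assoc,
        Units.mul_inv, Matrix.mul_one]
    rw [e1, Units.conj_pow, hE, Matrix.mul_zero, Matrix.zero_mul]
  have hstep : (c • k - 1) *ᵥ v = (c - 1) • v := by
    rw [sub_mulVec, smul_mulVec, hkv, one_mulVec, sub_smul, one_smul]
  have h3 := congrArg (fun M : Mn => M *ᵥ v) h2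
  simp only [pow_succ, pow_zero, one_mul, ← mulVec_mulVec, hstep, mulVec_smul, smul_smul, zero_mulVec, smul_eq_zero,
    hv, or_false, mul_eq_zero, or_self] at h3
  exact sub_eq_zero.1 h3

/-- Descent to the fixed field of the commutant. -/
theorem scalar_of_descent [Fintype F] (σ : F ≃+* F) (hn : 0 < n) (M : Mn) (hM : M ≠ 0) (τ : F ≃+* F)
    (S : Set (Matrix (Fin n) (Fin n) (fixedField σ)))
    (hc : ∀ X ∈ S, M * (X.map (fixedField σ).subtype).map τ = X.map (fixedField σ).subtype * M)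
    (hscal : ∀ (τ₀ : fixedField σ ≃+* fixedField σ) (T : (Fin n → fixedField σ) → Fin n → fixedField σ),
      (∀ a b, T (a + b) = T a + T b) → (∀ t a, T (t • a) = τ₀ t • T a) →
      (∀ X ∈ S, ∀ v, T (X *ᵥ v) = X *ᵥ T v) →
      ∃ a : fixedField σ, (∀ v, T v = a • v) ∧ (a ≠ 0 → τ₀ = RingEquiv.refl _)) :
    (∃ c : F, M = c • 1) ∧ τ ∈ Subgroup.zpowers σ := by
  classical
  set E := fixedField σ
  have hcom : ∀ (τ : F ≃+* F) (x : F), x ∈ E → τ x ∈ E := fun τ x hx => by
    show σ (τ x) = τ x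
    rw [← RingAut.mul_apply, CfsgLib.PSLAut.ringAut_comm, RingAut.mul_apply, show σ x = x from hx]
  let τ₀ : E ≃+* E :=
    { toFun := fun x => ⟨τ x, hcom τ x x.2⟩
      invFun := fun x => ⟨τ.symm x, hcom τ.symm x x.2⟩
      left_inv := fun x => Subtype.ext (τ.symm_apply_apply _)
      right_inv := fun x => Subtype.ext (τ.apply_symm_apply _)
      map_mul' := fun a b => Subtype.ext (map_mul τ _ _)
      map_add' := fun a b => Subtype.ext (map_add τ _ _) }
  let T : Module.Dual E F → (Fin n → E) → Fin n → E :=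
    fun φ v i => φ ((M *ᵥ (τ ∘ E.subtype ∘ v)) i)
  have hT : ∀ φ, ∃ a : E, (∀ v, T φ v = a • v) ∧ (a ≠ 0 → τ₀ = RingEquiv.refl _) := by
    intro φ
    refine hscal τ₀ (T φ) (fun a b => ?_) (fun t a => ?_) (fun X hX v => ?_)
    · funext i
      rw [Pi.add_apply, ← map_add, ← Pi.add_apply, ← mulVec_add]
      show φ _ = φ _
      congr 3; funext j; simp
    · funext i
      rw [Pi.smul_apply, ← map_smul, Subfield.smul_def]
      show φ _ = φ _
      congr 1
      have e : τ ∘ E.subtype ∘ (t • a) = (τ t : F) • (τ ∘ E.subtype ∘ a) := funext fun j => by simp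
      rw [e, mulVec_smul]
      rfl
    · funext i
      have e1 : τ ∘ E.subtype ∘ (X *ᵥ v) = (X.map E.subtype).map τ *ᵥ (τ ∘ E.subtype ∘ v) := by
        funext j
        simp [mulVec, dotProduct, map_sum]
      show φ ((M *ᵥ (τ ∘ E.subtype ∘ (X *ᵥ v))) i) = ∑ j, X i j * φ ((M *ᵥ (τ ∘ E.subtype ∘ v)) j)
      rw [e1, mulVec_mulVec, hc X hX, ← mulVec_mulVec]
      set w := M *ᵥ (τ ∘ E.subtype ∘ v) with hw
      have e2 : (X.map E.subtype *ᵥ w) i = ∑ j, X i j • w j := rfl
      rw [e2, map_sum]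
      exact Finset.sum_congr rfl fun j _ => map_smul φ (X i j) (w j)
  choose a ha hτ₀ using hT
  have hentry : ∀ φ i j, φ (M i j) = if i = j then a φ else 0 := by
    intro φ i j
    have h := congrFun (ha φ (Pi.single j 1)) i
    have e : τ ∘ E.subtype ∘ (Pi.single j 1 : Fin n → E) = Pi.single j 1 := by
      funext k; rcases eq_or_ne k j with rfl | hk <;> simp [*]
    simp only [T, e, mulVec_single_one, col_apply, Pi.smul_apply, smul_eq_mul] at h
    rw [h]
    rcases eq_or_ne i j with rfl | hij <;> simp [*]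
  let z : Fin n := ⟨0, hn⟩
  have hMc : M = M z z • 1 := by
    ext i j
    rw [← sub_eq_zero, ← Module.forall_dual_apply_eq_zero_iff E]
    intro φ
    rcases eq_or_ne i j with rfl | hij
    · simp [hentry]
    · simp [hentry, hij]
  refine ⟨⟨_, hMc⟩, ?_⟩
  have h0 : M z z ≠ 0 := fun h => hM (by rw [hMc, h, zero_smul])
  obtain ⟨φ, hφ⟩ : ∃ φ : Module.Dual E F, φ (M z z) ≠ 0 := by
    by_contra h
    push Not at h
    exact h0 ((Module.forall_dual_apply_eq_zero_iff E _).1 h)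
  replace hφ : a φ ≠ 0 := fun h => hφ (by rw [hentry, if_pos rfl, h])
  refine CfsgLib.PSLAut.mem_zpowers_of_fixes fun x hx => ?_
  have h1 := congrArg Subtype.val (DFunLike.congr_fun (hτ₀ φ hφ) (⟨x, hx⟩ : E))
  exact h1

variable [Fintype F] (hF : Fintype.card F = q ^ 2) {ρ : F ≃+* F} (hρ : ∀ a, ρ a = a ^ q)

include hF hρ in
lemma eq_one_of_conj_eq_one (hn : 3 ≤ n) : ConjFaithful n F q := by
  intro k hk
  obtain ⟨s, rfl⟩ := QuotientGroup.mk'_surjective _ k
  obtain ⟨c, hc⟩ := (conjPSU_eq_one_iff hF hρ hn (toGU s)).1 ((conjPSU_toGU s).trans hk)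
  rw [← map_one (psuMk : SUn →* PSUn)]
  refine (psuMk_eq_of_scalar hF hρ (c := c) fun y => ?_).symm
  rw [act_one]
  show (s.1 : Mn) *ᵥ y = _
  rw [← toGU_mk_coe, hc, smul_mulVec, one_mulVec]

include hF hρ in
/-- A pair fixing a unipotent modulo scalars commutes with it. -/
lemma lift_fix (hn : 3 ≤ n) {h : GUn} {τ : F ≃+* F} {s : SUn}
    (hfix : (conjPSU h * fieldPSU τ : MulAut PSUn) (psuMk s) = psuMk s) (hs3 : ((s.1 : Mn) - 1) ^ 3 = 0)
    {v : Fin n → F} (hv : v ≠ 0) (hsv : (s.1 : Mn) *ᵥ v = v) :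
    ((h : GL (Fin n) F) : Mn) * (s.1 : Mn).map τ = (s.1 : Mn) * ((h : GL (Fin n) F) : Mn) := by
  rw [MulAut.mul_apply] at hfix
  obtain ⟨c, hc⟩ := exists_scalar hF hρ (by omega : 2 ≤ n) (g := s) (g' := conjSU h (fieldSU τ s)) hfix.symm
  have hmat : ((h : GL (Fin n) F) : Mn) * (s.1 : Mn).map τ = c • ((s.1 : Mn) * ((h : GL (Fin n) F) : Mn)) := by
    have e : ((conjSU h (fieldSU τ s)).1 : Mn) = c • (s.1 : Mn) := Matrix.ext_of_mulVec_single fun i => by
      rw [smul_mulVec]; exact hc _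
    rw [conjSU_coe, fieldSU_coe] at e
    rw [← Matrix.smul_mul, ← e, Matrix.mul_assoc, Units.inv_mul, Matrix.mul_one]
  have hE : ((s.1 : Mn).map τ - 1) ^ 3 = 0 := by
    have := congrArg (fun M : Mn => τ.toRingHom.mapMatrix M) hs3
    simp only [map_pow, map_sub, map_one, map_zero] at this
    exact this
  rw [hmat, eq_one_of_smul_unipotent (h : GL (Fin n) F) hE hv hsv hmat, one_smul]

/-! ### Involutions -/

/-- The descent data of an involution. -/
structure InvData (g : GUn) (ρ : F ≃+* F) where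
  /-- conjugator -/
  k : GL (Fin n) F
  /-- scalar -/
  d : F
  /-- normalising scalar of the form -/
  e : F
  /-- the rational form -/
  B : GL (Fin n) (fixedField ρ)
  /-- the sign -/
  c : F
  hd : d ≠ 0
  he : e ≠ 0
  hg : ((g : GL (Fin n) F) : Mn) * (k : Mn).map ρ = d • (k : Mn)
  hB : (B : Matrix (Fin n) (Fin n) (fixedField ρ)).map (fixedField ρ).subtype = e • ((k : Mn)ᵀ * (k : Mn).map ρ)
  hsym : (B : Matrix (Fin n) (Fin n) (fixedField ρ))ᵀ = (B : Matrix (Fin n) (Fin n) (fixedField ρ)) ∨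
    (B : Matrix (Fin n) (Fin n) (fixedField ρ))ᵀ = -(B : Matrix (Fin n) (Fin n) (fixedField ρ))

include hF hρ in
lemma exists_invData (hn : 3 ≤ n) (g : GUn) (h1 : (conjPSU g * fieldPSU ρ : MulAut PSUn) ^ 2 = 1) :
    Nonempty (InvData g ρ) := by
  classical
  have hne := sigma_ne hF hρ
  have hinv := sigma_sigma hF hρ
  have hρ2 : orderOf ρ = 2 := orderOf_eq_prime (RingEquiv.ext fun a => by rw [sq, RingAut.mul_apply]; exact hinv a)
    fun h => hne h
  rw [conj_field_pow, ← hρ2, pow_orderOf_eq_one, ← fieldHomPSU_apply (1 : F ≃+* F), map_one, mul_one, hρ2] at h1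
  obtain ⟨c, hc⟩ := (conjPSU_eq_one_iff hF hρ hn _).1 h1
  set G := ((g : GL (Fin n) F) : Mn) with hG
  have hc' : G * G.map ρ = c • 1 := by
    rw [← hc, twGU_coe]
    simp only [CfsgLib.PSLAut.twNorm, mul_one, map_one, Units.val_mul, CfsgLib.PSLAut.fieldGL_val]
    rfl
  have hGU : Gᵀ * G.map ρ = 1 := (mem_GU_iff_mul hρ _).1 g.2
  haveI : Nonempty (Fin n) := ⟨⟨0, by omega⟩⟩
  have hG0 : G ≠ 0 := (g : GL (Fin n) F).ne_zero
  have hcG : c • Gᵀ = G := by
    have : Gᵀ * (G * G.map ρ) = G * (Gᵀ * G.map ρ) * 1 ∨ True := Or.inr trivial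
    have hl : G.map ρ * Gᵀ = 1 := mul_eq_one_comm.1 hGU
    calc c • Gᵀ = (c • (1 : Mn)) * Gᵀ := by rw [Matrix.smul_mul, Matrix.one_mul]
      _ = G := by rw [← hc', Matrix.mul_assoc, hl, Matrix.mul_one]
  have hcc : c * c = 1 := by
    have h2 : (c * c) • G = (1 : F) • G := by
      have h3 := congrArg transpose hcG
      rw [transpose_smul, transpose_transpose] at h3
      rw [one_smul, ← smul_smul, h3, hcG]
    exact (smul_left_injective F hG0 h2)
  have hc0 : c ≠ 0 := left_ne_zero_of_mul_eq_one hcc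
  have hρc : ρ c = c := by
    rcases mul_self_eq_one_iff.1 hcc with rfl | rfl <;> simp
  obtain ⟨d, hd⟩ := exists_norm_eq hne hinv hρc
  have hd0 : d ≠ 0 := fun h => hc0 (by rw [← hd, h, zero_mul])
  obtain ⟨e, he0, he⟩ : ∃ e : F, e ≠ 0 ∧ ρ e = c * e := by
    rcases mul_self_eq_one_iff.1 hcc with rfl | rfl
    · exact ⟨1, one_ne_zero, by simp⟩
    · obtain ⟨e, he0, he⟩ := exists_skew hne hinv
      exact ⟨e, he0, by linear_combination he⟩
  set g' : GL (Fin n) F := GeneralLinearGroup.scalar (Fin n) (Units.mk0 d hd0)⁻¹ * (g : GL (Fin n) F) with hg'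
  have hg'v : (g' : Mn) = d⁻¹ • G := by
    rw [hg', Units.val_mul, GeneralLinearGroup.coe_scalar, scalar_apply, ← smul_one_eq_diagonal, Matrix.smul_mul,
      Matrix.one_mul, Units.val_inv_eq_inv_val, Units.val_mk0]
  obtain ⟨k, hk⟩ := CfsgLib.PSLAut.exists_eq_mul_inv_fieldGL hρ2 (g := g') (by
    refine Units.ext ?_
    simp only [CfsgLib.PSLAut.twNorm, mul_one, map_one, Units.val_mul, CfsgLib.PSLAut.fieldGL_val, hg'v, Units.val_one]
    have e1 : (d⁻¹ • G).map ρ = (ρ d)⁻¹ • G.map ρ := by ext i j; simp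
    rw [e1, Matrix.smul_mul, Matrix.mul_smul, hc', smul_smul, smul_smul, ← mul_inv, hd, inv_mul_cancel₀ hc0, one_smul])
  have hgk : G * (k : Mn).map ρ = d • (k : Mn) := by
    have h2 := congrArg Units.val (show g' * fieldGL ρ k = k by rw [hk, inv_mul_cancel_right])
    rw [Units.val_mul, CfsgLib.PSLAut.fieldGL_val, hg'v, Matrix.smul_mul] at h2
    have h3 := congrArg (fun N : Mn => d • N) h2
    simp only [smul_smul, mul_inv_cancel₀ hd0, one_smul] at h3
    exact h3
  set W := (k : Mn)ᵀ * (k : Mn).map ρ with hW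
  have hkk : ((k : Mn).map ρ).map ρ = (k : Mn) := by ext i j; exact hinv _
  have hWρ : W.map ρ = ((k : Mn).map ρ)ᵀ * (k : Mn) := by
    rw [hW, Matrix.map_mul, hkk, transpose_map]
  have hWt : Wᵀ = c • W := by
    have h3 : d • (k : Mn)ᵀ = ((k : Mn).map ρ)ᵀ * Gᵀ := by rw [← transpose_mul, hgk, transpose_smul]
    have h4 : ρ d • (k : Mn).map ρ = G.map ρ * (k : Mn) := by
      have := congrArg (fun M : Mn => M.map ρ) hgk
      simp only [Matrix.map_mul, hkk] at this
      rw [this]; ext i j; simp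
    have h5 : c • W = ((k : Mn).map ρ)ᵀ * (k : Mn) := by
      rw [hW, ← hd, show (d * ρ d) • ((k : Mn)ᵀ * (k : Mn).map ρ) = (d • (k : Mn)ᵀ) * (ρ d • (k : Mn).map ρ) by
        rw [Matrix.smul_mul, Matrix.mul_smul, smul_smul], h3, h4, Matrix.mul_assoc, ← Matrix.mul_assoc Gᵀ, hGU,
        Matrix.one_mul]
    rw [h5, hW, transpose_mul, transpose_transpose]
  have hfix : (e • W).map ρ = e • W := by
    have h6 : W.map ρ = c • W := by rw [← hWt, hWρ, hW, transpose_mul, transpose_transpose]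
    have h7 : (e • W).map ρ = ρ e • W.map ρ := by ext i j; simp
    rw [h7, h6, he, smul_smul]
    congr 1
    linear_combination e * hcc
  have hdet : (e • W).det ≠ 0 := by
    have hdk : (k : Mn).det ≠ 0 := GeneralLinearGroup.det_ne_zero k
    rw [det_smul, hW, det_mul, det_transpose]
    refine mul_ne_zero (pow_ne_zero _ he0) (mul_ne_zero hdk ?_)
    rw [show ((k : Mn).map ρ).det = ρ (k : Mn).det from (RingHom.map_det ρ.toRingHom (k : Mn)).symm]
    simpa using hdk
  obtain ⟨B, hB⟩ := CfsgLib.PSLAut.exists_subGL (σ := ρ) (g := GeneralLinearGroup.mkOfDetNeZero (e • W) hdet)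
    (Units.ext hfix)
  have hB' : (B : Matrix (Fin n) (Fin n) (fixedField ρ)).map (fixedField ρ).subtype = e • W :=
    congrArg Units.val hB
  refine ⟨⟨k, d, e, B, c, hd0, he0, hgk, hB', ?_⟩⟩
  rcases mul_self_eq_one_iff.1 hcc with rfl | rfl
  · refine Or.inl (Matrix.map_injective (fixedField ρ).subtype.injective ?_)
    beta_reduce
    rw [transpose_map, hB', transpose_smul, hWt, one_smul]
  · refine Or.inr (Matrix.map_injective (fixedField ρ).subtype.injective ?_)
    beta_reduce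
    rw [transpose_map, hB', transpose_smul, hWt, Matrix.map_neg _ (map_neg _), hB', neg_one_smul, smul_neg]

variable {g : Cfsg.GU n F q} (D : InvData g ρ)


/-- A matrix over the fixed field, transported. -/
noncomputable def trans (X : GL (Fin n) (fixedField ρ)) : GL (Fin n) F := D.k * subGL (fixedField ρ) X * D.k⁻¹

lemma trans_val (X : GL (Fin n) (fixedField ρ)) :
    (trans D X : Mn) = (D.k : Mn) * (X : Matrix (Fin n) (Fin n) (fixedField ρ)).map (fixedField ρ).subtype * ((D.k⁻¹ : GL (Fin n) F) : Mn) :=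
  rfl

lemma subtype_form_iff (X : GL (Fin n) (fixedField ρ)) :
    (X : Matrix (Fin n) (Fin n) (fixedField ρ))ᵀ * (D.B : Matrix (Fin n) (Fin n) (fixedField ρ)) * (X : Matrix (Fin n) (Fin n) (fixedField ρ)) = D.B ↔
    ((D.k : Mn) * (X : Matrix (Fin n) (Fin n) (fixedField ρ)).map (fixedField ρ).subtype)ᵀ *
      ((D.k : Mn).map ρ * (X : Matrix (Fin n) (Fin n) (fixedField ρ)).map (fixedField ρ).subtype) = (D.k : Mn)ᵀ * (D.k : Mn).map ρ := by
  rw [← (Matrix.map_injective (fixedField ρ).subtype.injective).eq_iff]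
  show _ = _ ↔ _
  rw [Matrix.map_mul, Matrix.map_mul, transpose_map, D.hB, transpose_mul, Matrix.mul_smul, Matrix.smul_mul,
    (smul_right_injective Mn D.he).eq_iff]
  simp only [Matrix.mul_assoc]

omit [Fintype F] in
lemma map_subtype_fix (X : Matrix (Fin n) (Fin n) (fixedField ρ)) :
    (X.map (fixedField ρ).subtype).map ρ = X.map (fixedField ρ).subtype :=
  Matrix.ext fun i j => (X i j).2

include hρ in
lemma trans_mem_GU_iff (X : GL (Fin n) (fixedField ρ)) :
    trans D X ∈ GUn ↔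
      (X : Matrix (Fin n) (Fin n) (fixedField ρ))ᵀ * (D.B : Matrix (Fin n) (Fin n) (fixedField ρ)) * (X : Matrix (Fin n) (Fin n) (fixedField ρ)) = D.B := by
  rw [subtype_form_iff, mem_GU_iff_mul hρ, trans_val]
  set Y := (X : Matrix (Fin n) (Fin n) (fixedField ρ)).map (fixedField ρ).subtype
  set K := (D.k : Mn)
  set K' := ((D.k⁻¹ : GL (Fin n) F) : Mn)
  have hKK : K * K' = 1 := Units.mul_inv _
  have hKK' : K' * K = 1 := Units.inv_mul _
  rw [Matrix.map_mul, Matrix.map_mul, map_subtype_fix, transpose_mul]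
  have hK2 : K'.map ρ * K.map ρ = 1 := by rw [← Matrix.map_mul, hKK', Matrix.map_one _ (map_zero _) (map_one _)]
  constructor
  · intro h
    calc (K * Y)ᵀ * (K.map ρ * Y) = Kᵀ * (K'ᵀ * (K * Y)ᵀ * (K.map ρ * Y * K'.map ρ)) * K.map ρ := by
          rw [← Matrix.mul_assoc Kᵀ, ← Matrix.mul_assoc Kᵀ, ← transpose_mul, hKK', transpose_one, Matrix.one_mul,
            Matrix.mul_assoc, Matrix.mul_assoc _ (K'.map ρ), hK2, Matrix.mul_one]
      _ = _ := by rw [h, Matrix.mul_one]
  · intro h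
    calc K'ᵀ * (K * Y)ᵀ * (K.map ρ * Y * K'.map ρ) = K'ᵀ * ((K * Y)ᵀ * (K.map ρ * Y)) * K'.map ρ := by
          simp only [Matrix.mul_assoc]
      _ = (K'ᵀ * Kᵀ) * (K.map ρ * K'.map ρ) := by rw [h]; simp only [Matrix.mul_assoc]
      _ = 1 := by
          rw [← transpose_mul, ← Matrix.map_mul, hKK, transpose_one, Matrix.map_one _ (map_zero _) (map_one _),
            Matrix.one_mul]

include hρ in
/-- The special isometry group of the form is realised in the fixed subgroup. -/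
lemma exists_fixed_of_specialIso {X : GL (Fin n) (fixedField ρ)} (hX : X ∈ specialIso D.B) :
    ∃ s : SUn, (s.1 : Mn) = (trans D X : Mn) ∧ conjSU g (fieldSU ρ s) = s := by
  obtain ⟨hB, hdet⟩ := CfsgLib.PSLAut.mem_specialIso.1 hX
  have hmem := (trans_mem_GU_iff hρ D X).2 hB
  have hd : (trans D X : Mn).det = 1 := by
    rw [trans_val, det_mul, det_mul, mul_comm, ← mul_assoc, ← det_mul, Units.inv_mul, det_one, one_mul,
      show ((X : Matrix (Fin n) (Fin n) (fixedField ρ)).map (fixedField ρ).subtype).det = (fixedField ρ).subtype (X : Matrix (Fin n) (Fin n) (fixedField ρ)).det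
        from (RingHom.map_det (fixedField ρ).subtype _).symm, hdet, map_one]
  let s : SUn := ⟨(⟨(trans D X : Mn), hd⟩ : Matrix.SpecialLinearGroup (Fin n) F), fun u v => hmem u v⟩
  refine ⟨s, rfl, Subtype.ext (Subtype.ext ?_)⟩
  rw [conjSU_coe, fieldSU_coe]
  show ((g : GL (Fin n) F) : Mn) * (trans D X : Mn).map ρ * _ = (trans D X : Mn)
  have h2 : ((g : GL (Fin n) F) : Mn) * (trans D X : Mn).map ρ = (trans D X : Mn) * ((g : GL (Fin n) F) : Mn) := by
    have hK2 : (D.k : Mn).map ρ * ((D.k⁻¹ : GL (Fin n) F) : Mn).map ρ = 1 := by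
      rw [← Matrix.map_mul, Units.mul_inv, Matrix.map_one _ (map_zero _) (map_one _)]
    calc ((g : GL (Fin n) F) : Mn) * (trans D X : Mn).map ρ
        = (D.d • (D.k : Mn)) * (X : Matrix (Fin n) (Fin n) (fixedField ρ)).map (fixedField ρ).subtype *
            ((D.k⁻¹ : GL (Fin n) F) : Mn).map ρ := by
          rw [trans_val, Matrix.map_mul, Matrix.map_mul, map_subtype_fix, ← D.hg]
          simp only [Matrix.mul_assoc]
      _ = (trans D X : Mn) * (D.d • (D.k : Mn)) * ((D.k⁻¹ : GL (Fin n) F) : Mn).map ρ := by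
          rw [trans_val, Matrix.mul_smul, Matrix.smul_mul, Matrix.mul_assoc _ _ (D.k : Mn), Units.inv_mul, Matrix.mul_one,
            Matrix.smul_mul]
      _ = _ := by rw [← D.hg, Matrix.mul_assoc _ _ (((D.k⁻¹ : GL (Fin n) F) : Mn).map ρ),
          Matrix.mul_assoc ((g : GL (Fin n) F) : Mn), hK2, Matrix.mul_one]
  rw [h2, Matrix.mul_assoc, Units.mul_inv, Matrix.mul_one]

include hρ in
/-- Fixed elements come from the special isometry group. -/
lemma exists_specialIso_of_fixed {s : SUn} (hs : conjSU g (fieldSU ρ s) = s) :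
    ∃ X ∈ specialIso D.B, (s.1 : Mn) = (trans D X : Mn) := by
  set S : GL (Fin n) F := ((toGU s : GUn) : GL (Fin n) F) with hS
  have hSv : (S : Mn) = (s.1 : Mn) := rfl
  have h1 : ((g : GL (Fin n) F) : Mn) * (S : Mn).map ρ = (S : Mn) * ((g : GL (Fin n) F) : Mn) := by
    have := congrArg (fun t : SUn => (t.1 : Mn)) hs
    simp only [conjSU_coe, fieldSU_coe] at this
    rw [hSv]
    conv_rhs => rw [← this]
    rw [Matrix.mul_assoc, Units.inv_mul, Matrix.mul_one]
  obtain ⟨X, hX⟩ := CfsgLib.PSLAut.exists_subGL (σ := ρ) (g := D.k⁻¹ * S * D.k) (by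
    refine Units.ext ?_
    show ((((D.k⁻¹ : GL (Fin n) F) : Mn) * (S : Mn) * (D.k : Mn))).map ρ = ((D.k⁻¹ : GL (Fin n) F) : Mn) * (S : Mn) * (D.k : Mn)
    refine (smul_right_injective Mn D.hd) ?_
    show D.d • _ = D.d • _
    have e1 : ((g : GL (Fin n) F) : Mn) * (D.k : Mn).map ρ * ((D.k⁻¹ : GL (Fin n) F) : Mn).map ρ = ((g : GL (Fin n) F) : Mn) := by
      rw [Matrix.mul_assoc, ← Matrix.map_mul, Units.mul_inv, Matrix.map_one _ (map_zero _) (map_one _), Matrix.mul_one]
    have e2 : D.d • (1 : Mn) = ((D.k⁻¹ : GL (Fin n) F) : Mn) * (((g : GL (Fin n) F) : Mn) * (D.k : Mn).map ρ) := by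
      rw [D.hg, Matrix.mul_smul, Units.inv_mul]
    calc D.d • (((((D.k⁻¹ : GL (Fin n) F) : Mn) * (S : Mn) * (D.k : Mn))).map ρ)
        = (D.d • (1 : Mn)) * ((((D.k⁻¹ : GL (Fin n) F) : Mn) * (S : Mn) * (D.k : Mn))).map ρ := by
          rw [Matrix.smul_mul, Matrix.one_mul]
      _ = ((D.k⁻¹ : GL (Fin n) F) : Mn) * ((((g : GL (Fin n) F) : Mn) * (D.k : Mn).map ρ *
            ((D.k⁻¹ : GL (Fin n) F) : Mn).map ρ) * (S : Mn).map ρ * (D.k : Mn).map ρ) := by
          rw [e2, Matrix.map_mul, Matrix.map_mul]; simp only [Matrix.mul_assoc]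
      _ = _ := by
          rw [e1, h1, Matrix.mul_assoc _ ((g : GL (Fin n) F) : Mn), D.hg, Matrix.mul_smul, Matrix.mul_smul,
            ← Matrix.mul_assoc])
  have hXS : trans D X = S := by
    show D.k * subGL (fixedField ρ) X * D.k⁻¹ = S
    rw [hX]; group
  refine ⟨X, CfsgLib.PSLAut.mem_specialIso.2 ⟨(trans_mem_GU_iff hρ D X).1 ?_, ?_⟩, by rw [hXS]; exact hSv.symm⟩
  · rw [hXS]; exact (toGU s).2
  · refine (fixedField ρ).subtype.injective ?_
    rw [map_one, RingHom.map_det]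
    have h2 := congrArg (fun u : GL (Fin n) F => (u : Mn).det) hX
    simp only [Units.val_mul, det_mul] at h2
    refine h2.trans ?_
    rw [mul_comm, ← mul_assoc, ← det_mul, Units.mul_inv, det_one, one_mul, hSv]
    exact s.1.2

set_option maxHeartbeats 1000000 in
include hF hρ D in
/-- The centraliser of the fixed subgroup of an involution. -/
lemma mem_zpowers_inv (hn : 3 ≤ n) (h32 : ¬(n = 3 ∧ q = 2)) (h2 : (2 : F) ≠ 0)
    (n' : MulAut PSUn) (h : ∀ r ∈ liftInn (conjSU g * fieldSU ρ), Commute n' r) :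
    n' ∈ Subgroup.zpowers (conjPSU g * fieldPSU ρ : MulAut PSUn) := by
  classical
  letI : Fintype (fixedField ρ) := Fintype.ofFinite _
  obtain ⟨a, τ, ha, hind⟩ := aut_classification hF hρ hn h32 n'
  obtain rfl := eq_of_isInduced (g := ⟨a, ha⟩) hind
  have hK := eq_one_of_conj_eq_one hF hρ hn
  have h20 : (2 : (fixedField ρ)) ≠ 0 := fun h0 => h2 (by
    have := congrArg (fixedField ρ).subtype h0
    rwa [map_ofNat, map_zero] at this)
  set B := (D.B : Matrix (Fin n) (Fin n) (fixedField ρ))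
  have hBd : B.det ≠ 0 := GeneralLinearGroup.det_ne_zero D.B
  set K := (D.k : Mn)
  set K' := ((D.k⁻¹ : GL (Fin n) F) : Mn)
  let M : Mn := K' * (a : Mn) * K.map τ
  have hdet : M.det ≠ 0 := by
    simp only [M, det_mul]
    refine mul_ne_zero (mul_ne_zero (GeneralLinearGroup.det_ne_zero _) (GeneralLinearGroup.det_ne_zero _)) ?_
    rw [show (K.map τ).det = τ K.det from (RingHom.map_det τ.toRingHom K).symm]
    simpa using GeneralLinearGroup.det_ne_zero D.k
  have hM0 : M ≠ 0 := fun h0 => hdet (by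
    haveI : Nonempty (Fin n) := ⟨⟨0, by omega⟩⟩
    rw [h0, det_zero])
  let S : Set (Matrix (Fin n) (Fin n) (fixedField ρ)) := {X | ∃ (Xu : GL (Fin n) (fixedField ρ)) (v : Fin n → (fixedField ρ)), Xu ∈ specialIso D.B ∧
    (Xu : Matrix (Fin n) (Fin n) (fixedField ρ)) = X ∧ (X - 1) ^ 3 = 0 ∧ v ≠ 0 ∧ X *ᵥ v = v}
  have hc : ∀ X ∈ S, M * (X.map (fixedField ρ).subtype).map τ = X.map (fixedField ρ).subtype * M := by
    rintro _ ⟨X, v, hX, rfl, hX3, hv, hXv⟩
    obtain ⟨s, hs, hsfix⟩ := exists_fixed_of_specialIso hρ D hX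
    set Y := (X : Matrix (Fin n) (Fin n) (fixedField ρ)).map (fixedField ρ).subtype
    have hfix := fix_of_liftInn hK _ _ h s hsfix
    have hY3 : (Y - 1) ^ 3 = 0 := by
      have := congrArg (fun N : Matrix (Fin n) (Fin n) (fixedField ρ) => (fixedField ρ).subtype.mapMatrix N) hX3
      simp only [map_pow, map_sub, map_one, map_zero] at this
      exact this
    have hs3 : ((s.1 : Mn) - 1) ^ 3 = 0 := by
      have e : (s.1 : Mn) - 1 = K * (Y - 1) * K' := by
        rw [hs, trans_val, Matrix.mul_sub, Matrix.mul_one, Matrix.sub_mul, Units.mul_inv]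
      rw [e, Units.conj_pow, hY3, Matrix.mul_zero, Matrix.zero_mul]
    have hv' : K *ᵥ ((fixedField ρ).subtype ∘ v) ≠ 0 := fun h0 => hv (by
      have h1 := congrArg (fun w => K' *ᵥ w) h0
      simp only [mulVec_mulVec, K, K', Units.inv_mul, one_mulVec, mulVec_zero] at h1
      funext i
      exact Subtype.ext (congrFun h1 i))
    have hsv : (s.1 : Mn) *ᵥ (K *ᵥ ((fixedField ρ).subtype ∘ v)) = K *ᵥ ((fixedField ρ).subtype ∘ v) := by
      rw [hs, trans_val, mulVec_mulVec, Matrix.mul_assoc, Units.inv_mul, Matrix.mul_one, ← mulVec_mulVec]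
      congr 1
      funext i
      rw [← RingHom.map_mulVec, hXv]
      rfl
    have hl := lift_fix hF hρ hn hfix hs3 hv' hsv
    rw [hs, trans_val] at hl
    have hτ : (K * Y * K').map τ = K.map τ * Y.map τ * K'.map τ := by rw [Matrix.map_mul, Matrix.map_mul]
    have hKτ : K'.map τ * K.map τ = 1 := by
      rw [← Matrix.map_mul, Units.inv_mul, Matrix.map_one _ (map_zero _) (map_one _)]
    calc M * Y.map τ = K' * ((a : Mn) * (K * Y * K').map τ) * K.map τ := by
          rw [hτ]; simp only [M, Matrix.mul_assoc, hKτ, Matrix.mul_one]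
      _ = K' * ((K * Y * K') * (a : Mn)) * K.map τ := by rw [hl]
      _ = _ := by
          simp only [M, ← Matrix.mul_assoc]
          rw [Units.inv_mul, Matrix.one_mul]
  obtain ⟨⟨α, hα⟩, hτ⟩ := scalar_of_descent ρ (by omega) M hM0 τ S hc fun τ₀ T hadd hsmul hT => by
    rcases D.hsym with hs | hs
    · refine CfsgLib.SemiCommute.scalar_of_commute_eich' h20 (CfsgLib.PSLAut.det_formQ_nondeg h20 hs)
        (by rw [Module.finrank_fintype_fun_eq_card, Fintype.card_fin]; exact hn) τ₀ T hadd hsmul fun u w hu hw x => ?_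
      rcases eq_or_ne u 0 with rfl | hu0
      · have hid : (CfsgLib.Classical.eich (CfsgLib.PSLAut.formQ B) (0 : Fin n → (fixedField ρ)) w).1 = LinearEquiv.refl (fixedField ρ) _ := by
          refine LinearEquiv.ext fun y => ?_
          rw [CfsgLib.Classical.eich_apply _ hu hw]; simp
        rw [hid]; rfl
      obtain ⟨X, hX, hX3, hXu, hXx⟩ := CfsgLib.PSLAut.exists_eichGL h20 hs u w hu hw
      rw [hXx, hXx]
      exact hT _ ⟨X, u, hX, rfl, hX3, hu0, hXu⟩ x
    · have halt : ∀ v, v ⬝ᵥ (B *ᵥ v) = 0 := (CfsgLib.Forms.isAltMat_of_skew h20 hs).form_self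
      refine CfsgLib.SemiCommute.scalar_of_commute_altT' hBd (by rw [Fintype.card_fin]; omega) τ₀ T hadd hsmul
        fun v x => ?_
      rcases eq_or_ne v 0 with rfl | hv
      · simp [CfsgLib.SemiCommute.altT_mulVec]
      let X : GL (Fin n) (fixedField ρ) := GeneralLinearGroup.mkOfDetNeZero (CfsgLib.SemiCommute.altT B v 1)
        (by rw [CfsgLib.SemiCommute.det_altT halt]; exact one_ne_zero)
      have hXv : CfsgLib.SemiCommute.altT B v 1 *ᵥ v = v := by
        rw [CfsgLib.SemiCommute.altT_mulVec, halt, mul_zero, zero_smul, add_zero]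
      have hX3 : (CfsgLib.SemiCommute.altT B v 1 - 1) ^ 3 = 0 := by
        refine Matrix.ext_of_mulVec_single fun i => ?_
        rw [zero_mulVec, pow_succ', pow_succ', pow_one, ← mulVec_mulVec, ← mulVec_mulVec]
        generalize (Pi.single i 1 : Fin n → (fixedField ρ)) = y
        have hy : ∀ y, (CfsgLib.SemiCommute.altT B v 1 - 1) *ᵥ y = (1 * (y ⬝ᵥ (B *ᵥ v))) • v := fun y => by
          rw [sub_mulVec, one_mulVec, CfsgLib.SemiCommute.altT_mulVec, add_sub_cancel_left]
        simp only [hy, smul_dotProduct, halt, smul_eq_mul, mul_zero, zero_smul, zero_dotProduct]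
      refine hT _ ⟨X, v, CfsgLib.PSLAut.mem_specialIso.2 ⟨(CfsgLib.Forms.form_eq_iff _ _).1 fun a b => ?_,
        CfsgLib.SemiCommute.det_altT halt v 1⟩, rfl, hX3, hv, hXv⟩ x
      rw [← CfsgLib.Forms.mulVec_form]; exact CfsgLib.SemiCommute.altT_form halt v 1 a b
  have haK : (a : Mn) * K.map τ = α • K := by
    have := congrArg (fun N : Mn => K * N) hα
    simp only [M, Matrix.mul_smul, Matrix.mul_one, ← Matrix.mul_assoc, K', K, Units.mul_inv, Matrix.one_mul] at this
    exact this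
  have hρ2 : ρ ^ 2 = 1 := RingEquiv.ext fun x => by rw [sq, RingAut.mul_apply]; exact sigma_sigma hF hρ x
  obtain ⟨j, rfl⟩ := hτ
  rcases Int.even_or_odd' j with ⟨l, rfl | rfl⟩
  · have e : ρ ^ (2 * l) = 1 := by rw [_root_.zpow_mul, show ρ ^ (2 : ℤ) = 1 by exact_mod_cast hρ2, _root_.one_zpow]
    simp only [e] at haK ⊢
    have ha1 : conjPSU ⟨a, ha⟩ = (1 : MulAut PSUn) := conjPSU_eq_one_of_scalar (c := α) (by
      show (a : Mn) = _
      have h1 : (a : Mn) * K = α • K := haK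
      calc (a : Mn) = (a : Mn) * K * K' := by rw [Matrix.mul_assoc, Units.mul_inv, Matrix.mul_one]
        _ = _ := by rw [h1, Matrix.smul_mul, Units.mul_inv])
    rw [ha1, one_mul, show (fieldPSU (1 : F ≃+* F) : MulAut PSUn) = 1 from map_one fieldHomPSU]
    exact Subgroup.one_mem _
  · have e : ρ ^ (2 * l + 1) = ρ := by
      rw [_root_.zpow_add, _root_.zpow_mul, show ρ ^ (2 : ℤ) = 1 by exact_mod_cast hρ2, _root_.one_zpow, one_mul, zpow_one]
    simp only [e] at haK ⊢
    have hga : conjPSU ((⟨a, ha⟩ : GUn) * g⁻¹) = (1 : MulAut PSUn) := conjPSU_eq_one_of_scalar (c := α / D.d) (by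
      have h1 : (a : Mn) * (K.map ρ) = (α / D.d) • (((g : GL (Fin n) F) : Mn) * K.map ρ) := by
        rw [D.hg, smul_smul, div_mul_cancel₀ _ D.hd, haK]
      have h2 : (a : Mn) = (α / D.d) • ((g : GL (Fin n) F) : Mn) := by
        have hKK : K.map ρ * K'.map ρ = 1 := by
          rw [← Matrix.map_mul, Units.mul_inv, Matrix.map_one _ (map_zero _) (map_one _)]
        calc (a : Mn) = (a : Mn) * K.map ρ * K'.map ρ := by rw [Matrix.mul_assoc, hKK, Matrix.mul_one]
          _ = _ := by rw [h1, Matrix.smul_mul, Matrix.mul_assoc, hKK, Matrix.mul_one]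
      show (a : Mn) * (((g : GL (Fin n) F))⁻¹ : GL (Fin n) F).val = _
      rw [h2, Matrix.smul_mul, Units.mul_inv])
    rw [map_mul, map_inv, mul_inv_eq_one] at hga
    rw [hga]
    exact Subgroup.mem_zpowers _

set_option maxHeartbeats 1000000 in
include hF hρ in
/-- The core of the centraliser of an involutory field-type automorphism is trivial. -/
theorem core_inv_eq_bot (hn : 3 ≤ n) (h32 : ¬(n = 3 ∧ q = 2)) (h2 : (2 : F) ≠ 0) (g : GUn)
    (hord : (conjPSU g * fieldPSU ρ : MulAut PSUn) ^ 2 = 1) (A : Subgroup (MulAut PSUn)) (hA : Cfsg.Inn PSUn ≤ A) :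
    Cfsg.pPrimeCore 2 ↥(A ⊓ Subgroup.centralizer {(conjPSU g * fieldPSU ρ : MulAut PSUn)}) = ⊥ := by
  classical
  haveI : Finite (MulAut PSUn) := Finite.of_injective (fun b : MulAut PSUn => (b : PSUn → PSUn)) DFunLike.coe_injective
  haveI : Fact (Nat.Prime 2) := ⟨Nat.prime_two⟩
  obtain ⟨D⟩ := exists_invData hF hρ hn g hord
  letI : Fintype (fixedField ρ) := Fintype.ofFinite _
  have hK := eq_one_of_conj_eq_one hF hρ hn
  set α : MulAut SUn := conjSU g * fieldSU ρ with hα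
  have hβ : (conjPSU g * fieldPSU ρ : MulAut PSUn) = descendPSU α := by
    rw [hα, map_mul, ← conjPSU_eq_descend, ← fieldPSU_eq_descend]
  refine CfsgLib.Balance.core_eq_bot_of_normalized A _ hA _ 2 hord (liftInn α)
    ((liftInn_le α).trans inf_le_left) (hβ ▸ (liftInn_le α).trans inf_le_right) (fun M hM hn' hcop => ?_)
    (hβ ▸ normalizes_liftInn hK α) fun n' _ hr => mem_zpowers_inv hF hρ D hn h32 h2 n' hr
  have hodd : Odd (Nat.card M) := Nat.coprime_two_right.1 hcop
  have h20 : (2 : (fixedField ρ)) ≠ 0 := fun h0 => h2 (by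
    have := congrArg (fixedField ρ).subtype h0
    rwa [map_ofNat, map_zero] at this)
  obtain ⟨Φ, hΦ⟩ : ∃ Φ : specialIso D.B → SUn,
      ∀ X, ((Φ X).1 : Mn) = (trans D X.1 : Mn) ∧ conjSU g (fieldSU ρ (Φ X)) = Φ X :=
    Classical.axiomOfChoice (r := fun (X : specialIso D.B) (s : SUn) =>
      (s.1 : Mn) = (trans D X.1 : Mn) ∧ conjSU g (fieldSU ρ s) = s) fun X => exists_fixed_of_specialIso hρ D X.2
  let f : specialIso D.B →* MulAut PSUn :=
    MulAut.conj.comp (psuMk.comp (MonoidHom.mk' Φ fun X Y => Subtype.ext (Subtype.ext (by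
      show ((Φ (X * Y)).1 : Mn) = ((Φ X).1 : Mn) * ((Φ Y).1 : Mn)
      rw [(hΦ _).1, (hΦ _).1, (hΦ _).1, ← Units.val_mul]
      simp only [trans, Subgroup.coe_mul, map_mul]
      congr 1
      group))))
  have hfR : ∀ X, f X ∈ liftInn α := fun X => mem_liftInn.2 ⟨Φ X, (hΦ X).2, rfl⟩
  let M₀ : Subgroup (GL (Fin n) (fixedField ρ)) := (M.comap f).map (specialIso D.B).subtype
  have hM₀ : ∀ u, u ∈ M₀ → ∃ hu : u ∈ specialIso D.B, f ⟨u, hu⟩ ∈ M := by
    rintro _ ⟨v, hv, rfl⟩
    exact ⟨v.2, hv⟩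
  have hpow : ∀ u ∈ M₀, ∃ c : (fixedField ρ), ((u ^ Nat.card M : GL (Fin n) (fixedField ρ)) : Matrix (Fin n) (Fin n) (fixedField ρ)) = c • 1 := by
    intro u hu
    obtain ⟨hu', huM⟩ := hM₀ u hu
    have h1 : f (⟨u, hu'⟩ ^ Nat.card M) = 1 := by
      rw [map_pow]; exact congrArg Subtype.val (pow_card_eq_one' (x := (⟨_, huM⟩ : M)))
    obtain ⟨c, hc⟩ := exists_scalar hF hρ (by omega : 2 ≤ n) (g := (1 : SUn)) (g' := Φ (⟨u, hu'⟩ ^ Nat.card M))
      (by rw [map_one]; exact (hK _ h1).symm)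
    have e : ((Φ (⟨u, hu'⟩ ^ Nat.card M)).1 : Mn) = c • 1 := Matrix.ext_of_mulVec_single fun i => by
      rw [smul_mulVec, one_mulVec]; exact (hc _).trans (by rw [act_one])
    rw [(hΦ _).1, trans_val] at e
    have e' : ((u ^ Nat.card M : GL (Fin n) (fixedField ρ)) : Matrix (Fin n) (Fin n) (fixedField ρ)).map (fixedField ρ).subtype = c • 1 := by
      have := congrArg (fun N : Mn => ((D.k⁻¹ : GL (Fin n) F) : Mn) * N * (D.k : Mn)) e
      simp only [← Matrix.mul_assoc, Units.inv_mul, Matrix.one_mul, Matrix.mul_smul, Matrix.smul_mul, Matrix.mul_one] at this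
      rw [Matrix.mul_assoc, Units.inv_mul, Matrix.mul_one] at this
      exact this
    let z : Fin n := ⟨0, by omega⟩
    refine ⟨((u ^ Nat.card M : GL (Fin n) (fixedField ρ)) : Matrix (Fin n) (Fin n) (fixedField ρ)) z z,
      Matrix.map_injective (fixedField ρ).subtype.injective ?_⟩
    beta_reduce
    have hz := congrFun (congrFun e' z) z
    simp only [map_apply, Matrix.smul_apply, Matrix.one_apply_eq, smul_eq_mul, mul_one] at hz
    rw [e']
    ext i j
    rcases eq_or_ne i j with rfl | hij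
    · simp only [Matrix.smul_apply, Matrix.one_apply_eq, smul_eq_mul, mul_one, map_apply]; exact hz.symm
    · simp [hij]
  have hnorm : ∀ k ∈ specialIso D.B, ∀ u ∈ M₀, k * u * k⁻¹ ∈ M₀ := by
    intro k hk u hu
    obtain ⟨hu', huM⟩ := hM₀ u hu
    let k' : specialIso D.B := ⟨k, hk⟩
    let u' : specialIso D.B := ⟨u, hu'⟩
    refine Subgroup.mem_map.2 ⟨k' * u' * k'⁻¹, ?_, by simp only [Subgroup.coe_subtype, Subgroup.coe_mul, Subgroup.coe_inv, k', u']⟩
    show f (k' * u' * k'⁻¹) ∈ M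
    rw [map_mul, map_mul, map_inv]
    exact hn' _ (hfR _) _ huM
  rw [eq_bot_iff]
  intro z hz
  obtain ⟨s, hs, rfl⟩ := mem_liftInn.1 (hM hz)
  obtain ⟨X, hX, hsX⟩ := exists_specialIso_of_fixed hρ D hs
  have hΦs : Φ ⟨X, hX⟩ = s := Subtype.ext (Subtype.ext ((hΦ ⟨X, hX⟩).1.trans hsX.symm))
  have hX0 : X ∈ M₀ := ⟨⟨X, hX⟩, show f _ ∈ M by
    show MulAut.conj (psuMk (Φ ⟨X, hX⟩)) ∈ M
    rw [hΦs]; exact hz, rfl⟩
  obtain ⟨c, hc⟩ : ∃ c : (fixedField ρ), (X : Matrix (Fin n) (Fin n) (fixedField ρ)) = c • 1 := by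
    rcases D.hsym with hB | hB
    · refine CfsgLib.OddNormal.exists_scalar_isoBil h20 hB (GeneralLinearGroup.det_ne_zero D.B)
        (by rw [Fintype.card_fin]; exact hn) M₀ (fun k hk => (hM₀ k hk).1.1) (fun k hk hd u hu => ?_) hodd hpow hX0
      exact hnorm k (CfsgLib.PSLAut.mem_specialIso.2 ⟨hk, hd⟩) u hu
    · have halt := (CfsgLib.Forms.isAltMat_of_skew h20 hB).form_self
      let MS : Subgroup (Matrix.SpecialLinearGroup (Fin n) (fixedField ρ)) := M₀.comap Matrix.SpecialLinearGroup.toGL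
      let Xs : Matrix.SpecialLinearGroup (Fin n) (fixedField ρ) := ⟨X, (CfsgLib.PSLAut.mem_specialIso.1 hX).2⟩
      have hXs : (Matrix.SpecialLinearGroup.toGL Xs : GL (Fin n) (fixedField ρ)) = X := Units.ext rfl
      refine CfsgLib.OddNormalAlt.exists_scalar_alt h20 halt (GeneralLinearGroup.det_ne_zero D.B) (by omega) MS
        (fun v c u hu => by
          show Matrix.SpecialLinearGroup.toGL (_ * u * _) ∈ M₀
          rw [map_mul, map_mul, map_inv]
          refine hnorm _ (CfsgLib.PSLAut.mem_specialIso.2 ⟨(CfsgLib.Forms.form_eq_iff _ _).1 fun a b => ?_,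
            CfsgLib.SemiCommute.det_altT halt v c⟩) _ hu
          rw [← CfsgLib.Forms.mulVec_form]; exact CfsgLib.SemiCommute.altT_form halt v c a b)
        hodd (fun u hu => by
          obtain ⟨d, hd⟩ := hpow _ hu
          exact ⟨d, by rw [← hd, ← map_pow]; rfl⟩)
        (m := Xs) (show Matrix.SpecialLinearGroup.toGL Xs ∈ M₀ by rw [hXs]; exact hX0)
  refine Subgroup.mem_bot.2 ?_
  show MulAut.conj (psuMk s) = 1
  rw [← map_one (MulAut.conj : PSUn →* MulAut PSUn), ← map_one (psuMk : SUn →* PSUn)]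
  refine congrArg _ (psuMk_eq_of_scalar hF hρ (c := ((fixedField ρ).subtype c)) fun y => ?_).symm
  rw [act_one]
  show (s.1 : Mn) *ᵥ y = _
  have hm : (1 : Matrix (Fin n) (Fin n) (fixedField ρ)).map (fixedField ρ).subtype = (1 : Mn) := Matrix.map_one _ (map_zero _) (map_one _)
  rw [hsX, trans_val, hc, show (c • (1 : Matrix (Fin n) (Fin n) (fixedField ρ))).map (fixedField ρ).subtype =
    (fixedField ρ).subtype c • (1 : Mn) by rw [← hm]; ext i j; rcases eq_or_ne i j with rfl | hij <;> simp [*], Matrix.mul_smul, Matrix.smul_mul, Matrix.mul_one,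
    Units.mul_inv, smul_mulVec, one_mulVec]

end CfsgLib.PSUAut
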