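/-
Field automorphisms of PSU of odd prime order: the core of their centralisers.
-/
import Cfsg.Agent.Lib.KnownSimple.PSUAut.Balance
import Cfsg.Agent.Lib.Classical.UnitaryPSU

set_option autoImplicit false

namespace CfsgLib.PSUAut

open Matrix CfsgLib.Transvec CfsgLib.Transvec.Unitary
open CfsgLib.UnitarySpec (sigma_sigma sigma_ne psuMk)
open CfsgLib.PSLAut (fixedField fixedUnits)
open CfsgLib.Classical (guDet)

variable {F : Type*} [Field F] {n q : ℕ}

local notation "SUn" => (Cfsg.SU n F q)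
local notation "GUn" => (Cfsg.GU n F q)
local notation "PSUn" => Cfsg.PSU n F q
local notation "Mn" => Matrix (Fin n) (Fin n) F

variable [Fintype F] (hF : Fintype.card F = q ^ 2) {ρ : F ≃+* F} (hρ : ∀ a, ρ a = a ^ q)
variable {σ : F ≃+* F} {r q₀ : ℕ} (hσ : orderOf σ = r) (hro : Odd r)
  (h0 : Nat.card (fixedField σ) = q₀ ^ 2) (hq₀ : q = q₀ ^ r)

include hF in
lemma card_normOne : Nat.card (normOne F q) = q + 1 := by
  classical
  rw [← CfsgLib.Classical.card_norm_one (F := F) hF]
  refine Nat.card_congr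
    { toFun := fun x => ⟨((x : Fˣ) : F), mem_normOne_iff.1 x.2⟩
      invFun := fun y => ⟨Units.mk0 y.1 ?_, ?_⟩
      left_inv := fun x => Subtype.ext (Units.ext rfl)
      right_inv := fun y => Subtype.ext rfl }
  · intro e
    have h1 := y.2
    rw [e, zero_pow (by omega)] at h1
    exact zero_ne_one h1
  · exact mem_normOne_iff.2 y.2

include h0 in
lemma card_fix [Fintype (fixedField σ)] : Fintype.card (fixedField σ) = q₀ ^ 2 := by
  rw [← Nat.card_eq_fintype_card, h0]

omit [Fintype F] in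
lemma toGU_mem (s : SUn) : Matrix.SpecialLinearGroup.toGL s.1 ∈ GUn := fun u v => s.2 u v

include hρ hro h0 hq₀ in
/-- The unitary group over the fixed field. -/
lemma exists_subSU :
    ∃ θ : Cfsg.SU n (fixedField σ) q₀ →* SUn,
      (∀ u, ((θ u).1 : Mn) = (u.1 : Matrix (Fin n) (Fin n) (fixedField σ)).map (fixedField σ).subtype) ∧
      (∀ u, fieldSU σ (θ u) = θ u) ∧ ∀ s, fieldSU σ s = s → ∃ u, θ u = s := by
  classical
  letI : Fintype (fixedField σ) := Fintype.ofFinite _
  obtain ⟨ρ₀, hρ₀, hρ₀'⟩ := exists_frob_fixed hρ hro h0 hq₀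
  have hmap : ∀ X : Matrix (Fin n) (Fin n) (fixedField σ),
      (X.map (fixedField σ).subtype)ᵀ * (X.map (fixedField σ).subtype).map ρ =
        (Xᵀ * X.map ρ₀).map (fixedField σ).subtype := fun X => by
    rw [Matrix.map_mul, transpose_map]
    congr 1
    ext i j
    exact (hρ₀' _).symm
  have hmem : ∀ u : Cfsg.SU n (fixedField σ) q₀,
      ∀ v w, Cfsg.hermForm n F q (Cfsg.slToMat n F (Matrix.SpecialLinearGroup.map (fixedField σ).subtype u.1) *ᵥ v)
        (Cfsg.slToMat n F (Matrix.SpecialLinearGroup.map (fixedField σ).subtype u.1) *ᵥ w) = Cfsg.hermForm n F q v w := by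
    intro u
    refine (mem_GU_iff_mul hρ (Matrix.SpecialLinearGroup.toGL (Matrix.SpecialLinearGroup.map (fixedField σ).subtype u.1))).2 ?_
    show ((u.1 : Matrix (Fin n) (Fin n) (fixedField σ)).map (fixedField σ).subtype)ᵀ *
      ((u.1 : Matrix (Fin n) (Fin n) (fixedField σ)).map (fixedField σ).subtype).map ρ = 1
    have h1 := (mem_GU_iff_mul hρ₀ (Matrix.SpecialLinearGroup.toGL u.1)).1 (toGU_mem u)
    rw [hmap, show (u.1 : Matrix (Fin n) (Fin n) (fixedField σ))ᵀ * (u.1 : Matrix (Fin n) (Fin n) (fixedField σ)).map ρ₀ = 1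
      from h1, Matrix.map_one _ (map_zero _) (map_one _)]
  let θ : Cfsg.SU n (fixedField σ) q₀ →* SUn :=
    MonoidHom.mk' (fun u => ⟨Matrix.SpecialLinearGroup.map (fixedField σ).subtype u.1, hmem u⟩)
      fun a b => Subtype.ext (by show Matrix.SpecialLinearGroup.map _ (a.1 * b.1) = _; rw [map_mul]; rfl)
  refine ⟨θ, fun u => rfl, fun u => Subtype.ext (Subtype.ext (Matrix.ext fun i j =>
    ((u.1 : Matrix (Fin n) (Fin n) (fixedField σ)) i j).2)), fun s hs => ?_⟩
  let X : Matrix (Fin n) (Fin n) (fixedField σ) :=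
    Matrix.of fun i j => ⟨(s.1 : Mn) i j, congrArg (fun t : SUn => (t.1 : Mn) i j) hs⟩
  have hX : X.map (fixedField σ).subtype = (s.1 : Mn) := rfl
  have hd : X.det = 1 := (fixedField σ).subtype.injective (by
    rw [RingHom.map_det, map_one]
    show (X.map (fixedField σ).subtype).det = 1
    rw [hX]; exact s.1.2)
  have hGU : Matrix.SpecialLinearGroup.toGL (⟨X, hd⟩ : Matrix.SpecialLinearGroup (Fin n) (fixedField σ)) ∈
      Cfsg.GU n (fixedField σ) q₀ := by
    refine (mem_GU_iff_mul hρ₀ _).2 (Matrix.map_injective (fixedField σ).subtype.injective ?_)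
    show (Xᵀ * X.map ρ₀).map (fixedField σ).subtype = (1 : Matrix (Fin n) (Fin n) (fixedField σ)).map (fixedField σ).subtype
    rw [← hmap, hX, Matrix.map_one _ (map_zero _) (map_one _)]
    exact (mem_GU_iff_mul hρ _).1 (toGU_mem s)
  exact ⟨⟨⟨X, hd⟩, fun u v => hGU u v⟩, Subtype.ext (Subtype.ext hX)⟩

set_option maxHeartbeats 1000000 in
include hF hρ hro h0 hq₀ in
/-- The centraliser of the fixed subgroup of a field automorphism. -/
lemma mem_zpowers_field (hn : 3 ≤ n) (h32 : ¬(n = 3 ∧ q = 2)) (n' : MulAut PSUn)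
    (h : ∀ z ∈ liftInn (fieldSU (n := n) (q := q) σ), Commute n' z) :
    n' ∈ Subgroup.zpowers (fieldPSU σ : MulAut PSUn) := by
  classical
  letI : Fintype (fixedField σ) := Fintype.ofFinite _
  obtain ⟨a, τ, ha, hind⟩ := aut_classification hF hρ hn h32 n'
  obtain rfl := eq_of_isInduced (g := ⟨a, ha⟩) hind
  have hK := eq_one_of_conj_eq_one hF hρ hn
  obtain ⟨θ, hθ, hθfix, -⟩ := exists_subSU (n := n) hρ hro h0 hq₀
  obtain ⟨ρ₀, hρ₀, -⟩ := exists_frob_fixed hρ hro h0 hq₀
  have hE := card_fix h0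
  haveI : Nonempty (Fin n) := ⟨⟨0, by omega⟩⟩
  let S : Set (Matrix (Fin n) (Fin n) (fixedField σ)) := {X | ∃ (u : Cfsg.SU n (fixedField σ) q₀) (v : Fin n → fixedField σ),
    (u.1 : Matrix (Fin n) (Fin n) (fixedField σ)) = X ∧ (X - 1) ^ 3 = 0 ∧ v ≠ 0 ∧ X *ᵥ v = v}
  obtain ⟨⟨c, hc⟩, hτ⟩ := scalar_of_descent σ (by omega) (a : Mn) a.ne_zero τ S (by
    rintro _ ⟨u, v, rfl, hX3, hv, hXv⟩
    rw [← hθ]
    refine lift_fix hF hρ hn (fix_of_liftInn hK _ _ h (θ u) (hθfix u)) ?_ (v := (fixedField σ).subtype ∘ v) ?_ ?_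
    · rw [hθ]
      have := congrArg (fun N : Matrix (Fin n) (Fin n) (fixedField σ) => (fixedField σ).subtype.mapMatrix N) hX3
      simp only [map_pow, map_sub, map_one, map_zero] at this
      exact this
    · exact fun h0' => hv (funext fun i => Subtype.ext (congrFun h0' i))
    · rw [hθ]
      funext i
      rw [← RingHom.map_mulVec, hXv]
      rfl) fun τ₀ T hadd hsmul hT => by
    refine scalar_of_commute_tSU' hE hρ₀ hn τ₀ T hadd hsmul fun v hv t ht y => ?_
    obtain ⟨b, -, hb⟩ := (mem_tSU_iff hE hρ₀ hv t).1 ht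
    refine hT _ ⟨t, v, rfl, ?_, hv.1, ?_⟩ y
    · refine Matrix.ext_of_mulVec_single fun i => ?_
      rw [zero_mulVec, pow_succ', pow_succ', pow_one, ← mulVec_mulVec, ← mulVec_mulVec]
      generalize (Pi.single i 1 : Fin n → fixedField σ) = z
      have hz : ∀ z, ((t.1 : Matrix (Fin n) (Fin n) (fixedField σ)) - 1) *ᵥ z =
          (b * Cfsg.hermForm n (fixedField σ) q₀ z v) • v := fun z => by
        rw [sub_mulVec, one_mulVec]
        show act t z - z = _
        rw [hb, add_sub_cancel_left]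
      simp only [hz, hsmul_left hE hρ₀, hv.2, mul_zero, zero_smul]
      simp [Cfsg.hermForm]
    · show act t v = v
      rw [hb, hv.2, mul_zero, zero_smul, add_zero]
  obtain ⟨j, rfl⟩ := hτ
  rw [conjPSU_eq_one_of_scalar (g := (⟨a, ha⟩ : GUn)) hc, one_mul]
  exact ⟨j, (map_zpow fieldHomPSU σ j).symm⟩

omit [Fintype F] in
/-- A group of unitary isometries normalised by all others and fixing an isotropic vector fixes all isotropic vectors. -/
lemma fix_isotropic [Fintype F] (hF : Fintype.card F = q ^ 2) (hρ : ∀ a, ρ a = a ^ q) (hn : 3 ≤ n)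
    (P : Subgroup SUn) [P.Normal] {x : Fin n → F} (hx : Isot q x) (hfix : ∀ g ∈ P, act g x = x) (v : Fin n → F)
    (hv : Isot q v) : ∀ g ∈ P, act g v = v := by
  obtain ⟨c, hc0, hc⟩ := exists_skew (sigma_ne hF hρ) (sigma_sigma hF hρ)
  have key : ∀ z w, (∀ g ∈ P, act g z = z) → Isot q w → Cfsg.hermForm n F q z w ≠ 0 → ∀ g ∈ P, act g w = w := by
    intro z w hz hw hzw g hg
    obtain ⟨t, ht⟩ := exists_tSU hF hρ hw hc
    have h1 : act g (act t z) = act t z := by
      have h2 := hz _ (‹P.Normal›.conj_mem g hg t⁻¹)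
      rw [inv_inv, act_mul, act_mul] at h2
      have h3 := congrArg (act t) h2
      rwa [act_apply_inv] at h3
    rw [ht, act_add, hz g hg, act_smul, add_right_inj] at h1
    exact smul_right_injective (Fin n → F) (mul_ne_zero hc0 hzw) h1
  by_cases hxv : Cfsg.hermForm n F q x v = 0
  swap
  · exact key x v hfix hv hxv
  obtain ⟨y, hy⟩ := exists_partner hF hρ hx.1
  obtain ⟨t, ht⟩ := exists_trace_eq (sigma_ne hF hρ) (sigma_sigma hF hρ) (b := -(Cfsg.hermForm n F q y y))
    (by rw [map_neg, hself hF hρ])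
  have hxy : Cfsg.hermForm n F q x y = 1 := by rw [hconj hF hρ y x, hy, map_one]
  set z := y + t • x with hz
  have hzx : Cfsg.hermForm n F q z x = 1 := by rw [hz, hadd_left hF hρ, hsmul_left hF hρ, hy, hx.2, mul_zero, add_zero]
  have hzI : Isot q z := ⟨fun h0 => one_ne_zero (α := F) (by rw [← hzx, h0, hzero_left hF hρ]), by
    rw [hz, hadd_left hF hρ, hadd_right hF hρ, hadd_right hF hρ, hsmul_left hF hρ, hsmul_left hF hρ,
      hsmul_right hF hρ, hsmul_right hF hρ, hy, hxy, hx.2]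
    linear_combination ht⟩
  have hxz : Cfsg.hermForm n F q x z = 1 := by rw [hconj hF hρ z x, hzx, map_one]
  have hzfix := key x z hfix hzI (by rw [hxz]; exact one_ne_zero)
  by_cases hzv : Cfsg.hermForm n F q z v = 0
  swap
  · exact key z v hzfix hv hzv
  have hxvI : Isot q (x + v) := ⟨fun h0 => one_ne_zero (α := F) (by
      have h1 : Cfsg.hermForm n F q (x + v) z = 0 := by rw [h0, hzero_left hF hρ]
      rw [hadd_left hF hρ, hxz, (hcomm hF hρ z v).1 hzv, add_zero] at h1
      exact h1), by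
    rw [hadd_left hF hρ, hadd_right hF hρ, hadd_right hF hρ, hx.2, hv.2, hxv, (hcomm hF hρ x v).1 hxv]
    simp⟩
  intro g hg
  have h1 := key z (x + v) hzfix hxvI (by rw [hadd_right hF hρ, hzx, hzv, add_zero]; exact one_ne_zero) g hg
  rw [act_add, hfix g hg, add_right_inj] at h1
  exact h1

set_option maxHeartbeats 1000000 in
omit [Fintype F] in
/-- A normal subgroup of `SU₃(2)` whose image in `PSU₃(2)` has order prime to three is central. -/
lemma le_center_of_coprime_three [Fintype F] (hF : Fintype.card F = 2 ^ 2) (M₁ : Subgroup (Cfsg.SU 3 F 2)) [M₁.Normal]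
    (hcop : (Nat.card (M₁.map (QuotientGroup.mk' (Subgroup.center (Cfsg.SU 3 F 2))))).Coprime 3) :
    M₁ ≤ Subgroup.center (Cfsg.SU 3 F 2) := by
  classical
  haveI : Fact (Nat.Prime 2) := ⟨Nat.prime_two⟩
  haveI : CharP F 2 := by
    obtain ⟨p, hp⟩ := CharP.exists F
    obtain ⟨k, hk, hk'⟩ := FiniteField.card F p
    rw [hF] at hk'
    obtain rfl : p = 2 := (Nat.prime_dvd_prime_iff_eq hk Nat.prime_two).1
      (hk.dvd_of_dvd_pow (hk' ▸ dvd_pow_self p k.ne_zero : p ∣ 2 ^ 2))
    exact hp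
  obtain ⟨ρ', hρ', -, -⟩ := exists_frob (F := F) (q := 2) hF
  set Z := Subgroup.center (Cfsg.SU 3 F 2)
  set π := QuotientGroup.mk' Z
  have hquot : ∃ k, Nat.card (M₁.map π) = 2 ^ k := by
    have h72 : Nat.card (M₁.map π) ∣ 2 ^ 3 * 3 ^ 2 := by
      have h := CfsgLib.Classical.card_su (n := 3) (q := 2) (F := F) hF (by norm_num)
      rw [Subgroup.card_eq_card_quotient_mul_card_subgroup Z, CfsgLib.Classical.card_center_su hF (by norm_num),
        show CfsgLib.Classical.unitaryOrder 2 3 = 648 by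
          simp [CfsgLib.Classical.unitaryOrder, Finset.prod_range_succ, Nat.even_iff],
        show Nat.gcd 3 (2 + 1) = 3 by rfl] at h
      change (2 + 1) * (Nat.card (Cfsg.PSU 3 F 2) * 3) = 648 at h
      have h2 : Nat.card (Cfsg.PSU 3 F 2) = 72 := by omega
      exact (Subgroup.card_subgroup_dvd_card _).trans (dvd_of_eq h2)
    have h8 := (hcop.pow_right 2).dvd_of_dvd_mul_right h72
    obtain ⟨k, -, hk⟩ := (Nat.dvd_prime_pow Nat.prime_two).1 h8
    exact ⟨k, hk⟩
  obtain ⟨k, hk⟩ := hquot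
  obtain ⟨P⟩ : Nonempty (Sylow 2 M₁) := inferInstance
  let P₀ : Subgroup (Cfsg.SU 3 F 2) := (P : Subgroup M₁).map M₁.subtype
  have hcard : Nat.card M₁ = Nat.card (M₁.map π) * Nat.card (π.comp M₁.subtype).ker := by
    rw [Subgroup.card_eq_card_quotient_mul_card_subgroup (π.comp M₁.subtype).ker,
      Nat.card_congr (QuotientGroup.quotientKerEquivRange _).toEquiv, MonoidHom.range_comp, Subgroup.range_subtype]
  have hkerZ : ∀ z : M₁, z ∈ (π.comp M₁.subtype).ker → (z : Cfsg.SU 3 F 2) ∈ Z := fun z hz =>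
    (QuotientGroup.eq_one_iff _).1 (MonoidHom.mem_ker.1 hz)
  haveI hPn : (P : Subgroup M₁).Normal := by
    have hsup : ((P : Subgroup M₁) ⊔ (π.comp M₁.subtype).ker) = ⊤ := by
      refine Subgroup.index_eq_one.1 ?_
      have h1 : ((P : Subgroup M₁) ⊔ (π.comp M₁.subtype).ker).index ∣ (P : Subgroup M₁).index :=
        Subgroup.index_dvd_of_le le_sup_left
      have h2 : ((P : Subgroup M₁) ⊔ (π.comp M₁.subtype).ker).index ∣ 2 ^ k := by
        refine (Subgroup.index_dvd_of_le (le_sup_right)).trans (dvd_of_eq ?_)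
        rw [Subgroup.index_ker, MonoidHom.range_comp, Subgroup.range_subtype, hk]
      exact Nat.eq_one_of_dvd_coprimes (Nat.Coprime.pow_left k ((Nat.prime_two.coprime_iff_not_dvd).2 P.not_dvd_index)) h2 h1
    rw [← Subgroup.normalizer_eq_top_iff, eq_top_iff, ← hsup]
    refine sup_le Subgroup.le_normalizer fun z hz => ?_
    rw [Subgroup.mem_normalizer_iff]
    intro x
    have hc : z * x = x * z := Subtype.ext (Subgroup.mem_center_iff.1 (hkerZ z hz) (x : Cfsg.SU 3 F 2)).symm
    rw [hc, mul_inv_cancel_right]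
  haveI hP0 : P₀.Normal := by
    haveI := Sylow.characteristic_of_normal P hPn
    exact ConjAct.normal_of_characteristic_of_normal
  obtain ⟨x, hx, hxfix⟩ := exists_iso_fixed (p := 2) hF hρ' (by norm_num : 2 ≤ 3) (P := P₀) (P.2.map M₁.subtype)
  have hall : ∀ g ∈ P₀, g ∈ Z := by
    intro g hg
    obtain ⟨b, hb⟩ := exists_scalar_of_eigen hF hρ' le_rfl (M := (g.1 : Matrix (Fin 3) (Fin 3) F)) g.2 fun v hv =>
      ⟨1, by rw [one_smul]; exact fix_isotropic hF hρ' le_rfl P₀ hx hxfix v hv g hg⟩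
    refine Subgroup.mem_center_iff.2 fun t => act_ext fun y => ?_
    rw [act_mul, act_mul]
    show act t ((g.1 : Matrix (Fin 3) (Fin 3) F) *ᵥ y) = (g.1 : Matrix (Fin 3) (Fin 3) F) *ᵥ act t y
    rw [hb, hb, act_smul]
  intro g hg
  have hsup : ((P : Subgroup M₁) ⊔ (π.comp M₁.subtype).ker) ≤ Z.comap M₁.subtype :=
    sup_le (fun y hy => hall _ ⟨y, hy, rfl⟩) hkerZ
  have htop : ((P : Subgroup M₁) ⊔ (π.comp M₁.subtype).ker) = ⊤ := by
    refine Subgroup.index_eq_one.1 ?_
    have h2 : ((P : Subgroup M₁) ⊔ (π.comp M₁.subtype).ker).index ∣ 2 ^ k := by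
      refine (Subgroup.index_dvd_of_le (le_sup_right)).trans (dvd_of_eq ?_)
      rw [Subgroup.index_ker, MonoidHom.range_comp, Subgroup.range_subtype, hk]
    exact Nat.eq_one_of_dvd_coprimes (Nat.Coprime.pow_left k ((Nat.prime_two.coprime_iff_not_dvd).2 P.not_dvd_index)) h2
      (Subgroup.index_dvd_of_le le_sup_left)
  exact hsup (htop.ge (Subgroup.mem_top (⟨g, hg⟩ : M₁)))

include hF hρ hσ hro h0 hq₀ in
/-- A prime dividing the centraliser divides the subfield group. -/
lemma dvd_card_liftInn (hn : 3 ≤ n) {p : ℕ} [Fact p.Prime] (hp2 : p ≠ 2)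
    (hp : p ∣ Nat.card ↥(Cfsg.Inn PSUn ⊓ Subgroup.centralizer {(fieldPSU σ : MulAut PSUn)})) :
    p ∣ Nat.card (liftInn (fieldSU (n := n) (q := q) σ)) := by
  classical
  have hprime := (Fact.out : p.Prime)
  letI : Fintype (fixedField σ) := Fintype.ofFinite _
  have hE := card_fix h0
  obtain ⟨θ, hθ, hθfix, -⟩ := exists_subSU (n := n) hρ hro h0 hq₀
  obtain ⟨ρ₀, hρ₀, -⟩ := exists_frob_fixed hρ hro h0 hq₀
  have hK := eq_one_of_conj_eq_one (n := n) hF hρ hn
  let f : Cfsg.SU n (fixedField σ) q₀ →* MulAut PSUn := MulAut.conj.comp (psuMk.comp θ)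
  have hfR : ∀ u, f u ∈ liftInn (fieldSU (n := n) (q := q) σ) := fun u => mem_liftInn.2 ⟨θ u, hθfix u, rfl⟩
  have hscal : ∀ u, f u = 1 → ∃ c : fixedField σ, (u.1 : Matrix (Fin n) (Fin n) (fixedField σ)) = c • 1 := by
    intro u hu
    obtain ⟨c, hc⟩ := exists_scalar hF hρ (by omega : 2 ≤ n) (g := (1 : SUn)) (g' := θ u)
      (by rw [map_one]; exact (hK _ hu).symm)
    let z : Fin n := ⟨0, by omega⟩
    have e : ((θ u).1 : Mn) = c • 1 := Matrix.ext_of_mulVec_single fun i => by
      rw [smul_mulVec, one_mulVec]; exact (hc _).trans (by rw [act_one])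
    rw [hθ] at e
    refine ⟨(u.1 : Matrix (Fin n) (Fin n) (fixedField σ)) z z, Matrix.ext fun i j => Subtype.ext ?_⟩
    have hij := congrFun (congrFun e i) j
    have hzz := congrFun (congrFun e z) z
    simp only [map_apply, Matrix.smul_apply, Matrix.one_apply, smul_eq_mul, mul_ite, mul_one, mul_zero, if_true,
      Subfield.coe_subtype] at hij hzz
    rw [hij, Matrix.smul_apply, Matrix.one_apply, smul_eq_mul, Subfield.coe_mul, hzz]
    split_ifs <;> simp
  obtain ⟨e⟩ := centralizer_fieldPSU_equiv (n := n) hF hρ hσ hro h0 hq₀ hn (fixedField σ) (RingEquiv.refl _)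
  have hGU : p ∣ Nat.card (Cfsg.GU n (fixedField σ) q₀) := by
    refine hp.trans ((Subgroup.card_dvd_of_le (inf_le_inf_right _ inn_le_range_conjPSU)).trans ?_)
    rw [Nat.card_congr e.toEquiv]
    exact Subgroup.card_quotient_dvd_card _
  by_cases hq : p ∣ q₀ + 1
  · obtain ⟨a, ha⟩ := exists_prime_orderOf_dvd_card' p (G := normOne (fixedField σ) q₀) (by
      rw [card_normOne hE]; exact hq)
    have hap : ∀ m, ((a : (fixedField σ)ˣ) : fixedField σ) ^ m = 1 → p ∣ m := fun m hm => by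
      rw [← ha]
      exact orderOf_dvd_of_pow_eq_one (Subtype.ext (Units.ext (by simpa using hm)))
    let i₀ : Fin n := ⟨0, by omega⟩
    let i₁ : Fin n := ⟨1, by omega⟩
    let i₂ : Fin n := ⟨2, by omega⟩
    set b : fixedField σ := ((a : (fixedField σ)ˣ) : fixedField σ) with hb
    let d : Fin n → fixedField σ := fun i => if i = i₀ then b else if i = i₁ then b⁻¹ else 1
    have hb1 : b ^ (q₀ + 1) = 1 := mem_normOne_iff.1 a.2
    have hdet : (Matrix.diagonal d).det = 1 := by
      rw [det_diagonal, Fintype.prod_eq_mul i₀ i₁ (by simp [i₀, i₁]) (fun x hx => by simp [d, hx.1, hx.2])]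
      simp [d, i₀, i₁, hb]
    let u : Cfsg.SU n (fixedField σ) q₀ := ⟨⟨Matrix.diagonal d, hdet⟩, fun v w => by
      show Cfsg.hermForm n (fixedField σ) q₀ (Matrix.diagonal d *ᵥ v) (Matrix.diagonal d *ᵥ w) = _
      simp only [Cfsg.hermForm, mulVec_diagonal, mul_pow]
      refine Finset.sum_congr rfl fun i _ => ?_
      have : d i * d i ^ q₀ = 1 := by
        rw [← pow_succ']
        simp only [d]; split_ifs <;> simp [inv_pow, hb1]
      linear_combination (v i * w i ^ q₀) * this⟩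
    have hup : f u ^ p = 1 := by
      rw [← map_pow, ← map_one f]
      refine congrArg f (Subtype.ext (Subtype.ext ?_))
      show (Matrix.diagonal d) ^ p = (1 : Matrix (Fin n) (Fin n) (fixedField σ))
      rw [diagonal_pow, ← diagonal_one]
      have hbp : b ^ p = 1 := by
        have := congrArg (fun x : normOne (fixedField σ) q₀ => ((x : (fixedField σ)ˣ) : fixedField σ)) (ha ▸ pow_orderOf_eq_one a)
        simpa using this
      congr 1; funext i
      simp only [Pi.pow_apply, d]; split_ifs <;> simp [inv_pow, hbp]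
    have hu1 : f u ≠ 1 := fun h1 => by
      obtain ⟨c, hc⟩ := hscal u h1
      have e0 : b = c := by simpa [u, d] using congrFun (congrFun hc i₀) i₀
      have e2 : (1 : fixedField σ) = c := by simpa [u, d, i₀, i₁, i₂, Fin.ext_iff] using congrFun (congrFun hc i₂) i₂
      exact hprime.one_lt.ne' (Nat.dvd_one.1 (hap 1 (by rw [pow_one, e2, ← e0])))
    rw [← orderOf_eq_prime hup hu1]
    exact Subgroup.orderOf_dvd_natCard _ (hfR u)
  · have hSU : p ∣ Nat.card (Cfsg.SU n (fixedField σ) q₀) := by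
      rw [Subgroup.card_eq_card_quotient_mul_card_subgroup (guDet n (fixedField σ) q₀).ker,
        Nat.card_congr (QuotientGroup.quotientKerEquivRange _).toEquiv, ker_guDet,
        ← Nat.card_congr (MonoidHom.ofInjective (toGU_injective (n := n) (F := fixedField σ) (q := q₀))).toEquiv] at hGU
      refine (hprime.dvd_mul.1 hGU).resolve_left fun h' => hq ?_
      rw [← card_normOne hE]
      refine h'.trans (Subgroup.card_dvd_of_le ?_)
      rintro _ ⟨g, rfl⟩
      refine mem_normOne_iff.2 ?_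
      have h2 := congrArg Matrix.det ((mem_GU_iff_mul hρ₀ _).1 g.2)
      rw [det_mul, det_transpose, show (((g : GL (Fin n) (fixedField σ)) : Matrix (Fin n) (Fin n) (fixedField σ)).map ρ₀).det =
        ρ₀ ((g : GL (Fin n) (fixedField σ)) : Matrix (Fin n) (Fin n) (fixedField σ)).det from
          (RingHom.map_det ρ₀.toRingHom _).symm, hρ₀, ← pow_succ', det_one] at h2
      exact h2
    have hker : ¬ p ∣ Nat.card f.ker := fun h' => by
      obtain ⟨⟨u, hu⟩, huo⟩ := exists_prime_orderOf_dvd_card' p h'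
      obtain ⟨c, hc⟩ := hscal u hu
      have hup : u ^ p = 1 := congrArg Subtype.val (huo ▸ pow_orderOf_eq_one (⟨u, hu⟩ : f.ker))
      let z : Fin n := ⟨0, by omega⟩
      have h1 := congrFun (congrFun (congrArg (fun w : Cfsg.SU n (fixedField σ) q₀ => (w.1 : Matrix (Fin n) (Fin n) (fixedField σ))) hup) z) z
      change ((u.1 : Matrix (Fin n) (Fin n) (fixedField σ)) ^ p) z z = (1 : Matrix (Fin n) (Fin n) (fixedField σ)) z z at h1
      rw [hc, smul_pow, one_pow] at h1
      simp at h1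
      have h2 := u.2 (Pi.single z 1) (Pi.single z 1)
      change Cfsg.hermForm n (fixedField σ) q₀ ((u.1 : Matrix (Fin n) (Fin n) (fixedField σ)) *ᵥ _)
        ((u.1 : Matrix (Fin n) (Fin n) (fixedField σ)) *ᵥ _) = _ at h2
      rw [hc, smul_mulVec, one_mulVec, hsmul_left hE hρ₀, hsmul_right hE hρ₀,
        CfsgLib.Transvec.Unitary.hermForm_basis hρ₀, if_pos rfl, mul_one, hρ₀, ← pow_succ'] at h2
      have hc0 : c ≠ 0 := fun e' => by simp [e'] at h2
      have hc1 : c ≠ 1 := fun e1 => by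
        have hu1 : u = 1 := Subtype.ext (Subtype.ext (by rw [hc, e1, one_smul]; rfl))
        simp [hu1] at huo
        exact hprime.one_lt.ne huo
      refine hq ?_
      rw [← orderOf_eq_prime (p := p) (x := Units.mk0 c hc0) (Units.ext (by simpa using h1)) fun e1 => hc1 (by simpa using congrArg Units.val e1)]
      exact orderOf_dvd_of_pow_eq_one (Units.ext (by simpa using h2))
    rw [Subgroup.card_eq_card_quotient_mul_card_subgroup f.ker,
      Nat.card_congr (QuotientGroup.quotientKerEquivRange f).toEquiv] at hSU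
    exact ((hprime.dvd_mul.1 hSU).resolve_right hker).trans
      (Subgroup.card_dvd_of_le (fun z hz => by obtain ⟨u, rfl⟩ := hz; exact hfR u))

include hF hρ hσ hro h0 hq₀ in
/-- The balance criterion for a field automorphism of odd prime order. -/
theorem core_fieldPSU_eq_bot (hn : 3 ≤ n) (h32 : ¬(n = 3 ∧ q = 2)) {c : ℕ} [Fact c.Prime] [CharP F c]
    {p : ℕ} [Fact p.Prime] (hp2 : p ≠ 2) (hpc : p ≠ c) (hrp : r = p)
    (A : Subgroup (MulAut PSUn)) (hA : Cfsg.Inn PSUn ≤ A)
    (hdvd : p ∣ Nat.card ↥(Cfsg.Inn PSUn ⊓ Subgroup.centralizer {(fieldPSU σ : MulAut PSUn)})) :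
    Cfsg.pPrimeCore p ↥(A ⊓ Subgroup.centralizer {(fieldPSU σ : MulAut PSUn)}) = ⊥ := by
  classical
  haveI : Finite (MulAut PSUn) := Finite.of_injective (fun b : MulAut PSUn => (b : PSUn → PSUn)) DFunLike.coe_injective
  letI : Fintype (fixedField σ) := Fintype.ofFinite _
  have hK := eq_one_of_conj_eq_one (n := n) hF hρ hn
  have hE := card_fix h0
  have hβ := fieldPSU_eq_descend (n := n) (q := q) σ
  obtain ⟨θ, hθ, hθfix, hθsurj⟩ := exists_subSU (n := n) hρ hro h0 hq₀
  obtain ⟨ρ₀, hρ₀, -⟩ := exists_frob_fixed hρ hro h0 hq₀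
  refine CfsgLib.Balance.core_eq_bot_of_normalized A _ hA _ p
    (by rw [← fieldHomPSU_apply, ← map_pow, ← hrp, ← hσ, pow_orderOf_eq_one, map_one]) (liftInn (fieldSU (n := n) (q := q) σ))
    ((liftInn_le _).trans inf_le_left) (hβ ▸ (liftInn_le _).trans inf_le_right) (fun M hM hn' hcop => ?_)
    (hβ ▸ normalizes_liftInn hK _) fun n' _ hr => mem_zpowers_field hF hρ hro h0 hq₀ hn h32 n' hr
  let f : Cfsg.SU n (fixedField σ) q₀ →* MulAut PSUn := MulAut.conj.comp (psuMk.comp θ)
  have hfR : ∀ u, f u ∈ liftInn (fieldSU (n := n) (q := q) σ) := fun u => mem_liftInn.2 ⟨θ u, hθfix u, rfl⟩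
  have hMf : M ≤ f.range := fun z hz => by
    obtain ⟨s, hs, rfl⟩ := mem_liftInn.1 (hM hz)
    obtain ⟨u, rfl⟩ := hθsurj s hs
    exact ⟨u, rfl⟩
  set M₁ := M.comap f
  haveI : M₁.Normal := ⟨fun u hu g => by
    show f (g * u * g⁻¹) ∈ M
    rw [map_mul, map_mul, map_inv]
    exact hn' _ (hfR g) _ hu⟩
  set Z := Subgroup.center (Cfsg.SU n (fixedField σ) q₀)
  have hfZ : ∀ z ∈ Z, f z = 1 := by
    intro z hz
    have hzc := CfsgLib.Classical.eq_scalar_of_commute hE (by omega : 2 ≤ n) (z.1 : Matrix (Fin n) (Fin n) (fixedField σ))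
      fun s => congrArg (fun x : Cfsg.SU n (fixedField σ) q₀ => (x.1 : Matrix (Fin n) (Fin n) (fixedField σ)))
        (Subgroup.mem_center_iff.1 hz s)
    show MulAut.conj (psuMk (θ z)) = 1
    rw [← map_one (MulAut.conj : PSUn →* MulAut PSUn), ← map_one (psuMk : SUn →* PSUn)]
    refine congrArg _ (psuMk_eq_of_scalar hF hρ
      (c := ((z.1 : Matrix (Fin n) (Fin n) (fixedField σ)) ⟨0, by omega⟩ ⟨0, by omega⟩ : fixedField σ).1) fun y => ?_).symm
    rw [act_one]
    show ((θ z).1 : Mn) *ᵥ y = _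
    rw [hθ]
    conv_lhs => rw [hzc]
    funext i
    simp [scalar_apply, mulVec_diagonal]
  have hbot : M₁ ≤ Z → M = ⊥ := fun hle => by
    rw [eq_bot_iff]
    intro z hz
    obtain ⟨u, rfl⟩ := hMf hz
    exact Subgroup.mem_bot.2 (hfZ u (hle hz))
  have hdiv := dvd_card_liftInn hF hρ hσ hro h0 hq₀ hn hp2 hdvd
  by_cases hsmall : n = 3 ∧ q₀ = 2
  · obtain ⟨rfl, rfl⟩ := hsmall
    refine hbot (le_center_of_coprime_three hE M₁ ?_)
    have hp3 : p = 3 := by
      have hR : Nat.card (liftInn (fieldSU (n := 3) (q := q) σ)) ∣ 648 := by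
        rw [← show CfsgLib.Classical.unitaryOrder 2 3 = 648 by
          simp [CfsgLib.Classical.unitaryOrder, Finset.prod_range_succ, Nat.even_iff],
          ← CfsgLib.Classical.card_su (n := 3) (q := 2) (F := fixedField σ) hE (by norm_num)]
        refine dvd_mul_of_dvd_right ((Subgroup.card_dvd_of_le ?_).trans (Subgroup.card_range_dvd f)) _
        intro z hz
        obtain ⟨s, hs, rfl⟩ := mem_liftInn.1 hz
        obtain ⟨u, rfl⟩ := hθsurj s hs
        exact ⟨u, rfl⟩
      have h := hdiv.trans hR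
      have hprime := (Fact.out : p.Prime)
      rcases hprime.dvd_mul.1 (show p ∣ 2 ^ 3 * 3 ^ 4 from h) with h' | h'
      · exact absurd ((Nat.prime_dvd_prime_iff_eq hprime Nat.prime_two).1 (hprime.dvd_of_dvd_pow h')) hp2
      · exact (Nat.prime_dvd_prime_iff_eq hprime Nat.prime_three).1 (hprime.dvd_of_dvd_pow h')
    subst hp3
    let ψ : Cfsg.PSU 3 (fixedField σ) 2 →* MulAut (Cfsg.PSU 3 F q) := QuotientGroup.lift Z f hfZ
    have hψ : Function.Injective ψ := (injective_iff_map_eq_one ψ).2 fun x hx => by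
      induction x using QuotientGroup.induction_on with | _ u => ?_
      refine (QuotientGroup.eq_one_iff u).2 (Subgroup.mem_center_iff.2 fun g => ?_)
      have h1 : psuMk (θ u) = 1 := hK _ hx
      have h2 : θ u ∈ Subgroup.center (Cfsg.SU 3 F q) := (QuotientGroup.eq_one_iff _).1 h1
      have h3 := Subgroup.mem_center_iff.1 h2 (θ g)
      refine Subtype.ext (Subtype.ext (Matrix.map_injective (fixedField σ).subtype.injective ?_))
      have h4 := congrArg (fun t : Cfsg.SU 3 F q => (t.1 : Matrix (Fin 3) (Fin 3) F)) h3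
      rw [← map_mul, ← map_mul] at h4
      simp only [hθ] at h4
      exact h4
    have h5 : Nat.card (M₁.map (QuotientGroup.mk' Z)) = Nat.card M := by
      rw [Nat.card_congr ((M₁.map (QuotientGroup.mk' Z)).equivMapOfInjective ψ hψ).toEquiv, Subgroup.map_map,
        show ψ.comp (QuotientGroup.mk' Z) = f from MonoidHom.ext fun _ => rfl, Subgroup.map_comap_eq_self hMf]
    rw [h5]; exact hcop
  · have hsimp : IsSimpleGroup (Cfsg.PSU n (fixedField σ) q₀) :=
      CfsgLib.Classical.Unitary.isSimpleGroup_PSU hE hn hsmall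
    rcases hsimp.eq_bot_or_eq_top_of_normal (M₁.map (QuotientGroup.mk' Z))
      (Subgroup.Normal.map inferInstance _ (QuotientGroup.mk'_surjective _)) with h | h
    · refine hbot fun u hu => ?_
      rw [← QuotientGroup.eq_one_iff, ← Subgroup.mem_bot, ← h]
      exact ⟨u, hu, rfl⟩
    · exfalso
      have hall : liftInn (fieldSU (n := n) (q := q) σ) ≤ M := by
        intro z hz
        obtain ⟨s, hs, rfl⟩ := mem_liftInn.1 hz
        obtain ⟨u, rfl⟩ := hθsurj s hs
        obtain ⟨v, hv, e⟩ : QuotientGroup.mk' Z u ∈ M₁.map (QuotientGroup.mk' Z) := by rw [h]; trivial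
        obtain ⟨w, hw, rfl⟩ := (QuotientGroup.mk'_eq_mk' _).1 e
        show f (v * w) ∈ M
        rw [map_mul, hfZ w hw, mul_one]
        exact hv
      exact (Fact.out : p.Prime).one_lt.ne' (Nat.eq_one_of_dvd_coprimes hcop
        (hdiv.trans (Subgroup.card_dvd_of_le hall)) dvd_rfl)

end CfsgLib.PSUAut
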