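/-
Graph automorphisms of PSU_n of order two: classes and centralisers in terms of rational bilinear forms.
-/
import Cfsg.Agent.Lib.KnownSimple.PSUAut.Balance
import Cfsg.Agent.Lib.KnownSimple.Forms.Congr
import Cfsg.Agent.S0755

set_option autoImplicit false

namespace CfsgLib.PSUAut

open Matrix CfsgLib.Forms
open CfsgLib.UnitarySpec (sigma_sigma sigma_ne psuMk)
open CfsgLib.PSLAut (fixedField)
open CfsgLib.Transvec.Unitary (exists_norm_eq exists_skew)
open CfsgLib.Classical (guDet guDet_range)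

variable {F : Type*} [Field F] {n q : ℕ}

local notation "GUn" => (Cfsg.GU n F q)
local notation "PSUn" => Cfsg.PSU n F q
local notation "Mn" => Matrix (Fin n) (Fin n) F

/-- The automorphism `s ↦ g ρ(s) g⁻¹`. -/
noncomputable def uAut (ρ : F ≃+* F) (g : GUn) : MulAut PSUn := conjPSU g * fieldPSU ρ

/-- `kᵀ ρ(k)`. -/
def herm (ρ : F ≃+* F) (k : Mn) : Mn := kᵀ * k.map ρ

/-- `k` trivialises `g`. -/
def Rep (ρ : F ≃+* F) (g : GUn) (k : GL (Fin n) F) : Prop :=
  ∃ d : F, d ≠ 0 ∧ ((g : GL (Fin n) F) : Mn) * (k : Mn).map ρ = d • (k : Mn)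

variable {K : Type*} [Field K]

/-- `B` is a rational form of `g`. -/
def FormOf (ρ : F ≃+* F) (ι : K →+* F) (g : GUn) (B : Matrix (Fin n) (Fin n) K) : Prop :=
  ∃ k : GL (Fin n) F, Rep ρ g k ∧ ∃ e : F, e ≠ 0 ∧ B.map ι = e • herm ρ (k : Mn)

/-- An embedding onto the fixed field. -/
structure Onto (ρ : F ≃+* F) (ι : K →+* F) : Prop where
  fix : ∀ x, ρ (ι x) = ι x
  surj : ∀ a, ρ a = a → ∃ x, ι x = a

lemma map_smul_mat {R : Type*} [Field R] (f : R →+* F) (a : R) (M : Matrix (Fin n) (Fin n) R) :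
    (a • M).map f = f a • M.map f := by ext i j; simp

lemma rho_smul_mat (ρ : F ≃+* F) (a : F) (M : Mn) : (a • M).map ρ = ρ a • M.map ρ := by ext i j; simp

lemma rho_mul_mat (ρ : F ≃+* F) (M N : Mn) : (M * N).map ρ = M.map ρ * N.map ρ :=
  Matrix.map_mul (f := ρ.toRingHom)

lemma herm_transpose {ρ : F ≃+* F} (hinv : ∀ a, ρ (ρ a) = a) (k : Mn) : (herm ρ k)ᵀ = (herm ρ k).map ρ := by
  rw [herm, transpose_mul, transpose_transpose, rho_mul_mat, transpose_map]
  congr 1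
  ext i j
  exact (hinv _).symm

lemma herm_det_ne_zero (ρ : F ≃+* F) (k : GL (Fin n) F) : (herm ρ (k : Mn)).det ≠ 0 := by
  rw [herm, det_mul, det_transpose]
  refine mul_ne_zero (GeneralLinearGroup.det_ne_zero k) ?_
  rw [show ((k : Mn).map ρ).det = ρ (k : Mn).det from (RingHom.map_det ρ.toRingHom (k : Mn)).symm]
  simpa using GeneralLinearGroup.det_ne_zero k

lemma smul_ne_zero_entry {M : Mn} (hM : M.det ≠ 0) (hn : 0 < n) : M ≠ 0 := fun h => hM (by
  haveI : Nonempty (Fin n) := ⟨⟨0, hn⟩⟩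
  rw [h, det_zero])

lemma conjPSU_eq_of_smul {x y : GUn} {c : F}
    (h : ((x : GL (Fin n) F) : Mn) = c • ((y : GL (Fin n) F) : Mn)) : (conjPSU x : MulAut PSUn) = conjPSU y := by
  have : (conjPSU (x * y⁻¹) : MulAut PSUn) = 1 := conjPSU_eq_one_of_scalar (c := c) (by
    rw [Subgroup.coe_mul, Subgroup.coe_inv, Units.val_mul, h, Matrix.smul_mul, Units.mul_inv])
  rwa [map_mul, map_inv, mul_inv_eq_one] at this

lemma gl_inv_of_map (ρ : F ≃+* F) (k : GL (Fin n) F) :
    (k : Mn).map ρ * ((k⁻¹ : GL (Fin n) F) : Mn).map ρ = 1 ∧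
      ((k⁻¹ : GL (Fin n) F) : Mn).map ρ * (k : Mn).map ρ = 1 := by
  constructor <;> rw [← rho_mul_mat] <;>
    simp [Units.mul_inv, Units.inv_mul, Matrix.map_one _ (map_zero ρ) (map_one ρ)]

/-- A non-degenerate Hermitian matrix is `kᵀ ρ(k)`. -/
lemma exists_herm_eq [Fintype F] {σ : F ≃+* F} (hinv : ∀ a, σ (σ a) = a) (hne : σ ≠ RingEquiv.refl F)
    {W : Mn} (hH : Wᵀ = W.map σ) (hHd : W.det ≠ 0) : ∃ k : GL (Fin n) F, herm σ (k : Mn) = W := by
  classical
  let H := W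
  let B : (Fin n → F) →ₛₗ[(σ : F →+* F)] (Fin n → F) →ₗ[F] F :=
    LinearMap.mk₂'ₛₗ (σ : F →+* F) (RingHom.id F) (fun u v => v ⬝ᵥ (H *ᵥ (σ ∘ u)))
      (fun u u' v => by
        rw [show (σ ∘ (u + u') : Fin n → F) = σ ∘ u + σ ∘ u' by funext i; simp, mulVec_add, dotProduct_add])
      (fun c u v => by
        rw [show (σ ∘ (c • u) : Fin n → F) = σ c • (σ ∘ u) by funext i; simp, mulVec_smul, dotProduct_smul]; rfl)
      (fun u v v' => by simp)
      (fun c u v => by simp)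
  have hB : ∀ u v, B u v = v ⬝ᵥ (H *ᵥ (σ ∘ u)) := fun _ _ => rfl
  have hσσ : ∀ u : Fin n → F, σ ∘ (σ ∘ u) = u := fun u => by funext i; simp [hinv]
  have hsym : ∀ u v, σ (B u v) = B v u := fun u v => by
    rw [hB, hB, show σ (v ⬝ᵥ (H *ᵥ (σ ∘ u))) = (σ ∘ v) ⬝ᵥ (H.map σ *ᵥ (σ ∘ (σ ∘ u))) by
      rw [show σ (v ⬝ᵥ (H *ᵥ (σ ∘ u))) = σ.toRingHom (v ⬝ᵥ (H *ᵥ (σ ∘ u))) from rfl, RingHom.map_dotProduct]
      congr 1
      funext i
      exact RingHom.map_mulVec σ.toRingHom H (σ ∘ u) i,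
      hσσ, ← hH, mulVec_transpose, dotProduct_comm, ← dotProduct_mulVec]
  have hsep : B.SeparatingLeft := fun u hu => by
    have h1 : H *ᵥ (σ ∘ u) = 0 := funext fun i => by simpa [hB] using hu (Pi.single i 1)
    have h2 := Matrix.eq_zero_of_mulVec_eq_zero hHd h1
    rw [← hσσ u, h2]; funext i; simp
  obtain ⟨b, hb⟩ := Cfsg.Agent.S0755.result (σ : F →+* F) (fun h => hne (RingEquiv.ext fun a => RingHom.congr_fun h a))
    hinv B ⟨fun u v => hsym u v⟩ ⟨hsep, fun v hv => hsep v fun w => by rw [← hsym w v, hv w, map_zero]⟩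
  let e : (Fin n) ≃ Fin (Module.finrank F (Fin n → F)) := (Fintype.equivFinOfCardEq rfl).trans (finCongr (Module.finrank_pi F).symm)
  let x : Matrix (Fin n) (Fin n) F := Matrix.of fun i j => b (e j) i
  have hx : xᵀ * H * x.map σ = 1 := by
    ext i j
    rw [Matrix.mul_assoc, Matrix.mul_apply']
    have : (fun k => (H * x.map σ) k j) = H *ᵥ (σ ∘ (b (e j) : Fin n → F)) := rfl
    rw [this]
    show (b (e i) : Fin n → F) ⬝ᵥ _ = _
    rw [← hB, hb]
    simp [Matrix.one_apply, eq_comm]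
  have hxd : IsUnit x.det := isUnit_iff_ne_zero.2 fun h0 => by
    have := congrArg Matrix.det hx
    rw [det_mul, det_mul, det_transpose, h0, zero_mul, zero_mul, det_one] at this
    exact zero_ne_one this
  set y := x⁻¹
  have hxy : x * y = 1 := mul_nonsing_inv x hxd
  have hyx : y * x = 1 := nonsing_inv_mul x hxd
  have hH' : H = yᵀ * y.map σ := by
    calc H = (x * y)ᵀ * H * (x * y).map σ := by
          rw [hxy, Matrix.map_one _ (map_zero σ) (map_one σ), transpose_one, Matrix.one_mul, Matrix.mul_one]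
      _ = yᵀ * (xᵀ * H * x.map σ) * y.map σ := by
          rw [transpose_mul, show (x * y).map σ = x.map σ * y.map σ from Matrix.map_mul (f := σ.toRingHom)]
          simp only [Matrix.mul_assoc]
      _ = _ := by rw [hx, Matrix.mul_one]
  exact ⟨⟨y, x, hyx, hxy⟩, hH'.symm⟩

variable [Fintype F] (hF : Fintype.card F = q ^ 2) {ρ : F ≃+* F} (hρ : ∀ a, ρ a = a ^ q)

include hF hρ in
lemma uAut_eq_iff (hn : 3 ≤ n) (g g' : GUn) :
    (uAut ρ g : MulAut PSUn) = uAut ρ g' ↔ ∃ c : F, c ≠ 0 ∧ ((g' : GL (Fin n) F) : Mn) = c • ((g : GL (Fin n) F) : Mn) := by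
  constructor
  · intro h
    have h1 : (conjPSU (g' * g⁻¹) : MulAut PSUn) = 1 := by
      rw [map_mul, map_inv, mul_right_cancel (a := conjPSU g) h, mul_inv_cancel]
    obtain ⟨c, hc⟩ := (conjPSU_eq_one_iff hF hρ hn _).1 h1
    have hg : ((g' : GL (Fin n) F) : Mn) = c • ((g : GL (Fin n) F) : Mn) := by
      rw [show g' = g' * g⁻¹ * g by group, Subgroup.coe_mul, Units.val_mul, hc, Matrix.smul_mul, Matrix.one_mul]
    exact ⟨c, fun h0 => smul_ne_zero_entry (GeneralLinearGroup.det_ne_zero (g' : GL (Fin n) F)) (by omega)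
      (by rw [hg, h0, zero_smul]), hg⟩
  · rintro ⟨c, -, hc⟩
    rw [uAut, uAut, conjPSU_eq_of_smul hc]

omit [Fintype F] in
lemma conj_uAut (x g : GUn) :
    conjPSU x * uAut ρ g * (conjPSU x : MulAut PSUn)⁻¹ = uAut ρ (x * g * (fieldGU ρ x)⁻¹) := by
  rw [uAut, uAut, ← map_inv, ← map_inv (fieldGU ρ), map_mul, map_mul]
  rw [mul_assoc, mul_assoc (conjPSU g), fieldPSU_mul_conjPSU]
  simp [mul_assoc]

omit [Fintype F] in
lemma conj_coe (x g : GUn) : (((x * g * (fieldGU ρ x)⁻¹ : GUn) : GL (Fin n) F) : Mn) =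
    ((x : GL (Fin n) F) : Mn) * ((g : GL (Fin n) F) : Mn) * (((x : GL (Fin n) F)⁻¹ : GL (Fin n) F) : Mn).map ρ := by
  rw [← map_inv, Subgroup.coe_mul, Subgroup.coe_mul, Units.val_mul, Units.val_mul, fieldGU_coe]
  rfl

include hF hρ in
/-- Order two automorphisms of graph type. -/
lemma isGraphAutClassPSU_iff {γ : MulAut PSUn} (hn : 3 ≤ n) (h2 : orderOf γ = 2) :
    Cfsg.IsGraphAutClassPSU γ ↔ ∃ g : GUn, γ = uAut ρ g := by
  have hne := sigma_ne hF hρ
  have hinv := sigma_sigma hF hρ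
  have hρ2 : orderOf ρ = 2 := orderOf_eq_prime (RingEquiv.ext fun a => by rw [sq, RingAut.mul_apply]; exact hinv a)
    fun h => hne h
  constructor
  · rintro ⟨-, δ, φ, σ, hev, hδ, hφ, rfl⟩
    obtain ⟨g, rfl⟩ := mem_inndiagPSU_iff.1 (Subgroup.subset_closure hδ)
    obtain rfl : φ = fieldPSU σ := eq_of_psuMk_eq fun s => hφ s (fieldSU σ s) rfl
    have h1 := pow_orderOf_eq_one (conjPSU g * fieldPSU σ : MulAut PSUn)
    rw [h2, conj_field_pow] at h1
    have hσ2 : σ ^ 2 = 1 := conj_field_injective hF hρ hn (g' := 1) (h1.trans (by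
      rw [map_one, one_mul, ← fieldHomPSU_apply, map_one]))
    have hσ1 : σ ≠ 1 := fun h => by rw [h, orderOf_one] at hev; exact absurd hev (by decide)
    have hmem : ρ ∈ Subgroup.zpowers σ := CfsgLib.PSLAut.mem_zpowers_of_fixes fun x hx => by
      letI : Fintype (fixedField σ) := Fintype.ofFinite _
      have ho : orderOf σ = 2 := orderOf_eq_prime hσ2 hσ1
      have hc := CfsgLib.PSLAut.card_fixedField σ
      rw [ho, hF] at hc
      have hq : q = Fintype.card (fixedField σ) := by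
        rw [← Nat.card_eq_fintype_card]
        exact Nat.pow_left_injective two_ne_zero hc
      rw [hρ, hq]
      exact congrArg Subtype.val (FiniteField.pow_card (⟨x, hx⟩ : fixedField σ))
    obtain ⟨j, hj⟩ := hmem
    refine ⟨g, ?_⟩
    rw [uAut]
    congr 2
    have hsq : σ ^ (2 : ℤ) = 1 := by exact_mod_cast hσ2
    rcases Int.even_or_odd' j with ⟨i, rfl | rfl⟩
    · exact absurd (show ρ = 1 by rw [← hj]; show σ ^ (2 * i) = 1; rw [_root_.zpow_mul, hsq, _root_.one_zpow]) hne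
    · rw [← hj]
      show σ = σ ^ (2 * i + 1)
      rw [_root_.zpow_add, _root_.zpow_mul, hsq, _root_.one_zpow, one_mul, zpow_one]
  · rintro ⟨g, rfl⟩
    refine ⟨hn, conjPSU g, fieldPSU ρ, ρ, by rw [hρ2]; exact even_two, ?_, isFieldAutPSUOf_fieldPSU ρ, rfl⟩
    exact ⟨g, g.2, fun s s' e => congrArg psuMk (Subtype.ext (Subtype.ext e.symm))⟩

variable {ι : K →+* F} (hι : Onto ρ ι)

include hι in
omit [Fintype F] in
lemma sub_fix (M : Matrix (Fin n) (Fin n) K) : (M.map ι).map ρ = M.map ι := by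
  ext i j; exact hι.fix _

include hι in
omit [Fintype F] in
/-- A matrix fixed up to a scalar is a scalar multiple of a rational one. -/
lemma exists_rational (hn : 0 < n) (Y : GL (Fin n) F) {μ : F} (hY : (Y : Mn).map ρ = μ • (Y : Mn)) :
    ∃ (a : F) (X : GL (Fin n) K), a ≠ 0 ∧ (Y : Mn) = a • (X : Matrix (Fin n) (Fin n) K).map ι := by
  obtain ⟨i, j, hij⟩ : ∃ i j, (Y : Mn) i j ≠ 0 := by
    by_contra h
    push Not at h
    exact smul_ne_zero_entry (GeneralLinearGroup.det_ne_zero Y) hn (Matrix.ext h)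
  set a := (Y : Mn) i j with ha
  have hμ : ∀ k l, ρ ((Y : Mn) k l) = μ * (Y : Mn) k l := fun k l => congrFun (congrFun hY k) l
  have hfix : ∀ k l, ρ (a⁻¹ * (Y : Mn) k l) = a⁻¹ * (Y : Mn) k l := fun k l => by
    rw [map_mul, map_inv₀, hμ, ha, hμ]
    have hμ0 : μ ≠ 0 := fun h => hij (by simpa [h] using hμ i j)
    field_simp
  choose X hX using fun k l => hι.surj _ (hfix k l)
  have hXY : (Matrix.of X).map ι = a⁻¹ • (Y : Mn) := Matrix.ext fun k l => hX k l
  have hd : (Matrix.of X).det ≠ 0 := fun h => by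
    have h' := congrArg ι h
    rw [map_zero, RingHom.map_det, RingHom.mapMatrix_apply, hXY, det_smul] at h'
    exact mul_ne_zero (pow_ne_zero _ (inv_ne_zero hij)) (GeneralLinearGroup.det_ne_zero Y) h'
  exact ⟨a, GeneralLinearGroup.mkOfDetNeZero _ hd, hij, by
    show _ = a • (Matrix.of X).map ι
    rw [hXY, smul_smul, mul_inv_cancel₀ hij, one_smul]⟩

include hι in
omit [Fintype F] in
lemma rep_unique (hn : 0 < n) {g : GUn} {k k' : GL (Fin n) F} (hk : Rep ρ g k) (hk' : Rep ρ g k') :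
    ∃ (a : F) (X : GL (Fin n) K), a ≠ 0 ∧ (k' : Mn) = a • ((k : Mn) * (X : Matrix (Fin n) (Fin n) K).map ι) := by
  obtain ⟨d, hd, hg⟩ := hk
  obtain ⟨d', hd', hg'⟩ := hk'
  obtain ⟨Y, rfl⟩ : ∃ Y, k' = k * Y := ⟨k⁻¹ * k', (mul_inv_cancel_left k k').symm⟩
  rw [Units.val_mul, rho_mul_mat, ← Matrix.mul_assoc, hg, Matrix.smul_mul] at hg'
  have hY : (Y : Mn).map ρ = (d⁻¹ * d') • (Y : Mn) := by
    have h := congrArg (fun M : Mn => d⁻¹ • (((k⁻¹ : GL (Fin n) F) : Mn) * M)) hg'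
    simp only [Matrix.mul_smul, ← Matrix.mul_assoc, Units.inv_mul, Matrix.one_mul, smul_smul,
      inv_mul_cancel₀ hd, one_smul] at h
    exact h
  obtain ⟨a, X, ha, hX⟩ := exists_rational hι hn Y hY
  exact ⟨a, X, ha, by rw [Units.val_mul, hX, Matrix.mul_smul]⟩

include hι in
omit [Fintype F] in
lemma herm_change (k : Mn) (a : F) (X : Matrix (Fin n) (Fin n) K) :
    herm ρ (a • (k * X.map ι)) = (a * ρ a) • ((X.map ι)ᵀ * herm ρ k * X.map ι) := by
  rw [herm, herm, transpose_smul, rho_smul_mat, rho_mul_mat, sub_fix hι, transpose_mul, Matrix.smul_mul,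
    Matrix.mul_smul, smul_smul]
  simp only [Matrix.mul_assoc]

include hι in
omit [Fintype F] in
/-- Any two rational forms of `g` and of a conjugate of `g` are equivalent. -/
lemma formEquiv_of_conj (hn : 0 < n) {g g' x : GUn} {c : F} (hc : c ≠ 0)
    (hx : ((x : GL (Fin n) F) : Mn) * ((g : GL (Fin n) F) : Mn) * (((x : GL (Fin n) F)⁻¹ : GL (Fin n) F) : Mn).map ρ =
      c • ((g' : GL (Fin n) F) : Mn))
    {B B' : Matrix (Fin n) (Fin n) K} (hB : FormOf ρ ι g B) (hB' : FormOf ρ ι g' B')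
    (hGU : ((x : GL (Fin n) F) : Mn)ᵀ * ((x : GL (Fin n) F) : Mn).map ρ = 1) : FormEquiv B B' := by
  obtain ⟨k, ⟨d, hd, hg⟩, e, he, hBe⟩ := hB
  obtain ⟨k', hk', e', he', hBe'⟩ := hB'
  have hxk : Rep ρ g' ((x : GL (Fin n) F) * k) := by
    refine ⟨c⁻¹ * d, mul_ne_zero (inv_ne_zero hc) hd, ?_⟩
    have h : ((g' : GL (Fin n) F) : Mn) =
        c⁻¹ • (((x : GL (Fin n) F) : Mn) * ((g : GL (Fin n) F) : Mn) * (((x : GL (Fin n) F)⁻¹ : GL (Fin n) F) : Mn).map ρ) := by
      rw [hx, smul_smul, inv_mul_cancel₀ hc, one_smul]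
    rw [h, Units.val_mul, rho_mul_mat, Matrix.smul_mul, mul_smul]
    congr 1
    rw [Matrix.mul_assoc, ← Matrix.mul_assoc ((((x : GL (Fin n) F)⁻¹ : GL (Fin n) F) : Mn).map ρ),
      (gl_inv_of_map ρ _).2, Matrix.one_mul, Matrix.mul_assoc, hg, Matrix.mul_smul]
  obtain ⟨a, X, ha, hk''⟩ := rep_unique hι hn hxk hk'
  have hW : herm ρ (((x : GL (Fin n) F) * k : GL (Fin n) F) : Mn) = herm ρ (k : Mn) := by
    rw [herm, herm, Units.val_mul, transpose_mul, rho_mul_mat, Matrix.mul_assoc,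
      ← Matrix.mul_assoc ((x : GL (Fin n) F) : Mn)ᵀ, hGU, Matrix.one_mul]
  set M := (X : Matrix (Fin n) (Fin n) K)ᵀ * B * (X : Matrix (Fin n) (Fin n) K) with hM
  have hMB : B'.map ι = (e' * (a * ρ a) * e⁻¹) • M.map ι := by
    rw [hBe', hk'', herm_change hι, hW, hM, Matrix.map_mul, Matrix.map_mul, transpose_map, hBe, Matrix.mul_smul,
      Matrix.smul_mul, smul_smul, smul_smul]
    congr 1
    field_simp
  set s := e' * (a * ρ a) * e⁻¹
  have hs : s ≠ 0 := mul_ne_zero (mul_ne_zero he' (mul_ne_zero ha (by simpa using ha))) (inv_ne_zero he)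
  obtain ⟨i, j, hij⟩ : ∃ i j, M i j ≠ 0 := by
    by_contra h
    push Not at h
    have h0 : B'.map ι = 0 := by rw [hMB, show M = 0 from Matrix.ext h]; simp
    have h1 := herm_det_ne_zero ρ k'
    rw [hBe'] at h0
    exact smul_ne_zero_entry h1 hn ((smul_eq_zero.1 h0).resolve_left he')
  have hsij : ι (B' i j) = s * ι (M i j) := congrFun (congrFun hMB i) j
  have hsc : s = ι (B' i j / M i j) := by
    rw [map_div₀, hsij, mul_div_cancel_right₀ _ (by simpa using hij)]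
  have hBM : B' = (B' i j / M i j) • M := by
    refine Matrix.map_injective ι.injective ?_
    show B'.map ι = _
    rw [hMB, hsc, ← map_smul_mat]
  set t := B' i j / M i j
  have ht : t ≠ 0 := fun h => hs (by rw [hsc, h, map_zero])
  refine ⟨t⁻¹, inv_ne_zero ht, (X : Matrix (Fin n) (Fin n) K), ((X⁻¹ : GL (Fin n) K) : Matrix (Fin n) (Fin n) K),
    Units.mul_inv X, Units.inv_mul X, ?_⟩
  rw [hBM, smul_smul, inv_mul_cancel₀ ht, one_smul]

include hF hρ hι in
/-- A rational congruence up to a scalar gives a unitary intertwiner. -/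
lemma exists_intertwiner (hn : 0 < n) {g g' : GUn} {k k' : GL (Fin n) F} (hk : Rep ρ g k) (hk' : Rep ρ g' k')
    (X : GL (Fin n) K) {r : F}
    (hX : ((X : Matrix (Fin n) (Fin n) K).map ι)ᵀ * herm ρ (k : Mn) * (X : Matrix (Fin n) (Fin n) K).map ι = r • herm ρ (k' : Mn)) :
    ∃ z : GUn, ∃ a : F, a * ρ a * r = 1 ∧
      ((z : GL (Fin n) F) : Mn) = a • ((k : Mn) * (X : Matrix (Fin n) (Fin n) K).map ι * ((k'⁻¹ : GL (Fin n) F) : Mn)) ∧
      conjPSU z * uAut ρ g' * (conjPSU z : MulAut PSUn)⁻¹ = uAut ρ g := by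
  have hne := sigma_ne hF hρ
  have hinv := sigma_sigma hF hρ
  have hW0 := smul_ne_zero_entry (herm_det_ne_zero ρ k') hn
  have hr0 : r ≠ 0 := by
    intro h
    rw [h, zero_smul] at hX
    have h1 := congrArg Matrix.det hX
    haveI : Nonempty (Fin n) := ⟨⟨0, hn⟩⟩
    rw [det_mul, det_mul, det_transpose, det_zero] at h1
    have hXd : ((X : Matrix (Fin n) (Fin n) K).map ι).det ≠ 0 := by
      rw [show ((X : Matrix (Fin n) (Fin n) K).map ι).det = ι (X : Matrix (Fin n) (Fin n) K).det from (RingHom.map_det ι _).symm]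
      simpa using GeneralLinearGroup.det_ne_zero X
    exact mul_ne_zero (mul_ne_zero hXd (herm_det_ne_zero ρ k)) hXd h1
  have hrfix : ρ r = r := by
    have h1 := congrArg Matrix.transpose hX
    have h2 := congrArg (fun M : Mn => M.map ρ) hX
    simp only [rho_mul_mat, rho_smul_mat, transpose_map, sub_fix hι] at h2
    rw [transpose_mul, transpose_mul, transpose_transpose, ← Matrix.mul_assoc, herm_transpose hinv,
      transpose_smul, herm_transpose hinv, h2] at h1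
    have hne0 : (herm ρ (k' : Mn)).map ρ ≠ 0 := fun h => hW0 (by
      rw [← herm_transpose hinv] at h
      simpa using congrArg Matrix.transpose h)
    exact smul_left_injective F hne0 h1
  obtain ⟨a, ha⟩ := exists_norm_eq hne hinv (b := r⁻¹) (by rw [map_inv₀, hrfix])
  have har : a * ρ a * r = 1 := by rw [ha, inv_mul_cancel₀ hr0]
  have ha0 : a ≠ 0 := fun h => by rw [h, zero_mul, zero_mul] at har; exact zero_ne_one har
  set Xι := GeneralLinearGroup.map ι X with hXι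
  let zg : GL (Fin n) F := GeneralLinearGroup.scalar (Fin n) (Units.mk0 a ha0) * (k * Xι * k'⁻¹)
  have hzv : (zg : Mn) = a • ((k : Mn) * (X : Matrix (Fin n) (Fin n) K).map ι * ((k'⁻¹ : GL (Fin n) F) : Mn)) := by
    simp only [zg, Units.val_mul, GeneralLinearGroup.coe_scalar, scalar_apply, ← Matrix.smul_eq_diagonal_mul,
      Units.val_mk0]
    rfl
  obtain ⟨hk'1, hk'2⟩ := gl_inv_of_map ρ k'
  have hz : zg ∈ GUn := by
    rw [mem_GU_iff_mul hρ, hzv, transpose_smul, rho_smul_mat, Matrix.smul_mul, Matrix.mul_smul, smul_smul,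
      rho_mul_mat, rho_mul_mat, sub_fix hι, transpose_mul, transpose_mul]
    rw [show ((k'⁻¹ : GL (Fin n) F) : Mn)ᵀ * (((X : Matrix (Fin n) (Fin n) K).map ι)ᵀ * (k : Mn)ᵀ) *
        ((k : Mn).map ρ * (X : Matrix (Fin n) (Fin n) K).map ι * ((k'⁻¹ : GL (Fin n) F) : Mn).map ρ) =
        ((k'⁻¹ : GL (Fin n) F) : Mn)ᵀ * (((X : Matrix (Fin n) (Fin n) K).map ι)ᵀ * herm ρ (k : Mn) *
          (X : Matrix (Fin n) (Fin n) K).map ι) * ((k'⁻¹ : GL (Fin n) F) : Mn).map ρ by
      simp only [herm, Matrix.mul_assoc]]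
    rw [hX, Matrix.mul_smul, Matrix.smul_mul, smul_smul, herm, ← Matrix.mul_assoc, Matrix.mul_assoc _ _ (((k'⁻¹ : GL (Fin n) F) : Mn).map ρ),
      hk'1, Matrix.mul_one, ← transpose_mul, Units.mul_inv, transpose_one, har, one_smul]
  refine ⟨⟨zg, hz⟩, a, har, hzv, ?_⟩
  obtain ⟨d, hd, hg⟩ := hk
  obtain ⟨d', hd', hg'⟩ := hk'
  rw [conj_uAut, eq_comm]
  have hg'v : ((g' : GL (Fin n) F) : Mn) = d' • ((k' : Mn) * ((k'⁻¹ : GL (Fin n) F) : Mn).map ρ) := by
    rw [← Matrix.smul_mul, ← hg', Matrix.mul_assoc, hk'1, Matrix.mul_one]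
  have hzρ : (zg : Mn).map ρ = ρ a • ((k : Mn).map ρ * (X : Matrix (Fin n) (Fin n) K).map ι * ((k'⁻¹ : GL (Fin n) F) : Mn).map ρ) := by
    rw [hzv, rho_smul_mat, rho_mul_mat, rho_mul_mat, sub_fix hι]
  have hcomm : (zg : Mn) * ((g' : GL (Fin n) F) : Mn) =
      (a * d' * (ρ a * d)⁻¹) • (((g : GL (Fin n) F) : Mn) * (zg : Mn).map ρ) := by
    rw [hzρ, Matrix.mul_smul, ← Matrix.mul_assoc, ← Matrix.mul_assoc, hg, hzv, hg'v]
    simp only [Matrix.smul_mul, Matrix.mul_smul, smul_smul, Matrix.mul_assoc]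
    rw [← Matrix.mul_assoc ((k'⁻¹ : GL (Fin n) F) : Mn), Units.inv_mul, Matrix.one_mul]
    congr 1
    have : ρ a ≠ 0 := by simpa using ha0
    field_simp
  have hne' : a * d' * (ρ a * d)⁻¹ ≠ 0 :=
    mul_ne_zero (mul_ne_zero ha0 hd') (inv_ne_zero (mul_ne_zero (by simpa using ha0) hd))
  have hcoe : (((⟨zg, hz⟩ * g' * (fieldGU ρ ⟨zg, hz⟩)⁻¹ : GUn) : GL (Fin n) F) : Mn) =
      (a * d' * (ρ a * d)⁻¹) • ((g : GL (Fin n) F) : Mn) := by
    rw [conj_coe]
    show (zg : Mn) * _ * ((zg⁻¹ : GL (Fin n) F) : Mn).map ρ = _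
    rw [hcomm, Matrix.smul_mul, Matrix.mul_assoc, (gl_inv_of_map ρ zg).1, Matrix.mul_one]
  rw [uAut, uAut, conjPSU_eq_of_smul hcoe]

include hF hρ hι in
lemma formOf_of_conj_iff (hn : 3 ≤ n) {g g' : GUn} {B B' : Matrix (Fin n) (Fin n) K} (hB : FormOf ρ ι g B)
    (hB' : FormOf ρ ι g' B') :
    Cfsg.IsConjUnder (Cfsg.inndiagPSU n F q) (uAut ρ g : MulAut PSUn) (uAut ρ g') ↔ FormEquiv B B' := by
  constructor
  · rintro ⟨β, hβ, e⟩
    obtain ⟨x, rfl⟩ := mem_inndiagPSU_iff.1 hβ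
    rw [conj_uAut] at e
    obtain ⟨c, hc, hcx⟩ := (uAut_eq_iff hF hρ hn _ _).1 e
    rw [conj_coe] at hcx
    exact formEquiv_of_conj hι (by omega) hc hcx hB hB' ((mem_GU_iff_mul hρ _).1 x.2)
  · intro h
    obtain ⟨t, ht, x, y, hxy, hyx, hX⟩ := h
    obtain ⟨k, hk, e, he, hBe⟩ := hB
    obtain ⟨k', hk', e', he', hBe'⟩ := hB'
    let X : GL (Fin n) K := ⟨x, y, hxy, hyx⟩
    obtain ⟨z, a, -, -, hz⟩ := exists_intertwiner hF hρ hι (by omega) hk hk' X (r := e⁻¹ * ι t * e') (by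
      have h1 := congrArg (fun M : Matrix (Fin n) (Fin n) K => M.map ι) hX
      simp only [Matrix.map_mul, transpose_map, hBe, map_smul_mat, hBe', smul_smul, Matrix.mul_smul,
        Matrix.smul_mul] at h1
      show (x.map ι)ᵀ * _ * x.map ι = _
      have h2 := congrArg (fun M : Mn => e⁻¹ • M) h1
      simp only [smul_smul, inv_mul_cancel₀ he, one_smul] at h2
      rw [h2, mul_assoc])
    refine ⟨(conjPSU z)⁻¹, inv_mem (mem_inndiagPSU_iff.2 ⟨z, rfl⟩), ?_⟩
    rw [← hz]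
    group

include hF hρ hι in
/-- The unitary matrices centralising the automorphism. -/
lemma mem_stab_uAut (hn : 3 ≤ n) {g : GUn} {k : GL (Fin n) F} (hk : Rep ρ g k) {e : F} (he : e ≠ 0)
    {B : Matrix (Fin n) (Fin n) K} (hBe : B.map ι = e • herm ρ (k : Mn)) (x : GUn) :
    x ∈ (Subgroup.centralizer {(uAut ρ g : MulAut PSUn)}).comap conjPSU ↔
      ∃ (X : GL (Fin n) K) (c : Kˣ) (a : F), (X : Matrix (Fin n) (Fin n) K)ᵀ * B * (X : Matrix (Fin n) (Fin n) K) = (c : K) • B ∧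
        a * ρ a * ι c = 1 ∧
        ((x : GL (Fin n) F) : Mn) = a • ((k : Mn) * (X : Matrix (Fin n) (Fin n) K).map ι * ((k⁻¹ : GL (Fin n) F) : Mn)) := by
  have hn0 : 0 < n := by omega
  rw [Subgroup.mem_comap, Subgroup.mem_centralizer_singleton_iff]
  constructor
  · intro hcm
    have hconj : conjPSU x * uAut ρ g * (conjPSU x : MulAut PSUn)⁻¹ = uAut ρ g := by
      rw [hcm, mul_inv_cancel_right]
    rw [conj_uAut] at hconj
    obtain ⟨c, hc, hcx⟩ := (uAut_eq_iff hF hρ hn _ _).1 hconj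
    rw [conj_coe] at hcx
    obtain ⟨d, hd, hg⟩ := hk
    have hxk : Rep ρ g ((x : GL (Fin n) F) * k) := by
      refine ⟨c * d, mul_ne_zero hc hd, ?_⟩
      rw [Units.val_mul, rho_mul_mat, hcx, Matrix.smul_mul, ← Matrix.mul_assoc,
        Matrix.mul_assoc _ ((((x : GL (Fin n) F)⁻¹ : GL (Fin n) F) : Mn).map ρ), (gl_inv_of_map ρ _).2, Matrix.mul_one,
        Matrix.mul_assoc, hg, Matrix.mul_smul, smul_smul]
    obtain ⟨a, X, ha, hX⟩ := rep_unique hι hn0 ⟨d, hd, hg⟩ hxk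
    have hW : herm ρ (((x : GL (Fin n) F) * k : GL (Fin n) F) : Mn) = herm ρ (k : Mn) := by
      rw [herm, herm, Units.val_mul, transpose_mul, rho_mul_mat, Matrix.mul_assoc,
        ← Matrix.mul_assoc ((x : GL (Fin n) F) : Mn)ᵀ, (mem_GU_iff_mul hρ _).1 x.2, Matrix.one_mul]
    rw [hX, herm_change hι] at hW
    have hinv := sigma_sigma hF hρ
    have haa : a * ρ a ≠ 0 := mul_ne_zero ha (by simpa using ha)
    obtain ⟨c0, hc0⟩ := hι.surj ((a * ρ a)⁻¹) (by rw [map_inv₀, map_mul, hinv, mul_comm])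
    have hc00 : c0 ≠ 0 := fun h => inv_ne_zero haa (by rw [← hc0, h, map_zero])
    refine ⟨X, Units.mk0 c0 hc00, a, ?_, by rw [Units.val_mk0, hc0, mul_inv_cancel₀ haa], ?_⟩
    · refine Matrix.map_injective ι.injective ?_
      show ((X : Matrix (Fin n) (Fin n) K)ᵀ * B * (X : Matrix (Fin n) (Fin n) K)).map ι = (((Units.mk0 c0 hc00 : Kˣ) : K) • B).map ι
      rw [Matrix.map_mul, Matrix.map_mul, transpose_map, map_smul_mat, hBe, Units.val_mk0, hc0, Matrix.mul_smul,
        Matrix.smul_mul, smul_smul]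
      conv_rhs => rw [← hW, smul_smul]
      congr 1
      have hρa : ρ a ≠ 0 := by simpa using ha
      field_simp
    · have := congrArg (fun M : Mn => M * ((k⁻¹ : GL (Fin n) F) : Mn)) hX
      simp only [Units.val_mul, Units.mul_inv_cancel_right, Matrix.smul_mul] at this
      exact this
  · rintro ⟨X, c, a, hX, hac, hx⟩
    obtain ⟨z, a', ha', hz, hzc⟩ := exists_intertwiner hF hρ hι hn0 hk hk X (r := ι c) (by
      have h1 := congrArg (fun M : Matrix (Fin n) (Fin n) K => M.map ι) hX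
      simp only [Matrix.map_mul, transpose_map, hBe, map_smul_mat, smul_smul, Matrix.mul_smul, Matrix.smul_mul] at h1
      have h2 := congrArg (fun M : Mn => e⁻¹ • M) h1
      simp only [smul_smul, inv_mul_cancel₀ he, one_smul] at h2
      rw [h2]
      congr 1
      field_simp)
    have ha0 : a' ≠ 0 := fun h => by rw [h, zero_mul, zero_mul] at ha'; exact zero_ne_one ha'
    have hxz : ((x : GL (Fin n) F) : Mn) = (a / a') • ((z : GL (Fin n) F) : Mn) := by
      rw [hx, hz, smul_smul, div_mul_cancel₀ _ ha0]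
    rw [conjPSU_eq_of_smul hxz]
    exact mul_inv_eq_iff_eq_mul.1 hzc

include hF hρ hι in
/-- The centraliser in the inner-diagonal group is the projective similitude group of the rational form. -/
lemma centralizer_uAut_equiv (hn : 3 ≤ n) {g : GUn} {B : Matrix (Fin n) (Fin n) K} (hB : FormOf ρ ι g B) :
    Nonempty (↥(Cfsg.inndiagPSU n F q ⊓ Subgroup.centralizer {(uAut ρ g : MulAut PSUn)}) ≃*
      Cfsg.projQuot (simBil B)) := by
  classical
  obtain ⟨k, hk, e, he, hBe⟩ := hB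
  set k' := ((k⁻¹ : GL (Fin n) F) : Mn)
  have hex : ∀ X : simBil B, ∃ z : GUn, ∃ a : F, ∃ c : Kˣ,
      ((X : GL (Fin n) K) : Matrix (Fin n) (Fin n) K)ᵀ * B * ((X : GL (Fin n) K) : Matrix (Fin n) (Fin n) K) = (c : K) • B ∧
        a * ρ a * ι c = 1 ∧
        ((z : GL (Fin n) F) : Mn) = a • ((k : Mn) * ((X : GL (Fin n) K) : Matrix (Fin n) (Fin n) K).map ι * k') := by
    intro X
    obtain ⟨c, hc⟩ := mem_simBil.1 X.2
    obtain ⟨z, a, ha, hz, -⟩ := exists_intertwiner hF hρ hι (by omega) hk hk X.1 (r := ι c) (by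
      have h1 := congrArg (fun M : Matrix (Fin n) (Fin n) K => M.map ι) hc
      simp only [Matrix.map_mul, transpose_map, hBe, map_smul_mat, smul_smul, Matrix.mul_smul, Matrix.smul_mul] at h1
      have h2 := congrArg (fun M : Mn => e⁻¹ • M) h1
      simp only [smul_smul, inv_mul_cancel₀ he, one_smul] at h2
      rw [h2]
      congr 1
      field_simp)
    exact ⟨z, a, c, hc, ha, hz⟩
  choose z a c hc hac hz using hex
  have ha0 : ∀ X, a X ≠ 0 := fun X h => by
    have := hac X; rw [h, zero_mul, zero_mul] at this; exact zero_ne_one this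
  have hmul : ∀ X Y, (conjPSU (z (X * Y)) : MulAut PSUn) = conjPSU (z X) * conjPSU (z Y) := fun X Y => by
    rw [← map_mul]
    refine conjPSU_eq_of_smul (c := a (X * Y) / (a X * a Y)) ?_
    rw [Subgroup.coe_mul, Units.val_mul, hz, hz, hz, Subgroup.coe_mul, Units.val_mul, Matrix.map_mul]
    simp only [Matrix.smul_mul, Matrix.mul_smul, smul_smul, Matrix.mul_assoc]
    rw [← Matrix.mul_assoc k' (k : Mn), Units.inv_mul, Matrix.one_mul, mul_comm (a X) (a Y),
      div_mul_cancel₀ _ (mul_ne_zero (ha0 Y) (ha0 X))]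
  have hmem : ∀ X : simBil B, (conjPSU (z X) : MulAut PSUn) ∈
      Cfsg.inndiagPSU n F q ⊓ Subgroup.centralizer {(uAut ρ g : MulAut PSUn)} := fun X =>
    ⟨mem_inndiagPSU_iff.2 ⟨_, rfl⟩, Subgroup.mem_comap.1
      ((mem_stab_uAut hF hρ hι hn hk he hBe (z X)).2 ⟨X.1, c X, a X, hc X, hac X, hz X⟩)⟩
  let Φ : simBil B →* ↥(Cfsg.inndiagPSU n F q ⊓ Subgroup.centralizer {(uAut ρ g : MulAut PSUn)}) :=
    MonoidHom.mk' (fun X => ⟨conjPSU (z X), hmem X⟩) fun X Y => Subtype.ext (hmul X Y)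
  have hs : Function.Surjective Φ := by
    rintro ⟨β, hβ, hcm⟩
    obtain ⟨x, rfl⟩ := mem_inndiagPSU_iff.1 hβ
    obtain ⟨X, c', a', hc', hac', hx⟩ := (mem_stab_uAut hF hρ hι hn hk he hBe x).1 (Subgroup.mem_comap.2 hcm)
    refine ⟨⟨X, mem_simBil.2 ⟨c', hc'⟩⟩, Subtype.ext (conjPSU_eq_of_smul (c := a ⟨X, mem_simBil.2 ⟨c', hc'⟩⟩ / a') ?_)⟩
    have ha' : a' ≠ 0 := fun h => by rw [h, zero_mul, zero_mul] at hac'; exact zero_ne_one hac'
    rw [hz, hx, smul_smul, div_mul_cancel₀ _ ha']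
  have hker : Φ.ker = (Cfsg.Geo.scalars (Fin n) K).subgroupOf (simBil B) := by
    ext X
    rw [Subgroup.mem_subgroupOf, Cfsg.Geo.mem_scalars_iff, MonoidHom.mem_ker, Subtype.ext_iff]
    show conjPSU (z X) = 1 ↔ _
    rw [conjPSU_eq_one_iff hF hρ hn]
    constructor
    · rintro ⟨d, hd⟩
      rw [hz] at hd
      have hXv : ((X : GL (Fin n) K) : Matrix (Fin n) (Fin n) K).map ι = (d / a X) • 1 := by
        have h := congrArg (fun M : Mn => (a X)⁻¹ • (k' * M * (k : Mn))) hd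
        simp only [Matrix.smul_mul, Matrix.mul_smul, smul_smul, Matrix.mul_assoc, k', Units.inv_mul, Matrix.mul_one,
          Matrix.one_mul, inv_mul_cancel₀ (ha0 X), one_smul] at h
        rw [← Matrix.mul_assoc ((k⁻¹ : GL (Fin n) F) : Mn), Units.inv_mul, Matrix.one_mul] at h
        rw [h, div_eq_inv_mul]
      let i : Fin n := ⟨0, by omega⟩
      have hdiag : ι (((X : GL (Fin n) K) : Matrix (Fin n) (Fin n) K) i i) = d / a X := by
        have := congrFun (congrFun hXv i) i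
        simpa using this
      refine ⟨Units.mk0 (((X : GL (Fin n) K) : Matrix (Fin n) (Fin n) K) i i) (fun h0 => ?_),
        Matrix.map_injective ι.injective ?_⟩
      · rw [h0, map_zero] at hdiag
        exact smul_ne_zero_entry (GeneralLinearGroup.det_ne_zero (GeneralLinearGroup.map ι (X : GL (Fin n) K))) (by omega)
          (show ((X : GL (Fin n) K) : Matrix (Fin n) (Fin n) K).map ι = 0 by rw [hXv, ← hdiag, zero_smul])
      · show ((X : GL (Fin n) K) : Matrix (Fin n) (Fin n) K).map ι =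
          ((((X : GL (Fin n) K) : Matrix (Fin n) (Fin n) K) i i) • (1 : Matrix (Fin n) (Fin n) K)).map ι
        rw [map_smul_mat, Matrix.map_one _ (map_zero ι) (map_one ι), hdiag]
        exact hXv
    · rintro ⟨d, hd⟩
      refine ⟨a X * ι d, ?_⟩
      rw [hz, hd, map_smul_mat, Matrix.map_one _ (map_zero ι) (map_one ι), Matrix.mul_smul, Matrix.mul_one,
        Matrix.smul_mul, Units.mul_inv, smul_smul]
  exact ⟨((QuotientGroup.quotientMulEquivOfEq hker.symm).trans (QuotientGroup.quotientKerEquivOfSurjective Φ hs)).symm⟩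

include hF hρ hι in
/-- Class splitting. -/
lemma splitClassCount_uAut (hn : 3 ≤ n) {g : GUn} {B : Matrix (Fin n) (Fin n) K} (hB : FormOf ρ ι g B)
    (S : Subgroup (normOne F q))
    (hS : ∀ u : normOne F q, u ∈ S ↔ ∃ (X : GL (Fin n) K) (c : Kˣ) (a : F),
      (X : Matrix (Fin n) (Fin n) K)ᵀ * B * (X : Matrix (Fin n) (Fin n) K) = (c : K) • B ∧
        a * ρ a * ι c = 1 ∧ ((u : Fˣ) : F) = a ^ n * ι (X : Matrix (Fin n) (Fin n) K).det) :
    Cfsg.splitClassCount (Cfsg.inndiagPSU n F q) (Cfsg.Inn PSUn) (uAut ρ g) = S.index := by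
  obtain ⟨k, hk, e, he, hBe⟩ := hB
  rw [show Cfsg.inndiagPSU n F q = (conjPSU : GUn →* MulAut PSUn).range from
    Subgroup.ext fun β => mem_inndiagPSU_iff, inn_eq_map_guDet, CfsgLib.PSLAut.splitClassCount_eq_index]
  have hdm : ∀ g : GUn, guDet n F q g ∈ normOne F q := fun g => by
    rw [show normOne F q = (guDet n F q).range from (guDet_range hF (by omega)).symm]
    exact ⟨g, rfl⟩
  let D : GUn →* normOne F q := (guDet n F q).codRestrict _ hdm
  have hDs : Function.Surjective D := fun x => by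
    obtain ⟨g, hg⟩ : (x : Fˣ) ∈ (guDet n F q).range := by rw [guDet_range hF (by omega)]; exact x.2
    exact ⟨g, Subtype.ext hg⟩
  have hDk : D.ker = (guDet n F q).ker := MonoidHom.ker_codRestrict _ _ _
  have hdetf : ∀ (X : GL (Fin n) K) (a : F),
      (a • ((k : Mn) * (X : Matrix (Fin n) (Fin n) K).map ι * ((k⁻¹ : GL (Fin n) F) : Mn))).det =
        a ^ n * ι (X : Matrix (Fin n) (Fin n) K).det := fun X a => by
    rw [det_smul, Fintype.card_fin, det_mul, det_mul, mul_comm (k : Mn).det, mul_assoc, ← det_mul, Units.mul_inv,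
      det_one, mul_one, RingHom.map_det]
    rfl
  have hval : ∀ x : GUn, (((D x : normOne F q) : Fˣ) : F) = ((x : GL (Fin n) F) : Mn).det := fun x => rfl
  have hmap : ((Subgroup.centralizer {(uAut ρ g : MulAut PSUn)}).comap conjPSU).map D = S := by
    ext u
    rw [hS]
    constructor
    · rintro ⟨x, hx, rfl⟩
      obtain ⟨X, c, a, h1, h2, h3⟩ := (mem_stab_uAut hF hρ hι hn hk he hBe x).1 hx
      exact ⟨X, c, a, h1, h2, by rw [hval, h3, hdetf]⟩
    · rintro ⟨X, c, a, h1, h2, h3⟩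
      obtain ⟨z, a', ha', hz, -⟩ := exists_intertwiner hF hρ hι (by omega) hk hk X (r := ι c) (by
        have h1' := congrArg (fun M : Matrix (Fin n) (Fin n) K => M.map ι) h1
        simp only [Matrix.map_mul, transpose_map, hBe, map_smul_mat, smul_smul, Matrix.mul_smul, Matrix.smul_mul] at h1'
        have h2' := congrArg (fun M : Mn => e⁻¹ • M) h1'
        simp only [smul_smul, inv_mul_cancel₀ he, one_smul] at h2'
        rw [h2']
        congr 1
        field_simp)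
      have ha'0 : a' ≠ 0 := fun h => by rw [h, zero_mul, zero_mul] at ha'; exact zero_ne_one ha'
      have hci : ι c ≠ 0 := by simp
      have hy : (Units.mk0 (a / a') (div_ne_zero (fun h => by rw [h, zero_mul, zero_mul] at h2; exact zero_ne_one h2) ha'0))
          ∈ normOne F q := by
        rw [mem_normOne_iff, Units.val_mk0, pow_succ, ← hρ, map_div₀, div_mul_div_comm, div_eq_one_iff_eq
          (mul_ne_zero (by simpa using ha'0) ha'0)]
        exact mul_right_cancel₀ hci (by linear_combination h2 - ha')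
      refine ⟨scalarGU ⟨_, hy⟩ * z, (mem_stab_uAut hF hρ hι hn hk he hBe _).2 ⟨X, c, a, h1, h2, ?_⟩, ?_⟩
      · rw [Subgroup.coe_mul, Units.val_mul, scalarGU_coe, hz, GeneralLinearGroup.coe_scalar, scalar_apply,
          ← Matrix.smul_eq_diagonal_mul, smul_smul]
        congr 1
        show a / a' * a' = a
        rw [div_mul_cancel₀ _ ha'0]
      · refine Subtype.ext (Units.ext ?_)
        rw [hval, h3, Subgroup.coe_mul, Units.val_mul, scalarGU_coe, hz, GeneralLinearGroup.coe_scalar, scalar_apply,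
          ← Matrix.smul_eq_diagonal_mul, smul_smul,
          hdetf]
        show (a / a' * a') ^ n * _ = _
        rw [div_mul_cancel₀ _ ha'0]
  rw [← hmap, Subgroup.index_map, MonoidHom.range_eq_top.2 hDs, Subgroup.index_top, mul_one, hDk]

include hF hρ hι in
/-- An involution of graph type has a symmetric or skew rational form. -/
lemma exists_formOf (hn : 3 ≤ n) (g : GUn) (h2 : orderOf (uAut ρ g : MulAut PSUn) = 2) :
    ∃ B : Matrix (Fin n) (Fin n) K, FormOf ρ ι g B ∧ B.det ≠ 0 ∧ (Bᵀ = B ∨ Bᵀ = -B) := by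
  obtain ⟨D⟩ := exists_invData hF hρ hn g (by rw [← h2]; exact pow_orderOf_eq_one _)
  choose B hB using fun i j => hι.surj _ ((D.B : Matrix (Fin n) (Fin n) (fixedField ρ)) i j).2
  have hBm : (Matrix.of B).map ι = (D.B : Matrix (Fin n) (Fin n) (fixedField ρ)).map (fixedField ρ).subtype :=
    Matrix.ext fun i j => hB i j
  refine ⟨Matrix.of B, ⟨D.k, ⟨D.d, D.hd, D.hg⟩, D.e, D.he, hBm.trans D.hB⟩, fun h => ?_, ?_⟩
  · have h' := congrArg ι h
    rw [map_zero, RingHom.map_det, RingHom.mapMatrix_apply, hBm.trans D.hB, det_smul] at h'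
    exact mul_ne_zero (pow_ne_zero _ D.he) (herm_det_ne_zero ρ D.k) h'
  · rcases D.hsym with h | h
    · exact Or.inl (Matrix.ext fun i j => ι.injective ((hB j i).trans
        ((congrArg Subtype.val (congrFun (congrFun h i) j)).trans (hB i j).symm)))
    · exact Or.inr (Matrix.ext fun i j => ι.injective ((hB j i).trans
        ((congrArg Subtype.val (congrFun (congrFun h i) j)).trans (by
          show -((D.B : Matrix (Fin n) (Fin n) (fixedField ρ)) i j : F) = ι ((-(Matrix.of B)) i j)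
          rw [Matrix.neg_apply, map_neg, Matrix.of_apply, hB]))))

include hF hρ in
lemma exists_onto (K : Type*) [Field K] [Fintype K] (hK : Fintype.card K = q) : ∃ ι : K →+* F, Onto ρ ι := by
  classical
  have hne := sigma_ne hF hρ
  have hinv := sigma_sigma hF hρ
  have hρ2 : orderOf ρ = 2 := orderOf_eq_prime (RingEquiv.ext fun a => by rw [sq, RingAut.mul_apply]; exact hinv a)
    fun h => hne h
  letI : Fintype (fixedField ρ) := Fintype.ofFinite _
  have hc := CfsgLib.PSLAut.card_fixedField ρ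
  rw [hρ2, hF] at hc
  have hq : q = Nat.card (fixedField ρ) := Nat.pow_left_injective two_ne_zero hc
  obtain ⟨p, _⟩ := CharP.exists K
  obtain ⟨e⟩ : Nonempty (K ≃+* fixedField ρ) := ⟨FiniteField.ringEquivOfCardEq (K := K) (K' := fixedField ρ)
    (by rw [hK, hq, Nat.card_eq_fintype_card])⟩
  exact ⟨(fixedField ρ).subtype.comp e.toRingHom, fun x => (e x).2,
    fun a ha => ⟨e.symm ⟨a, ha⟩, congrArg Subtype.val (e.apply_symm_apply _)⟩⟩

include hF hρ hι in
/-- Every symmetric or skew rational form occurs. -/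
lemma exists_uAut (hn : 3 ≤ n) (B : GL (Fin n) K)
    (hs : (B : Matrix (Fin n) (Fin n) K)ᵀ = B ∨ (B : Matrix (Fin n) (Fin n) K)ᵀ = -(B : Matrix (Fin n) (Fin n) K)) :
    ∃ g : GUn, FormOf ρ ι g (B : Matrix (Fin n) (Fin n) K) ∧ orderOf (uAut ρ g : MulAut PSUn) = 2 := by
  classical
  have hne := sigma_ne hF hρ
  have hinv := sigma_sigma hF hρ
  set Bm := (B : Matrix (Fin n) (Fin n) K).map ι with hBm
  obtain ⟨s, hss, hsB⟩ : ∃ s : F, s * s = 1 ∧ Bmᵀ = s • Bm := by
    rcases hs with h | h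
    · exact ⟨1, by simp, by rw [hBm, ← transpose_map, h, one_smul]⟩
    · exact ⟨-1, by simp, by rw [hBm, ← transpose_map, h, Matrix.map_neg _ (map_neg ι), neg_one_smul]⟩
  have hsfix : ρ s = s := by rcases mul_self_eq_one_iff.1 hss with rfl | rfl <;> simp
  obtain ⟨e, he, hee⟩ : ∃ e : F, e ≠ 0 ∧ ρ e = s * e := by
    rcases mul_self_eq_one_iff.1 hss with rfl | rfl
    · exact ⟨1, one_ne_zero, by simp⟩
    · obtain ⟨e, he0, he⟩ := exists_skew hne hinv
      exact ⟨e, he0, by linear_combination he⟩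
  have hs0 : s ≠ 0 := left_ne_zero_of_mul_eq_one hss
  have hBd : Bm.det ≠ 0 := by
    rw [hBm, show ((B : Matrix (Fin n) (Fin n) K).map ι).det = ι (B : Matrix (Fin n) (Fin n) K).det from (RingHom.map_det ι _).symm]
    simpa using GeneralLinearGroup.det_ne_zero B
  obtain ⟨k, hk⟩ := exists_herm_eq hinv hne (W := e⁻¹ • Bm) (by
    rw [transpose_smul, hsB, rho_smul_mat, hBm, sub_fix hι, map_inv₀, hee, smul_smul, _root_.mul_inv_rev]
    congr 2
    exact (inv_eq_of_mul_eq_one_right hss).symm) (by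
    rw [det_smul]
    exact mul_ne_zero (pow_ne_zero _ (inv_ne_zero he)) hBd)
  obtain ⟨d, hd⟩ := exists_norm_eq hne hinv hsfix
  have hd0 : d ≠ 0 := fun h => hs0 (by rw [← hd, h, zero_mul])
  obtain ⟨k1, k2⟩ := gl_inv_of_map ρ k
  set kρ := GeneralLinearGroup.map ρ.toRingHom k with hkρ
  let gg : GL (Fin n) F := GeneralLinearGroup.scalar (Fin n) (Units.mk0 d hd0) * (k * kρ⁻¹)
  have hgv : (gg : Mn) = d • ((k : Mn) * ((k⁻¹ : GL (Fin n) F) : Mn).map ρ) := by
    simp only [gg, Units.val_mul, GeneralLinearGroup.coe_scalar, scalar_apply, ← Matrix.smul_eq_diagonal_mul,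
      Units.val_mk0, hkρ, ← map_inv]
    rfl
  have hWs : ((k : Mn).map ρ)ᵀ * (k : Mn) = s • herm ρ (k : Mn) := by
    have h1 : (herm ρ (k : Mn))ᵀ = s • herm ρ (k : Mn) := by rw [hk, transpose_smul, hsB, smul_comm]
    rwa [herm, transpose_mul, transpose_transpose] at h1
  have hkkρ : (((k⁻¹ : GL (Fin n) F) : Mn).map ρ).map ρ = ((k⁻¹ : GL (Fin n) F) : Mn) := by ext i j; exact hinv _
  have hgg : gg ∈ GUn := by
    rw [mem_GU_iff_mul hρ, hgv, transpose_smul, rho_smul_mat, Matrix.smul_mul, Matrix.mul_smul, smul_smul, hd,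
      rho_mul_mat, hkkρ, transpose_mul, Matrix.mul_assoc, ← Matrix.mul_assoc (k : Mn)ᵀ,
      show (k : Mn)ᵀ * (k : Mn).map ρ = s • (((k : Mn).map ρ)ᵀ * (k : Mn)) by rw [hWs, smul_smul, hss, one_smul]; rfl,
      Matrix.smul_mul, Matrix.mul_smul, smul_smul, hss, one_smul, Matrix.mul_assoc (((k : Mn).map ρ)ᵀ),
      Units.mul_inv, Matrix.mul_one, ← transpose_mul, k1, transpose_one]
  have hrep : Rep ρ ⟨gg, hgg⟩ k := by
    refine ⟨d, hd0, ?_⟩
    show (gg : Mn) * _ = _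
    rw [hgv, Matrix.smul_mul, Matrix.mul_assoc, k2, Matrix.mul_one]
  refine ⟨⟨gg, hgg⟩, ⟨k, hrep, e, he, by rw [hk, smul_smul, mul_inv_cancel₀ he, one_smul]⟩, ?_⟩
  have hρ2 : orderOf ρ = 2 := orderOf_eq_prime (RingEquiv.ext fun a => by rw [sq, RingAut.mul_apply]; exact hinv a)
    fun h => hne h
  refine orderOf_eq_prime ?_ fun h => hne (conj_field_injective hF hρ hn (g' := 1) (τ' := 1) (h.trans (by
    rw [map_one, one_mul, ← fieldHomPSU_apply, map_one])))
  rw [uAut, conj_field_pow, ← hρ2, pow_orderOf_eq_one, ← fieldHomPSU_apply (1 : F ≃+* F), map_one, mul_one, hρ2]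
  refine conjPSU_eq_one_of_scalar (c := s) ?_
  rw [twGU_coe]
  simp only [CfsgLib.PSLAut.twNorm, mul_one, map_one, Units.val_mul, CfsgLib.PSLAut.fieldGL_val]
  show (gg : Mn) * (gg : Mn).map ρ = _
  rw [hgv, rho_smul_mat, rho_mul_mat, hkkρ, Matrix.smul_mul, Matrix.mul_smul, smul_smul, hd, Matrix.mul_assoc,
    ← Matrix.mul_assoc (((k⁻¹ : GL (Fin n) F) : Mn).map ρ), k2, Matrix.one_mul, Units.mul_inv]

end CfsgLib.PSUAut
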